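import Cfsg.Agent.Lib.KnownB.Sourour.Unipotent

/-!
# Commutators of endomorphisms of determinant one
-/

set_option autoImplicit false

namespace CfsgLib.KnownB.Sourour

open Module Polynomial

variable {K V W : Type*} [Field K] [AddCommGroup V] [Module K V] [AddCommGroup W] [Module K W]

/-- `A` is a commutator of two endomorphisms of determinant one. -/
def IsComm (A : End K V) : Prop :=
  ∃ a b : End K V, LinearMap.det a = 1 ∧ LinearMap.det b = 1 ∧ a * b = A * (b * a)

theorem IsComm.conj {A : End K V} (h : IsComm A) (e : V ≃ₗ[K] W) : IsComm (e.conj A) := by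
  obtain ⟨a, b, ha, hb, h⟩ := h
  refine ⟨e.conj a, e.conj b, ?_, ?_, ?_⟩
  · rw [LinearEquiv.conj_apply, LinearMap.comp_assoc, LinearMap.det_conj, ha]
  · rw [LinearEquiv.conj_apply, LinearMap.comp_assoc, LinearMap.det_conj, hb]
  · have hm : ∀ f g : End K V, e.conj f * e.conj g = e.conj (f * g) := fun f g =>
      (e.conj_comp g f).symm
    rw [hm, hm, hm, h]

/-- Endomorphisms commuting with `a` of every determinant repair the determinant of `b`. -/
theorem isComm_of_det_fix {A a b : End K V} (ha : LinearMap.det a = 1)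
    (hb : LinearMap.det b ≠ 0) (h : a * b = A * (b * a))
    (hz : ∀ d : K, d ≠ 0 → ∃ z : End K V, LinearMap.det z = d ∧ z * a = a * z) : IsComm A := by
  obtain ⟨z, hzd, hzc⟩ := hz (LinearMap.det b)⁻¹ (inv_ne_zero hb)
  refine ⟨a, b * z, ha, by rw [map_mul, hzd, mul_inv_cancel₀ hb], ?_⟩
  calc a * (b * z) = A * (b * a) * z := by rw [← mul_assoc, h]
    _ = A * (b * z * a) := by rw [mul_assoc, mul_assoc b a z, ← hzc, ← mul_assoc b z a]

variable {T : End K V} {m k : ℕ} {μ : Fin k → K}

variable [FiniteDimensional K V]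

/-- The basis adapted to a form. -/
noncomputable def HasForm.basis (h : HasForm T m μ) (hμ : Function.Injective μ)
    (hμ1 : ∀ j, μ j ≠ 1) : Basis (Fin m ⊕ Fin k) K V :=
  Basis.mk (h.independent hμ hμ1)
    ((h.independent hμ hμ1).span_eq_top_of_card_eq_finrank' (by simp [h.dim])).ge

theorem HasForm.det_eq (h : HasForm T m μ) (hμ : Function.Injective μ) (hμ1 : ∀ j, μ j ≠ 1) :
    LinearMap.det T = ∏ j, μ j := by
  classical
  let B := (h.basis hμ hμ1).reindex finSumFinEquiv
  have hB : ∀ x, B (finSumFinEquiv x) = h.family x := fun x => by simp [B, HasForm.basis]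
  have hl : ∀ i : Fin m, T (B (Fin.castAdd k i)) = B (Fin.castAdd k i) +
      if hi : (i : ℕ) + 1 < m then B (Fin.castAdd k ⟨i + 1, hi⟩) else 0 := by
    intro i
    rw [← finSumFinEquiv_apply_left, hB]
    change T (((T - 1) ^ (i : ℕ) : End K V) h.v) = _
    rw [apply_chain T, add_comm]
    split_ifs with hi
    · rw [← finSumFinEquiv_apply_left, hB]; rfl
    · rw [show (i : ℕ) + 1 = m by have := i.2; omega, h.top]; rfl
  have hr : ∀ j : Fin k, T (B (Fin.natAdd m j)) = μ j • B (Fin.natAdd m j) := by
    intro j
    rw [← finSumFinEquiv_apply_right, hB]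
    exact h.eig j
  have hlow : (LinearMap.toMatrix B B T).IsLowerTriangular := by
    intro x y hxy
    have hxy' : (x : ℕ) < y := hxy
    rw [LinearMap.toMatrix_apply]
    induction y using Fin.addCases with
    | left i =>
      rw [hl i, map_add, B.repr_self]
      have hne : x ≠ Fin.castAdd k i := fun e => by subst e; omega
      split_ifs with hi
      · have hne' : x ≠ Fin.castAdd k ⟨i + 1, hi⟩ := fun e => by
          subst e
          simp at hxy'
        rw [B.repr_self, Finsupp.add_apply, Finsupp.single_eq_of_ne hne, Finsupp.single_eq_of_ne hne',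
          add_zero]
      · simp [hne.symm]
    | right j =>
      have hne : x ≠ Fin.natAdd m j := fun e => by subst e; omega
      simp [hr j, B.repr_self, hne.symm]
  rw [← LinearMap.det_toMatrix B, Matrix.det_of_isLowerTriangular _ hlow, Fin.prod_univ_add,
    Finset.prod_eq_one, one_mul]
  · exact Finset.prod_congr rfl fun j _ => by simp [LinearMap.toMatrix_apply, hr j, B.repr_self]
  · intro i _
    rw [LinearMap.toMatrix_apply, hl i]
    split_ifs with hi
    · have hne : Fin.castAdd k i ≠ Fin.castAdd k ⟨i + 1, hi⟩ := fun e => by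
        simpa using congrArg Fin.val e
      rw [map_add, B.repr_self, B.repr_self, Finsupp.add_apply, Finsupp.single_eq_same,
        Finsupp.single_eq_of_ne hne, add_zero]
    · simp [B.repr_self]

/-- With an eigenvector the centralizer has all determinants. -/
theorem HasForm.exists_commute_det (h : HasForm T m μ) (hμ : Function.Injective μ)
    (hμ1 : ∀ j, μ j ≠ 1) (j₀ : Fin k) (d : K) :
    ∃ z : End K V, LinearMap.det z = d ∧ z * T = T * z := by
  classical
  let B := h.basis hμ hμ1
  have hB : ∀ x, B x = h.family x := fun x => Basis.mk_apply _ _ x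
  let c : Fin m ⊕ Fin k → K := fun x => if x = Sum.inr j₀ then d else 1
  let z : End K V := B.constr K fun x => c x • B x
  have hz : ∀ x, z (B x) = c x • B x := fun x => B.constr_basis K _ x
  have hcl : ∀ i, c (Sum.inl i) = 1 := fun i => by simp [c]
  have hchain : ∀ i : Fin m, z (((T - 1) ^ (i : ℕ) : End K V) h.v) =
      ((T - 1) ^ (i : ℕ) : End K V) h.v := by
    intro i
    have := hz (Sum.inl i)
    rwa [hcl, one_smul, hB] at this
  refine ⟨z, ?_, B.ext fun x => ?_⟩
  · rw [← LinearMap.det_toMatrix B]
    have hdiag : LinearMap.toMatrix B B z = Matrix.diagonal c := by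
      ext x y
      rw [LinearMap.toMatrix_apply, hz, Matrix.diagonal_apply]
      by_cases hxy : x = y
      · subst hxy; simp
      · simp [hxy, Ne.symm hxy]
    rw [hdiag, Matrix.det_diagonal]
    simp [c]
  · rw [Module.End.mul_apply, Module.End.mul_apply, hz, map_smul]
    rcases x with i | j
    · rw [hcl, one_smul, hB]
      change z (T (((T - 1) ^ (i : ℕ) : End K V) h.v)) = T (((T - 1) ^ (i : ℕ) : End K V) h.v)
      rw [apply_chain T, map_add, hchain]
      congr 1
      by_cases hi : (i : ℕ) + 1 < m
      · exact hchain ⟨(i : ℕ) + 1, hi⟩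
      · rw [show (i : ℕ) + 1 = m by have := i.2; omega, h.top, map_zero]
    · have hTj : T (B (Sum.inr j)) = μ j • B (Sum.inr j) := by rw [hB]; exact h.eig j
      rw [hTj, map_smul, hz, smul_comm]

/-- A product of two regular elements of one class with full centralizer determinants. -/
theorem isComm_of_factors {A : End K V} {L U : End K V} (hA : A = L * U)
    {μ : Fin 2 → K} (hμ : Function.Injective μ) (hμ1 : ∀ j, μ j ≠ 1) (hprod : μ 0 * μ 1 = 1)
    (hL : HasForm L m μ) (hU : HasForm U m μ) : IsComm A := by
  have hLd : LinearMap.det L = 1 := by rw [hL.det_eq hμ hμ1, Fin.prod_univ_two, hprod]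
  have hbij : Function.Bijective L := (Module.End.isUnit_iff L).1
    ((LinearMap.isUnit_iff_isUnit_det L).2 (by rw [hLd]; exact isUnit_one))
  let E := LinearEquiv.ofBijective L hbij
  let Li : End K V := E.symm.toLinearMap
  have h1 : L * Li = 1 := LinearMap.ext fun v => E.apply_symm_apply v
  have h2 : Li * L = 1 := LinearMap.ext fun v => E.symm_apply_apply v
  let hI := hL.inv Li h1 h2 ![1, 0] (fun j => by
    fin_cases j
    · exact hprod
    · exact (mul_comm _ _).trans hprod)
  obtain ⟨e, he⟩ := hI.conj hU hμ hμ1 (by omega)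
  refine isComm_of_det_fix hLd (b := e.toLinearMap) (LinearEquiv.isUnit_det' e).ne_zero ?_
    (fun d _ => hL.exists_commute_det hμ hμ1 0 d)
  refine LinearMap.ext fun v => ?_
  simp only [Module.End.mul_apply, hA, LinearEquiv.coe_coe]
  have h2' : Li (L v) = v := E.symm_apply_apply v
  rw [← he, h2']

/-- Over a field with at least four elements, when `A - 1` has rank at least two. -/
theorem isComm_of_rank (h4 : 4 ≤ ENat.card K) (h3 : 3 ≤ finrank K V) (A : End K V)
    (hdet : LinearMap.det A = 1) (hr : 2 ≤ finrank K (LinearMap.range (A - 1)))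
    (hns : ¬ ∃ a : K, A = a • (1 : End K V)) : IsComm A := by
  classical
  obtain ⟨a, ha⟩ := exists_scalar h4 {0, 1, -1} Finset.card_le_three
  simp only [Finset.mem_insert, Finset.mem_singleton, not_or] at ha
  obtain ⟨ha0, ha1, ham⟩ := ha
  have haa : a⁻¹ ≠ a := fun h => by
    have : (a - 1) * (a + 1) = 0 := by
      have := mul_inv_cancel₀ ha0
      rw [h] at this
      linear_combination this
    rcases mul_eq_zero.1 this with h' | h'
    · exact ha1 (sub_eq_zero.1 h')
    · exact ham (eq_neg_of_add_eq_zero_left h')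
  obtain ⟨b, hb⟩ : ∃ b : V, b ≠ 0 := by
    by_contra h
    push Not at h
    exact hns ⟨1, LinearMap.ext fun v => by rw [h v]; simp⟩
  obtain ⟨c, -, hc⟩ := exists_form (p := (⊥ : Submodule K V)) (v := b) (by simpa using hb)
  have hm : finrank K V = (finrank K V - 2) + 2 := by omega
  obtain ⟨F⟩ := factor_pair h4 ha0 haa (finrank K V - 2) hm (by omega) A hdet hr hns b c hb
    (fun h => hc (by rw [h]; rfl))
  have hμmem : ∀ j : Fin 2, (![a, a⁻¹] : Fin 2 → K) j ∈ ({a, a⁻¹} : Finset K) := fun j => by
    fin_cases j <;> simp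
  obtain ⟨hL⟩ := F.formL hm hμmem
  obtain ⟨hU⟩ := F.formU hm hμmem
  refine isComm_of_factors F.hmul ?_ ?_ (by simp [mul_inv_cancel₀ ha0]) hL hU
  · intro i j hij
    fin_cases i <;> fin_cases j
    exacts [rfl, absurd hij.symm haa, absurd hij haa, rfl]
  · intro j
    fin_cases j
    · exact ha1
    · simpa [inv_eq_one] using ha1

/-- A non-scalar endomorphism of a plane over a field with at least four elements. -/
theorem isComm_of_plane (h4 : 4 ≤ ENat.card K) (h2 : finrank K V = 2) (A : End K V)
    (hdet : LinearMap.det A = 1) (hns : ¬ ∃ a : K, A = a • (1 : End K V)) : IsComm A := by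
  classical
  obtain ⟨a, ha⟩ := exists_scalar h4 {0, 1, -1} Finset.card_le_three
  simp only [Finset.mem_insert, Finset.mem_singleton, not_or] at ha
  obtain ⟨ha0, ha1, ham⟩ := ha
  have haa : a⁻¹ ≠ a := fun h => by
    have : (a - 1) * (a + 1) = 0 := by
      have := mul_inv_cancel₀ ha0
      rw [h] at this
      linear_combination this
    rcases mul_eq_zero.1 this with h' | h'
    · exact ha1 (sub_eq_zero.1 h')
    · exact ham (eq_neg_of_add_eq_zero_left h')
  obtain ⟨F⟩ := factor_plane h2 A hdet hns ha0 haa
  have mk : ∀ S : End K V, (∀ e ∈ ({a, a⁻¹} : Finset K), ∃ w, w ≠ 0 ∧ S w = e • w) →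
      Nonempty (HasForm S 0 (![a, a⁻¹] : Fin 2 → K)) := by
    intro S hS
    obtain ⟨w, hw0, hw⟩ := hS a (by simp)
    obtain ⟨w', hw0', hw'⟩ := hS a⁻¹ (by simp)
    exact ⟨{ v := 0, w := ![w, w'], top := (by simp), pred := (fun h => absurd h (by omega)),
             eig := (fun j => by fin_cases j <;> simpa), ne := (fun j => by fin_cases j <;> simpa),
             dim := (by simp [h2]) }⟩
  obtain ⟨hL⟩ := mk F.L F.hLe
  obtain ⟨hU⟩ := mk F.U F.hUe
  refine isComm_of_factors F.hmul ?_ ?_ (by simp [mul_inv_cancel₀ ha0]) hL hU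
  · intro i j hij
    fin_cases i <;> fin_cases j
    exacts [rfl, absurd hij.symm haa, absurd hij haa, rfl]
  · intro j
    fin_cases j
    · exact ha1
    · simpa [inv_eq_one] using ha1

/-- Transvections are commutators in dimension at least three. -/
theorem isComm_transvection (h3 : 3 ≤ finrank K V) (f : Dual K V) (u : V) (hf : f ≠ 0)
    (hu : u ≠ 0) (hfu : f u = 0) : IsComm (LinearMap.transvection f u) := by
  let B := finBasis K V
  let i0 : Fin (finrank K V) := ⟨0, by omega⟩
  let i1 : Fin (finrank K V) := ⟨1, by omega⟩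
  let i2 : Fin (finrank K V) := ⟨2, by omega⟩
  have h01 : i0 ≠ i1 := fun h => by simpa [i0, i1] using congrArg Fin.val h
  have h02 : i0 ≠ i2 := fun h => by simpa [i0, i2] using congrArg Fin.val h
  have h12 : i1 ≠ i2 := fun h => by simpa [i1, i2] using congrArg Fin.val h
  have e10 : B.coord i1 (B i0) = 0 := by simp [h01]
  have e20 : B.coord i2 (B i0) = 0 := by simp [h02]
  have e12 : B.coord i1 (B i2) = 0 := by simp [h12.symm]
  have e22 : B.coord i2 (B i2) = 1 := by simp
  obtain ⟨e, he⟩ := transvection_conj (B.coord i1) f (B i0) u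
    (fun h => by
      have := LinearMap.congr_fun h (B i1)
      simp at this) hf (B.ne_zero i0) hu e10 hfu
  have heq : LinearMap.transvection f u =
      e.conj (LinearMap.transvection (B.coord i1) (B i0)) := LinearMap.ext fun v => by
    rw [LinearEquiv.conj_apply_apply, he, e.apply_symm_apply]
  rw [heq]
  refine IsComm.conj ⟨LinearMap.transvection (B.coord i2) (B i0),
    LinearMap.transvection (B.coord i1) (B i2), ?_, ?_, LinearMap.ext fun v => ?_⟩ e
  · rw [LinearMap.transvection.det, e20, add_zero]
  · rw [LinearMap.transvection.det, e12, add_zero]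
  · simp only [Module.End.mul_apply, LinearMap.transvection.apply, map_add, map_smul, e10, e20,
      e12, e22, add_zero, zero_smul, smul_add, one_smul]
    abel

/-- Non-scalar elements, fields with at least four elements. -/
theorem isComm_of_not_scalar (h4 : 4 ≤ ENat.card K) (h2 : 2 ≤ finrank K V) (A : End K V)
    (hdet : LinearMap.det A = 1) (hns : ¬ ∃ a : K, A = a • (1 : End K V)) : IsComm A := by
  by_cases h3 : 3 ≤ finrank K V
  · by_cases hr : 2 ≤ finrank K (LinearMap.range (A - 1))
    · exact isComm_of_rank h4 h3 A hdet hr hns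
    · obtain ⟨f, u, hf, hu, hfu, hA⟩ := exists_transvection A hdet
        (fun h => hns ⟨1, by rw [h, one_smul]⟩) (by omega)
      rw [hA]
      exact isComm_transvection h3 f u hf hu hfu
  · exact isComm_of_plane h4 (by omega) A hdet hns

end CfsgLib.KnownB.Sourour
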