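import Cfsg.Agent.Lib.KnownB.Sourour.Comm

/-!
# Peeling a scalar top block

`Twist A` records `A = L * (e L⁻¹ e⁻¹)` together with centraliser determinants for `L`. If
`A` acts as the scalar `c` on a subspace modulo a complement, a twist of the remaining block
extends to `A`, provided the polynomial of the chosen top block avoids the old one.
-/

set_option autoImplicit false

namespace CfsgLib.KnownB.Sourour

open Module Polynomial

variable {K V V' W U : Type*} [Field K] [AddCommGroup V] [Module K V] [AddCommGroup V']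
  [Module K V'] [AddCommGroup W] [Module K W] [AddCommGroup U] [Module K U]

theorem conj_mul (e : V ≃ₗ[K] V') (f g : End K V) : e.conj (f * g) = e.conj f * e.conj g :=
  e.conj_comp g f

theorem conj_one (e : V ≃ₗ[K] V') : e.conj (1 : End K V) = 1 := e.conj_id

theorem det_equivConj (e : V ≃ₗ[K] V') (f : End K V) :
    LinearMap.det (e.conj f) = LinearMap.det f := by
  rw [LinearEquiv.conj_apply, LinearMap.comp_assoc, LinearMap.det_conj]

theorem conj_conj (e : V ≃ₗ[K] V') (h : V ≃ₗ[K] V) (f : End K V) :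
    e.conj (h.conj f) = (e.symm ≪≫ₗ h ≪≫ₗ e).conj (e.conj f) := by
  refine LinearMap.ext fun v => ?_
  simp [LinearEquiv.conj_apply_apply]

/-- `A = L * (e L⁻¹ e⁻¹)` with all determinants in the centraliser of `L`. -/
structure Twist (A : End K V) where
  L : End K V
  Li : End K V
  h1 : L * Li = 1
  h2 : Li * L = 1
  e : V ≃ₗ[K] V
  hA : A = L * e.conj Li
  fix : ∀ d : K, d ≠ 0 → ∃ z : End K V, LinearMap.det z = d ∧ z * L = L * z

theorem Twist.isComm {A : End K V} (T : Twist A) (hd : LinearMap.det T.L = 1) : IsComm A := by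
  refine isComm_of_det_fix hd (b := T.e.toLinearMap) (LinearEquiv.isUnit_det' T.e).ne_zero
    (LinearMap.ext fun v => ?_) T.fix
  simp only [Module.End.mul_apply, LinearEquiv.coe_coe]
  rw [LinearMap.congr_fun T.hA (T.e (T.L v)), Module.End.mul_apply, LinearEquiv.conj_apply_apply,
    T.e.symm_apply_apply, ← Module.End.mul_apply T.Li, T.h2, Module.End.one_apply]

/-- Transport. -/
def Twist.map {A : End K V} (T : Twist A) (φ : V ≃ₗ[K] V') : Twist (φ.conj A) where
  L := φ.conj T.L
  Li := φ.conj T.Li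
  h1 := by rw [← conj_mul, T.h1, conj_one]
  h2 := by rw [← conj_mul, T.h2, conj_one]
  e := φ.symm ≪≫ₗ T.e ≪≫ₗ φ
  hA := by rw [← conj_conj, ← conj_mul, ← T.hA]
  fix d hd := by
    obtain ⟨z, hzd, hzc⟩ := T.fix d hd
    exact ⟨φ.conj z, by rw [det_equivConj, hzd], by rw [← conj_mul, hzc, conj_mul]⟩

theorem Twist.map_aeval {A : End K V} (T : Twist A) (φ : V ≃ₗ[K] V') (p : K[X]) (h : aeval T.L p = 0) :
    aeval (T.map φ).L p = 0 := by
  refine LinearMap.ext fun v => ?_
  have hi : ∀ u, φ.toLinearMap (T.L u) = (T.map φ).L (φ.toLinearMap u) := fun u => by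
    simp [Twist.map, LinearEquiv.conj_apply_apply]
  have := aeval_intertwine φ.toLinearMap T.L (T.map φ).L hi p (φ.symm v)
  rw [h, LinearMap.zero_apply, map_zero] at this
  simpa using this.symm

/-- Negating both factors. -/
def Twist.neg {A : End K V} (T : Twist A) : Twist A where
  L := -T.L
  Li := -T.Li
  h1 := by rw [neg_mul_neg, T.h1]
  h2 := by rw [neg_mul_neg, T.h2]
  e := T.e
  hA := by rw [map_neg, neg_mul_neg]; exact T.hA
  fix d hd := by
    obtain ⟨z, hzd, hzc⟩ := T.fix d hd
    exact ⟨z, hzd, by rw [mul_neg, neg_mul, hzc]⟩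

/-- A top block: `B` with `c • B⁻¹` similar to `B⁻¹`, killed by `g`. -/
structure Block (K W : Type*) [Field K] [AddCommGroup W] [Module K W] (c : K) where
  B : End K W
  Bi : End K W
  h1 : B * Bi = 1
  h2 : Bi * B = 1
  e : W ≃ₗ[K] W
  hc : c • Bi = e.conj Bi
  g : K[X]
  hg : aeval B g = 0

/-- No intertwiners between coprime endomorphisms. -/
theorem intertwiner_eq_zero {B : End K W} {L : End K U} {g : K[X]} (hg : aeval B g = 0)
    (hinj : Function.Injective (aeval L g)) (Z : W →ₗ[K] U) (h : ∀ w, Z (B w) = L (Z w)) :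
    Z = 0 := by
  refine LinearMap.ext fun w => hinj ?_
  have := aeval_intertwine Z B L h g w
  rw [hg, LinearMap.zero_apply, map_zero] at this
  rw [← this, LinearMap.zero_apply, map_zero]

theorem intertwiner_eq_zero' [FiniteDimensional K U] {B : End K W} {L : End K U} {g : K[X]}
    (hg : aeval B g = 0) (hinj : Function.Injective (aeval L g)) (Z : U →ₗ[K] W)
    (h : ∀ u, Z (L u) = B (Z u)) : Z = 0 := by
  refine LinearMap.ext fun u => ?_
  obtain ⟨v, rfl⟩ := LinearMap.surjective_of_injective hinj u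
  rw [aeval_intertwine Z L B h g v, hg]
  rfl

/-- The shear `(w, u) ↦ (w, u + Z w)`. -/
def shearDown (Z : W →ₗ[K] U) : (W × U) ≃ₗ[K] (W × U) where
  toFun x := (x.1, x.2 + Z x.1)
  map_add' x y := by
    refine Prod.ext rfl ?_
    simp only [Prod.fst_add, Prod.snd_add, map_add]
    abel
  map_smul' r x := by
    refine Prod.ext rfl ?_
    simp [smul_add]
  invFun x := (x.1, x.2 - Z x.1)
  left_inv x := by simp
  right_inv x := by simp

/-- The shear `(w, u) ↦ (w + Z u, u)`. -/
def shearUp (Z : U →ₗ[K] W) : (W × U) ≃ₗ[K] (W × U) where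
  toFun x := (x.1 + Z x.2, x.2)
  map_add' x y := by
    refine Prod.ext ?_ rfl
    simp only [Prod.fst_add, Prod.snd_add, map_add]
    abel
  map_smul' r x := by
    refine Prod.ext ?_ rfl
    simp [smul_add]
  invFun x := (x.1 - Z x.2, x.2)
  left_inv x := by simp
  right_inv x := by simp

@[simp] theorem shearDown_apply (Z : W →ₗ[K] U) (x : W × U) :
    shearDown Z x = (x.1, x.2 + Z x.1) := rfl

@[simp] theorem shearDown_symm_apply (Z : W →ₗ[K] U) (x : W × U) :
    (shearDown Z).symm x = (x.1, x.2 - Z x.1) := rfl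

@[simp] theorem shearUp_apply (Z : U →ₗ[K] W) (x : W × U) :
    shearUp Z x = (x.1 + Z x.2, x.2) := rfl

@[simp] theorem shearUp_symm_apply (Z : U →ₗ[K] W) (x : W × U) :
    (shearUp Z).symm x = (x.1 - Z x.2, x.2) := rfl

variable [FiniteDimensional K W] [FiniteDimensional K U]

theorem exists_sylvester {B : End K W} {L : End K U}
    (h : ∀ Z : W →ₗ[K] U, (∀ w, Z (B w) = L (Z w)) → Z = 0) (x : W →ₗ[K] U) :
    ∃ Z : W →ₗ[K] U, ∀ w, Z (B w) - L (Z w) = x w := by
  let Φ : (W →ₗ[K] U) →ₗ[K] (W →ₗ[K] U) :=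
    { toFun := fun Z => Z ∘ₗ B - L ∘ₗ Z
      map_add' := fun Y Z => by ext; simp; abel
      map_smul' := fun r Z => by ext; simp [smul_sub] }
  have hinj : Function.Injective Φ := by
    rw [← LinearMap.ker_eq_bot, eq_bot_iff]
    intro Z hZ
    rw [Submodule.mem_bot]
    refine h Z fun w => ?_
    simpa [Φ, sub_eq_zero] using LinearMap.congr_fun (LinearMap.mem_ker.1 hZ) w
  obtain ⟨Z, hZ⟩ := LinearMap.surjective_of_injective hinj x
  exact ⟨Z, fun w => LinearMap.congr_fun hZ w⟩

/-- The block form `(w, u) ↦ (c w + p u, b w + R u)`. -/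
def blockMap (c : K) (p : U →ₗ[K] W) (b : W →ₗ[K] U) (R : End K U) : End K (W × U) :=
  LinearMap.prod (c • LinearMap.fst K W U + p ∘ₗ LinearMap.snd K W U)
    (b ∘ₗ LinearMap.fst K W U + R ∘ₗ LinearMap.snd K W U)

omit [FiniteDimensional K W] [FiniteDimensional K U] in
theorem blockMap_apply (c : K) (p : U →ₗ[K] W) (b : W →ₗ[K] U) (R : End K U) (x : W × U) :
    blockMap c p b R x = (c • x.1 + p x.2, b x.1 + R x.2) := rfl

/-- The determinant of a block map. -/
theorem det_blockMap {c : K} (hc : c ≠ 0) (p : U →ₗ[K] W) (b : W →ₗ[K] U) (R : End K U) :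
    LinearMap.det (blockMap c p b R) =
      c ^ finrank K W * LinearMap.det (R - c⁻¹ • (b ∘ₗ p)) := by
  classical
  let bW := finBasis K W
  let bU := finBasis K U
  have h : LinearMap.toMatrix (bW.prod bU) (bW.prod bU) (blockMap c p b R) =
      Matrix.fromBlocks (c • 1) (LinearMap.toMatrix bU bW p) (LinearMap.toMatrix bW bU b)
        (LinearMap.toMatrix bU bU R) := by
    ext i j
    rcases i with i | i <;> rcases j with j | j <;>
      simp [LinearMap.toMatrix_apply, blockMap_apply, Matrix.one_apply, Finsupp.single_apply,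
        eq_comm]
  rw [← LinearMap.det_toMatrix (bW.prod bU), h]
  let _inv : Invertible (c • (1 : Matrix (Fin (finrank K W)) (Fin (finrank K W)) K)) :=
    ⟨c⁻¹ • 1, by simp [smul_smul, hc], by simp [smul_smul, hc]⟩
  rw [Matrix.det_fromBlocks₁₁, Matrix.det_smul, Matrix.det_one, mul_one, Fintype.card_fin,
    ← LinearMap.det_toMatrix bU, map_sub, map_smul, LinearMap.toMatrix_comp bU bW bU]
  congr 2
  have hinv : ⅟(c • (1 : Matrix (Fin (finrank K W)) (Fin (finrank K W)) K)) = c⁻¹ • 1 :=
    invOf_eq_right_inv (by simp [smul_smul, hc])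
  rw [hinv]
  simp

variable {c : K}

/-- Extending a twist by a block. -/
theorem peel (hc0 : c ≠ 0) (β : Block K W c) (p : U →ₗ[K] W) (b : W →ₗ[K] U) (R : End K U)
    (T : Twist (R - c⁻¹ • (b ∘ₗ p))) (hinj : Function.Injective (aeval T.L β.g)) :
    ∃ T' : Twist (blockMap c p b R),
      LinearMap.det T'.L = LinearMap.det β.B * LinearMap.det T.L ∧
        ∀ P : K[X], aeval T.L P = 0 → aeval T'.L (β.g * P) = 0 := by
  have b1 : ∀ w, β.B (β.Bi w) = w := fun w => LinearMap.congr_fun β.h1 w
  have b2 : ∀ w, β.Bi (β.B w) = w := fun w => LinearMap.congr_fun β.h2 w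
  have l1 : ∀ u, T.L (T.Li u) = u := fun w => LinearMap.congr_fun T.h1 w
  have l2 : ∀ u, T.Li (T.L u) = u := fun w => LinearMap.congr_fun T.h2 w
  -- the lower shear
  obtain ⟨Z, hZ⟩ := exists_sylvester (fun Z h => intertwiner_eq_zero β.hg hinj Z h)
    (c⁻¹ • (b ∘ₗ β.B) : W →ₗ[K] U)
  -- the upper shear
  obtain ⟨Y, hY⟩ := exists_sylvester (B := T.e.conj T.Li) (L := c • β.Bi) (fun Y h => by
    have h0 : (β.e.symm.toLinearMap ∘ₗ Y ∘ₗ T.e.toLinearMap) = 0 := by
      refine intertwiner_eq_zero' β.hg hinj _ fun u => ?_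
      have := h (T.e (T.L u))
      rw [β.hc, LinearEquiv.conj_apply_apply, LinearEquiv.conj_apply_apply,
        T.e.symm_apply_apply, l2] at this
      simp only [LinearMap.comp_apply, LinearEquiv.coe_coe]
      rw [this, β.e.symm_apply_apply, b1]
    refine LinearMap.ext fun u => ?_
    have := LinearMap.congr_fun h0 (T.e.symm u)
    simpa using this) (β.Bi ∘ₗ p : U →ₗ[K] W)
  let P := shearDown Z
  let Q := shearUp Y
  let D : End K (W × U) := LinearMap.prodMap β.B T.L
  let Di : End K (W × U) := LinearMap.prodMap β.Bi T.Li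
  let E : (W × U) ≃ₗ[K] (W × U) := LinearEquiv.prodCongr β.e T.e
  refine ⟨⟨P.conj D, P.conj Di, ?_, ?_, P.symm ≪≫ₗ E ≪≫ₗ Q, ?_, ?_⟩, ?_, ?_⟩
  · rw [← conj_mul]
    refine Eq.trans (congrArg P.conj (LinearMap.ext fun x => ?_)) (conj_one P)
    exact Prod.ext (b1 _) (l1 _)
  · rw [← conj_mul]
    refine Eq.trans (congrArg P.conj (LinearMap.ext fun x => ?_)) (conj_one P)
    exact Prod.ext (b2 _) (l2 _)
  · refine LinearMap.ext fun x => ?_
    have hcB : ∀ w, β.e (β.Bi (β.e.symm w)) = c • β.Bi w := fun w => by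
      rw [← LinearEquiv.conj_apply_apply, ← β.hc, LinearMap.smul_apply]
    have hL : ∀ y : W × U, P.conj D y = (β.B y.1, c⁻¹ • b (β.B y.1) + T.L y.2) := fun y => by
      refine Prod.ext ?_ ?_
      · simp [P, D, LinearEquiv.conj_apply_apply]
      · have := hZ y.1
        simp only [LinearMap.smul_apply, LinearMap.comp_apply] at this
        simp [P, D, LinearEquiv.conj_apply_apply, ← this]
        abel
    have hU : (P.symm ≪≫ₗ E ≪≫ₗ Q).conj (P.conj Di) x =
        (c • β.Bi x.1 + β.Bi (p x.2), T.e.conj T.Li x.2) := by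
      have := hY x.2
      simp only [LinearMap.smul_apply, LinearMap.comp_apply] at this
      refine Prod.ext ?_ ?_
      · simp only [P, Q, E, Di, LinearEquiv.conj_apply_apply, LinearEquiv.trans_apply,
          LinearEquiv.symm_trans_apply, LinearEquiv.symm_symm, shearDown_apply,
          shearDown_symm_apply, shearUp_apply, shearUp_symm_apply, LinearEquiv.prodCongr_apply,
          LinearEquiv.prodCongr_symm, LinearMap.prodMap_apply, add_sub_cancel_right]
        rw [hcB, ← this, LinearEquiv.conj_apply_apply, map_sub, smul_sub]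
        abel
      · simp [P, Q, E, Di, LinearEquiv.conj_apply_apply]
    rw [Module.End.mul_apply, hU, hL, blockMap_apply]
    have hM : T.L (T.e.conj T.Li x.2) = R x.2 - c⁻¹ • b (p x.2) :=
      (LinearMap.congr_fun T.hA x.2).symm
    refine Prod.ext ?_ ?_
    · simp [map_add, map_smul, b1]
    · simp only [map_add, map_smul, b1, hM, smul_smul, inv_mul_cancel₀ hc0, one_smul, smul_add]
      abel
  · intro d hd
    obtain ⟨z, hzd, hzc⟩ := T.fix d hd
    refine ⟨P.conj (LinearMap.prodMap LinearMap.id z), ?_, ?_⟩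
    · rw [det_equivConj, LinearMap.det_prodMap, LinearMap.det_id, one_mul, hzd]
    · rw [← conj_mul, ← conj_mul]
      congr 1
      exact LinearMap.ext fun x => Prod.ext rfl (LinearMap.congr_fun hzc x.2)
  · change LinearMap.det (P.conj D) = _
    rw [det_equivConj, LinearMap.det_prodMap]
  · intro S hS
    change aeval (P.conj D) (β.g * S) = 0
    refine LinearMap.ext fun x => ?_
    have hi : ∀ y, P.toLinearMap (D y) = (P.conj D) (P.toLinearMap y) := fun y => by
      simp [LinearEquiv.conj_apply_apply]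
    have h1 := aeval_intertwine P.toLinearMap D (P.conj D) hi (β.g * S) (P.symm x)
    have h2 : aeval D (β.g * S) (P.symm x) = 0 := by
      refine Prod.ext ?_ ?_
      · rw [← LinearMap.fst_apply (R := K) (M := W) (M₂ := U) (aeval D (β.g * S) (P.symm x)),
          aeval_intertwine (LinearMap.fst K W U) D β.B (fun _ => rfl), map_mul, β.hg, zero_mul]
        rfl
      · rw [← LinearMap.snd_apply (R := K) (M := W) (M₂ := U) (aeval D (β.g * S) (P.symm x)),
          aeval_intertwine (LinearMap.snd K W U) D T.L (fun _ => rfl), map_mul, hS, mul_zero]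
        rfl
    rw [h2, map_zero, LinearEquiv.coe_coe, P.apply_symm_apply] at h1
    rw [← h1]
    rfl

end CfsgLib.KnownB.Sourour
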