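import Cfsg.Agent.Lib.KnownB.Sourour.Two

/-!
# The field with three elements
-/

set_option autoImplicit false

namespace CfsgLib.KnownB.Sourour

open Module Polynomial

variable {V : Type*} [AddCommGroup V] [Module (ZMod 3) V] [FiniteDimensional (ZMod 3) V]

theorem cases_three : ∀ x : ZMod 3, x = 0 ∨ x = 1 ∨ x = -1 := by decide

/-- Either a top space with `c = 1` or a large eigenspace for `-1`. -/
theorem exists_top_three (A : End (ZMod 3) V) (hdet : LinearMap.det A = 1) (k : ℕ)
    (h2 : 2 * k ≤ finrank (ZMod 3) V) (h3 : 3 * k ≤ finrank (ZMod 3) V + 2) :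
    (∃ W : Submodule (ZMod 3) V, finrank (ZMod 3) W = k ∧
      Disjoint W (W.map (A - (1 : ZMod 3) • 1))) ∨
      finrank (ZMod 3) (LinearMap.range (A - (-1 : ZMod 3) • 1)) + 2 ≤ 2 * k := by
  rcases exists_disjoint_image (A - (1 : ZMod 3) • 1) k h2 with h | ⟨μ, hμ⟩
  · exact Or.inl h
  · rcases cases_three μ with rfl | rfl | rfl
    · rw [zero_smul, sub_zero] at hμ
      exact Or.inl (exists_kernel_space A 1 (r := 2 * k - 2) (by omega) (by omega))
    · rw [sub_sub, ← add_smul, show (1 : ZMod 3) + 1 = -1 by decide] at hμ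
      exact Or.inr hμ
    · rw [sub_sub, ← add_smul, add_neg_cancel, zero_smul, sub_zero, rank_full hdet] at hμ
      omega

section field

variable {G : Type*} [Field G] [Algebra (ZMod 3) G] [FiniteDimensional (ZMod 3) G]

theorem norm_three_eq [Finite G] {α : G} {ε : ZMod 3}
    (h : α ^ ((Nat.card G - 1) / 2) = algebraMap (ZMod 3) G ε) : Algebra.norm (ZMod 3) α = ε := by
  apply (algebraMap (ZMod 3) G).injective
  rw [FiniteField.algebraMap_norm_eq_pow, Nat.card_zmod, h]

theorem norm_sq_three {α : G} (hα : α ≠ 0) : Algebra.norm (ZMod 3) (α * α) = 1 := by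
  have h : ∀ x : ZMod 3, x ≠ 0 → x * x = 1 := by decide
  rw [map_mul]
  exact h _ (Algebra.norm_ne_zero_iff.2 hα)

theorem norm_neg_three (α : G) :
    Algebra.norm (ZMod 3) (-α) = (-1) ^ finrank (ZMod 3) G * Algebra.norm (ZMod 3) α := by
  rw [show -α = algebraMap (ZMod 3) G (-1) * α by rw [map_neg, map_one, neg_one_mul], map_mul,
    Algebra.norm_algebraMap]

end field

/-- An element with fourth power `-1` in the field with nine elements. -/
theorem exists_eighth : ∃ γ : GaloisField 3 2, γ ≠ 0 ∧ γ ^ 4 = -1 := by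
  classical
  let G := GaloisField 3 2
  let _ft : Fintype G := Fintype.ofFinite _
  have hc : Fintype.card G = 9 := by
    rw [← Nat.card_eq_fintype_card]; exact GaloisField.card 3 2 (by norm_num)
  obtain ⟨γ, hγ, hne⟩ := exists_not_root (K := ZMod 3) (G := G) (P := X ^ 4 - C 1)
    (X_pow_sub_C_ne_zero (by norm_num) _) ((Finset.univ : Finset G).erase 0) (by
      rw [natDegree_X_pow_sub_C, Finset.card_erase_of_mem (Finset.mem_univ _), Finset.card_univ, hc]
      norm_num)
  have hγ0 := (Finset.mem_erase.1 hγ).1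
  refine ⟨γ, hγ0, ?_⟩
  have h8 := FiniteField.pow_card_sub_one_eq_one γ hγ0
  rw [hc] at h8
  simp only [map_sub, map_pow, aeval_X, map_one, sub_ne_zero] at hne
  rcases mul_eq_zero.1 (show (γ ^ 4 - 1) * (γ ^ 4 + 1) = 0 by linear_combination h8) with h | h
  · exact absurd (sub_eq_zero.1 h) hne
  · exact eq_neg_of_add_eq_zero_left h

/-- The values used in small dimensions. -/
theorem eighth_values {γ : GaloisField 3 2} (h4 : γ ^ 4 = -1) :
    γ * γ ≠ 1 ∧ γ * γ ≠ -1 ∧ γ ≠ 1 ∧ aeval γ (cubic (ZMod 3)) ≠ 0 := by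
  have three : (3 : GaloisField 3 2) = 0 := CharP.cast_eq_zero (GaloisField 3 2) 3
  have two : (2 : GaloisField 3 2) ≠ 0 := fun h =>
    one_ne_zero (α := GaloisField 3 2) (by linear_combination three - h)
  have a : γ * γ ≠ 1 := fun h => two (by linear_combination h4 - (γ * γ + 1) * h)
  refine ⟨a, fun h => two ?_, fun h => a (by rw [h, mul_one]), ?_⟩
  · linear_combination h4 - (γ * γ - 1) * h
  · rw [aeval_cubic]
    intro h
    have : (γ - 1) * (γ - 1) = 0 := by
      linear_combination h4 - γ * h - γ * three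
    exact a (by rw [sub_eq_zero.1 (mul_self_eq_zero.1 this), mul_one])

theorem base_value {K G : Type*} [Field K] [Field G] [Algebra K G] {x : G} (h1 : x ≠ 1)
    (hc : aeval x (cubic K) ≠ 0) : aeval x (basePoly K) ≠ 0 := by
  simp only [basePoly, map_mul, map_pow, map_sub, aeval_X, map_one]
  exact mul_ne_zero (pow_ne_zero _ (sub_ne_zero.2 h1)) hc

theorem four_value {K G : Type*} [Field K] [Field G] [Algebra K G] {x : G} (h1 : x * x ≠ 1)
    (hc : aeval x (cubic K) ≠ 0) : aeval x (fourPoly K) ≠ 0 := by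
  simp only [fourPoly, map_mul, map_pow, map_sub, aeval_X, map_one, pow_two]
  exact mul_ne_zero (sub_ne_zero.2 h1) hc

/-- Dimension five polynomial. -/
noncomputable def fivePoly (K : Type*) [Field K] : K[X] := (X ^ 2 + 1) * basePoly K

/-- Dimension six polynomial. -/
noncomputable def sixPoly (K : Type*) [Field K] : K[X] := (X ^ 2 + 1) * fourPoly K

theorem five_value {K G : Type*} [Field K] [Field G] [Algebra K G] {x : G} (h1 : x ≠ 1)
    (h2 : x * x ≠ -1) (hc : aeval x (cubic K) ≠ 0) : aeval x (fivePoly K) ≠ 0 := by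
  rw [fivePoly, map_mul]
  refine mul_ne_zero ?_ (base_value h1 hc)
  simp only [pow_two, map_add, map_mul, aeval_X, map_one]
  exact fun h => h2 (eq_neg_of_add_eq_zero_left h)

/-- Minus one in dimension four. -/
theorem three_four_neg (h4 : finrank (ZMod 3) V = 4) :
    GoodP (fourPoly (ZMod 3)) ((-1 : ZMod 3) • (1 : End (ZMod 3) V)) := by
  let G := GaloisField 3 2
  have hG : finrank (ZMod 3) G = 2 := GaloisField.finrank 3 (by norm_num)
  let β := blockIII (ZMod 3) (one_ne_zero : (1 : G) ≠ 0)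
  let φ : (G × G) ≃ₗ[ZMod 3] V := LinearEquiv.ofFinrankEq _ _ (by rw [finrank_prod, hG, h4])
  let T : Twist ((-1 : ZMod 3) • (1 : End (ZMod 3) (G × G))) :=
    ⟨β.B, β.Bi, β.h1, β.h2, β.e, by rw [← β.hc, mul_smul_comm, β.h1], fun d _ => by
      obtain ⟨δ, hδ⟩ := FiniteField.norm_surjective (ZMod 3) G d
      refine ⟨LinearMap.prodMap (Algebra.lmul (ZMod 3) G δ) LinearMap.id, ?_, ?_⟩
      · rw [LinearMap.det_prodMap, LinearMap.det_id, mul_one, ← Algebra.norm_apply, hδ]
      · refine LinearMap.ext fun x => Prod.ext ?_ rfl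
        simp [β, blockIII, mul_left_comm]⟩
  have hA : φ.conj ((-1 : ZMod 3) • (1 : End (ZMod 3) (G × G))) = (-1 : ZMod 3) • 1 := by
    rw [map_smul, conj_one]
  rw [← hA]
  refine ⟨T.map φ, ?_, T.map_aeval φ _ (aeval_of_dvd ?_ β.hg)⟩
  · change LinearMap.det (φ.conj β.B) = 1
    rw [det_equivConj, det_blockIII, norm_neg_three, map_one, hG]
    decide
  · change minpoly (ZMod 3) (1 : G) * minpoly (ZMod 3) (-1 : G) ∣ _
    rw [minpoly.one, show (-1 : G) = algebraMap (ZMod 3) G (-1) by rw [map_neg, map_one],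
      minpoly.eq_X_sub_C]
    exact ⟨cubic (ZMod 3), by simp only [fourPoly, map_neg, map_one]; ring⟩

theorem three_three (h3 : finrank (ZMod 3) V = 3) (A : End (ZMod 3) V) (hdet : LinearMap.det A = 1) :
    GoodP (basePoly (ZMod 3)) A := by
  rcases base_three h3 A hdet with h | ⟨f, u, hf, hu, hfu, rfl⟩
  · exact h.base
  · exact goodBase_transvection (le_of_eq h3.symm) f u hf hu hfu

theorem three_four (h4 : finrank (ZMod 3) V = 4) (A : End (ZMod 3) V) (hdet : LinearMap.det A = 1) :
    GoodP (fourPoly (ZMod 3)) A := by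
  by_cases hneg : A = (-1 : ZMod 3) • 1
  · rw [hneg]; exact three_four_neg h4
  obtain ⟨x, φ, hA, hφx, htv⟩ := exists_line h4 A hdet (fun a ha => by
    rcases cases_three a with rfl | rfl | rfl
    · rw [ha, LinearMap.det_smul, map_one, mul_one, zero_pow (by omega)] at hdet
      exact absurd hdet zero_ne_one
    · rfl
    · exact absurd ha hneg)
  have hk : finrank (ZMod 3) (LinearMap.ker φ) = 3 := by
    have := finrank_ker_form hφx
    omega
  obtain ⟨T, hTd, hTp⟩ :=
    (base_three hk (schur A x φ hA) ((det_schur A x φ hφx hA).trans hdet)).resolve_right htv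
  have h1 : aeval (1 : ZMod 3) (cubic (ZMod 3)) ≠ 0 := by
    rw [aeval_cubic]; decide
  obtain ⟨T', hd, hp⟩ := step_line A x φ hφx hA hdet
    (blockI (ZMod 3) (one_ne_zero : (1 : ZMod 3) ≠ 0)) T (injective_minpoly hTp h1)
  refine ⟨T', ?_, aeval_of_dvd ?_ (hp _ hTp)⟩
  · rw [hd, hTd, det_blockI, map_one, mul_one]
  · change minpoly (ZMod 3) (1 : ZMod 3) * cubic (ZMod 3) ∣ fourPoly (ZMod 3)
    rw [minpoly.one]
    exact mul_dvd_mul_right ⟨X + 1, by ring⟩ _

/-- The conjugation `x ↦ x ^ 3 ^ j`. -/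
theorem exists_frobenius {G : Type*} [Field G] [Algebra (ZMod 3) G] [Finite G] (j : ℕ) :
    ∃ σ : G ≃ₐ[ZMod 3] G, ∀ x, σ x = x ^ (3 ^ j) := by
  have : Algebra.IsAlgebraic (ZMod 3) G := Algebra.IsAlgebraic.of_finite (ZMod 3) G
  refine ⟨FiniteField.frobeniusAlgEquivOfAlgebraic (ZMod 3) G ^ j, fun x => ?_⟩
  rw [AlgEquiv.coe_pow, FiniteField.coe_frobeniusAlgEquivOfAlgebraic, pow_iterate, ZMod.card]

/-- Dimensions five and six. -/
theorem three_small (m : ℕ) (hV : finrank (ZMod 3) V = m + 2) (hm : 3 ≤ m) (hm' : m ≤ 4)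
    (P : (ZMod 3)[X]) (hPv : ∀ x : GaloisField 3 2, x * x = -1 → aeval x P ≠ 0)
    (ih : ∀ (U : Submodule (ZMod 3) V) (M : End (ZMod 3) U), finrank (ZMod 3) U = m →
      LinearMap.det M = 1 → GoodP P M)
    (A : End (ZMod 3) V) (hdet : LinearMap.det A = 1) : GoodP ((X ^ 2 + 1) * P) A := by
  obtain ⟨γ, hγ, h4⟩ := exists_eighth
  let α := γ * γ
  have hα : α * α = -1 := by rw [← h4]; simp only [α]; ring
  have hα0 : α ≠ 0 := mul_ne_zero hγ hγ
  have hG : finrank (ZMod 3) (GaloisField 3 2) = 2 := GaloisField.finrank 3 (by norm_num)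
  have hdvd : minpoly (ZMod 3) α ∣ (X ^ 2 + 1 : (ZMod 3)[X]) := minpoly.dvd _ _ (by
    simp only [pow_two, map_add, map_mul, aeval_X, map_one, hα, neg_add_cancel])
  have hnorm : Algebra.norm (ZMod 3) α = 1 := norm_sq_three hγ
  have core : ∀ c : ZMod 3, c * c = 1 → ∀ (β : Block (ZMod 3) (GaloisField 3 2) c),
      β.g = minpoly (ZMod 3) α → LinearMap.det β.B = 1 →
      (∃ W : Submodule (ZMod 3) V, finrank (ZMod 3) W = 2 ∧ Disjoint W (W.map (A - c • 1))) →
      GoodP ((X ^ 2 + 1) * P) A := by
    rintro c hc β hg hd ⟨W, hW, hdis⟩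
    have hc0 : c ≠ 0 := fun h => by rw [h, zero_mul] at hc; exact zero_ne_one hc
    obtain ⟨U, M, hdim, hM, hstep⟩ := step A hc0 hdis hdet
    obtain ⟨T, hTd, hP⟩ := ih U M (by omega) (by rw [hM, hW, pow_two, hc, inv_one])
    obtain ⟨T', hd', hp'⟩ := hstep β (by rw [hG, hW]) T
      (by rw [hg]; exact injective_minpoly hP (hPv α hα))
    refine ⟨T', by rw [hd', hd, hTd, mul_one], aeval_of_dvd ?_ (hp' P hP)⟩
    rw [hg]
    exact mul_dvd_mul_right hdvd _
  rcases exists_top_three A hdet 2 (by omega) (by omega) with h | h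
  · exact core 1 (one_mul 1) (blockI (ZMod 3) hα0) rfl (by rw [det_blockI, hnorm]) h
  · obtain ⟨σ, hσ⟩ := exists_frobenius (G := GaloisField 3 2) 1
    exact core (-1) (by decide) (blockII (ZMod 3) hα0 σ (by
      rw [hσ, pow_one, pow_succ, pow_two, hα, neg_one_mul])) rfl
      (by rw [det_blockII, hnorm]) (exists_kernel_space A (-1) (r := 2) (by omega) (by omega))

theorem three_five (h5 : finrank (ZMod 3) V = 5) (A : End (ZMod 3) V) (hdet : LinearMap.det A = 1) :
    GoodP (fivePoly (ZMod 3)) A := by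
  have three : (3 : GaloisField 3 2) = 0 := CharP.cast_eq_zero (GaloisField 3 2) 3
  refine three_small 3 h5 le_rfl (by norm_num) (basePoly (ZMod 3)) (fun x hx => ?_)
    (fun U M hU hM => three_three hU M hM) A hdet
  have h2 : (2 : GaloisField 3 2) ≠ 0 := fun h =>
    one_ne_zero (α := GaloisField 3 2) (by linear_combination three - h)
  refine base_value (fun h => h2 (by subst h; linear_combination hx)) ?_
  rw [aeval_cubic]
  intro h
  exact h2 (by
    have hx1 : x = 1 := by linear_combination h - x * hx + x * three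
    subst hx1; linear_combination hx)

theorem three_six (h6 : finrank (ZMod 3) V = 6) (A : End (ZMod 3) V) (hdet : LinearMap.det A = 1) :
    GoodP (sixPoly (ZMod 3)) A := by
  have three : (3 : GaloisField 3 2) = 0 := CharP.cast_eq_zero (GaloisField 3 2) 3
  refine three_small 4 h6 (by norm_num) le_rfl (fourPoly (ZMod 3)) (fun x hx => ?_)
    (fun U M hU hM => three_four hU M hM) A hdet
  have h2 : (2 : GaloisField 3 2) ≠ 0 := fun h =>
    one_ne_zero (α := GaloisField 3 2) (by linear_combination three - h)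
  refine four_value (fun h => h2 (by linear_combination hx - h)) ?_
  rw [aeval_cubic]
  intro h
  exact h2 (by
    have hx1 : x = 1 := by linear_combination h - x * hx + x * three
    subst hx1; linear_combination hx)

/-- Dimension seven. -/
theorem three_seven (h7 : finrank (ZMod 3) V = 7) (A : End (ZMod 3) V)
    (hdet : LinearMap.det A = 1) : ∃ T : Twist A, LinearMap.det T.L = 1 := by
  obtain ⟨γ, hγ, h4⟩ := exists_eighth
  obtain ⟨v1, v2, v3, vc⟩ := eighth_values h4
  have h4' : (-γ) ^ 4 = -1 := by rw [← h4]; ring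
  obtain ⟨w1, w2, w3, wc⟩ := eighth_values h4'
  have hG : finrank (ZMod 3) (GaloisField 3 2) = 2 := GaloisField.finrank 3 (by norm_num)
  have hN : Algebra.norm (ZMod 3) γ = -1 := norm_three_eq (by
    rw [GaloisField.card 3 2 (by norm_num), map_neg, map_one, ← h4]
    norm_num)
  rcases exists_top_three A hdet 2 (by omega) (by omega) with ⟨W, hW, hdis⟩ | h
  · obtain ⟨U, M, hdim, hM, hstep⟩ := step A one_ne_zero hdis hdet
    obtain ⟨T, hTd, hP⟩ := three_five (V := U) (by omega) M (by rw [hM, one_pow, inv_one])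
    obtain ⟨T', hd', -⟩ := hstep (blockI (ZMod 3) hγ) (by rw [hG, hW]) T.neg (by
      refine injective_minpoly (aeval_neg_comp hP) ?_
      rw [aeval_comp, map_neg, aeval_X]
      exact five_value w3 w2 wc)
    refine ⟨T', ?_⟩
    rw [hd', det_blockI, hN]
    change -1 * LinearMap.det (-T.L) = 1
    rw [← neg_one_smul (ZMod 3) T.L, LinearMap.det_smul, hTd,
      show finrank (ZMod 3) U = 5 by omega]
    decide
  · obtain ⟨W, hW, hdis⟩ := exists_kernel_space A (-1) (k := 4) (r := 2) (by omega) (by omega)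
    obtain ⟨U, M, hdim, hM, hstep⟩ := step A (neg_ne_zero.2 one_ne_zero) hdis hdet
    obtain ⟨T, hTd, hP⟩ := three_three (V := U) (by omega) M (by
      rw [hM, hW, show ((-1 : ZMod 3)) ^ 4 = 1 by decide, inv_one])
    obtain ⟨T', hd', -⟩ := hstep (blockIII (ZMod 3) hγ)
      (by rw [finrank_prod, hG, hW]) T
      (injective_minpoly_mul hP (base_value v3 vc) (base_value w3 wc))
    refine ⟨T', ?_⟩
    rw [hd', det_blockIII, norm_neg_three, hG, hN, hTd]
    decide

/-- Dimensions eight and nine, large `-1` eigenspace. -/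
theorem three_mid_neg (n : ℕ) (hV : finrank (ZMod 3) V = n) (hn : n = 8 ∨ n = 9)
    (A : End (ZMod 3) V) (hdet : LinearMap.det A = 1)
    (hr : finrank (ZMod 3) (LinearMap.range (A - (-1 : ZMod 3) • 1)) + 2 ≤ 6) :
    ∃ T : Twist A, LinearMap.det T.L = 1 := by
  obtain ⟨γ, hγ, h4⟩ := exists_eighth
  obtain ⟨v1, v2, v3, vc⟩ := eighth_values h4
  have h4' : (-γ) ^ 4 = -1 := by rw [← h4]; ring
  obtain ⟨w1, w2, w3, wc⟩ := eighth_values h4'
  have hG : finrank (ZMod 3) (GaloisField 3 2) = 2 := GaloisField.finrank 3 (by norm_num)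
  have hN : Algebra.norm (ZMod 3) γ = -1 := norm_three_eq (by
    rw [GaloisField.card 3 2 (by norm_num), map_neg, map_one, ← h4]
    norm_num)
  obtain ⟨W, hW, hdis⟩ := exists_kernel_space A (-1) (k := 4) (r := 4) (by omega) (by omega)
  obtain ⟨U, M, hdim, hM, hstep⟩ := step A (neg_ne_zero.2 one_ne_zero) hdis hdet
  have hMd : LinearMap.det M = 1 := by
    rw [hM, hW, show ((-1 : ZMod 3)) ^ 4 = 1 by decide, inv_one]
  obtain ⟨P, hgood, hv, hw⟩ : ∃ P, GoodP P M ∧ aeval γ P ≠ 0 ∧ aeval (-γ) P ≠ 0 := by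
    rcases hn with rfl | rfl
    · exact ⟨_, three_four (V := U) (by omega) M hMd, four_value v1 vc, four_value w1 wc⟩
    · exact ⟨_, three_five (V := U) (by omega) M hMd, five_value v3 v2 vc, five_value w3 w2 wc⟩
  obtain ⟨T, hTd, hP⟩ := hgood
  obtain ⟨T', hd', -⟩ := hstep (blockIII (ZMod 3) hγ)
    (by rw [finrank_prod, hG, hW]) T (injective_minpoly_mul hP hv hw)
  refine ⟨T', ?_⟩
  rw [hd', det_blockIII, norm_neg_three, hG, hN, hTd]
  decide

theorem pow_three_bound : ∀ j, 3 ≤ j → 4 * j + 9 < 3 ^ j := by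
  intro j hj
  induction j, hj using Nat.le_induction with
  | base => norm_num
  | succ j hj ih => rw [pow_succ]; omega

/-- A step with `c = 1` and a norm-one root. -/
theorem three_step_pos (A : End (ZMod 3) V) (hdet : LinearMap.det A = 1) (k : ℕ) (hk : 3 ≤ k)
    (hsmall : finrank (ZMod 3) V ≤ 4 * k)
    (hW : ∃ W : Submodule (ZMod 3) V, finrank (ZMod 3) W = k ∧
      Disjoint W (W.map (A - (1 : ZMod 3) • 1)))
    (ih : ∀ (U : Submodule (ZMod 3) V) (M : End (ZMod 3) U),
      finrank (ZMod 3) U + k = finrank (ZMod 3) V → LinearMap.det M = 1 →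
        ∃ T : Twist M, LinearMap.det T.L = 1) :
    ∃ T : Twist A, LinearMap.det T.L = 1 := by
  classical
  obtain ⟨W, hW, hdis⟩ := hW
  obtain ⟨U, M, hdim, hM, hstep⟩ := step A one_ne_zero hdis hdet
  obtain ⟨T, hTd⟩ := ih U M (by omega) (by rw [hM, one_pow, inv_one])
  obtain ⟨P, hP0, hPd, hP⟩ := charpoly_data T.L
  let G := GaloisField 3 k
  let _ft : Fintype G := Fintype.ofFinite _
  have hcard : Fintype.card G = 3 ^ k := by
    rw [← Nat.card_eq_fintype_card]; exact GaloisField.card 3 _ (by omega)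
  let S := ((Finset.univ : Finset G).erase 0).image fun x => x * x
  have hS : ((Finset.univ : Finset G).erase 0).card ≤ 2 * S.card :=
    Finset.card_le_mul_card_image _ 2 fun b hb => by
      obtain ⟨y, -, rfl⟩ := Finset.mem_image.1 hb
      refine (Finset.card_le_card (t := {y, -y}) fun x hx => ?_).trans Finset.card_le_two
      simp only [Finset.mem_filter] at hx
      simp only [Finset.mem_insert, Finset.mem_singleton]
      exact mul_self_eq_mul_self_iff.1 hx.2
  rw [Finset.card_erase_of_mem (Finset.mem_univ _), Finset.card_univ, hcard] at hS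
  obtain ⟨α, hα, hPα⟩ := exists_not_root hP0 S (by
    rw [hPd]
    have := pow_three_bound k hk
    have h2 : 6 * k + 2 ≤ 3 ^ k := by
      clear * - hk
      induction k, hk using Nat.le_induction with
      | base => norm_num
      | succ k hk ih => rw [pow_succ]; omega
    omega)
  obtain ⟨y, hy, rfl⟩ := Finset.mem_image.1 hα
  have hy0 := (Finset.mem_erase.1 hy).1
  obtain ⟨T', hd', -⟩ := hstep (blockI (ZMod 3) (mul_ne_zero hy0 hy0))
    (by rw [GaloisField.finrank 3 (by omega), hW]) T (injective_minpoly hP hPα)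
  exact ⟨T', by rw [hd', det_blockI, norm_sq_three hy0, hTd, mul_one]⟩

/-- Large dimensions, large `-1` eigenspace. -/
theorem three_step_neg (A : End (ZMod 3) V) (hdet : LinearMap.det A = 1) (j : ℕ) (hj : 3 ≤ j)
    (hsmall : finrank (ZMod 3) V ≤ 4 * j + 2) (hW : ∃ W : Submodule (ZMod 3) V,
      finrank (ZMod 3) W = 2 * j ∧ Disjoint W (W.map (A - (-1 : ZMod 3) • 1)))
    (ih : ∀ (U : Submodule (ZMod 3) V) (M : End (ZMod 3) U),
      finrank (ZMod 3) U + 2 * j = finrank (ZMod 3) V → LinearMap.det M = 1 →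
        ∃ T : Twist M, LinearMap.det T.L = 1) :
    ∃ T : Twist A, LinearMap.det T.L = 1 := by
  classical
  obtain ⟨W, hW, hdis⟩ := hW
  obtain ⟨U, M, hdim, hM, hstep⟩ := step A (neg_ne_zero.2 one_ne_zero) hdis hdet
  obtain ⟨T, hTd⟩ := ih U M (by omega)
    (by rw [hM, hW, pow_mul, neg_one_sq, one_pow, inv_one])
  obtain ⟨P, hP0, hPd, hP⟩ := charpoly_data T.L
  have hb := pow_three_bound j hj
  rcases Nat.even_or_odd j with hje | hjo
  · -- two opposite elements
    let G := GaloisField 3 j
    let _ft : Fintype G := Fintype.ofFinite _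
    have hcard : Fintype.card G = 3 ^ j := by
      rw [← Nat.card_eq_fintype_card]; exact GaloisField.card 3 _ (by omega)
    have hQ0 : P * P.comp (-X) ≠ 0 := mul_ne_zero hP0 (by simpa [comp_eq_zero_iff] using hP0)
    obtain ⟨α, hα, hQα⟩ := exists_not_root hQ0 ((Finset.univ : Finset G).erase 0) (by
      rw [Finset.card_erase_of_mem (Finset.mem_univ _), Finset.card_univ, hcard,
        natDegree_mul hP0 (right_ne_zero_of_mul hQ0), natDegree_comp, natDegree_neg, natDegree_X,
        mul_one, hPd]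
      omega)
    rw [map_mul, mul_ne_zero_iff, aeval_comp, map_neg, aeval_X] at hQα
    obtain ⟨T', hd', -⟩ := hstep (blockIII (ZMod 3) (Finset.mem_erase.1 hα).1)
      (by rw [finrank_prod, GaloisField.finrank 3 (by omega), hW]; omega) T
      (injective_minpoly_mul hP hQα.1 hQα.2)
    refine ⟨T', ?_⟩
    rw [hd', det_blockIII, norm_neg_three, GaloisField.finrank 3 (by omega), hje.neg_one_pow,
      one_mul, hTd, mul_one]
    have h : ∀ x : ZMod 3, x ≠ 0 → x * x = 1 := by decide
    exact h _ (Algebra.norm_ne_zero_iff.2 (Finset.mem_erase.1 hα).1)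
  · -- an element negated by the field automorphism of order two
    let G := GaloisField 3 (2 * j)
    let _ft : Fintype G := Fintype.ofFinite _
    have hcard : Fintype.card G = 3 ^ j * 3 ^ j := by
      rw [← Nat.card_eq_fintype_card, ← pow_add, ← two_mul]
      exact GaloisField.card 3 _ (by omega)
    obtain ⟨σ, hσ⟩ := exists_frobenius (G := G) j
    have hσ2 : ∀ x : G, σ (σ x) = x := fun x => by
      rw [hσ, hσ, ← pow_mul, ← hcard]
      exact FiniteField.pow_card x
    let S := ((Finset.univ : Finset G).image fun x => σ x - x).erase 0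
    have hS : (Finset.univ : Finset G).card ≤
        3 ^ j * ((Finset.univ : Finset G).image fun x => σ x - x).card :=
      Finset.card_le_mul_card_image _ _ fun b hb => by
        obtain ⟨y, -, rfl⟩ := Finset.mem_image.1 hb
        have hne : (X ^ (3 ^ j) - X : G[X]) ≠ 0 :=
          FiniteField.X_pow_card_sub_X_ne_zero G (Nat.one_lt_pow (by omega) (by norm_num))
        have hsub : ((Finset.univ : Finset G).filter fun a => σ a - a = σ y - y) ⊆
            ((X ^ (3 ^ j) - X : G[X]).roots.toFinset).image (fun r => y + r) := fun a ha => by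
          simp only [Finset.mem_filter] at ha
          refine Finset.mem_image.2 ⟨a - y, ?_, by abel⟩
          rw [Multiset.mem_toFinset, mem_roots hne, IsRoot.def, eval_sub, eval_pow, eval_X, ← hσ,
            map_sub]
          linear_combination ha.2
        refine (Finset.card_le_card hsub).trans (Finset.card_image_le.trans ?_)
        refine (Multiset.toFinset_card_le _).trans ((card_roots' _).trans ?_)
        rw [FiniteField.X_pow_card_sub_X_natDegree_eq G (Nat.one_lt_pow (by omega) (by norm_num))]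
    rw [Finset.card_univ, hcard] at hS
    have hS' := Nat.le_of_mul_le_mul_left hS (pow_pos (by norm_num) j)
    have hSc := Finset.pred_card_le_card_erase
      (s := (Finset.univ : Finset G).image fun x => σ x - x) (a := (0 : G))
    obtain ⟨α, hα, hPα⟩ := exists_not_root hP0 S (by
      rw [hPd]
      change _ < (((Finset.univ : Finset G).image fun x => σ x - x).erase 0).card
      omega)
    obtain ⟨hα0, hαm⟩ := Finset.mem_erase.1 hα
    obtain ⟨y, -, hy⟩ := Finset.mem_image.1 hαm
    have hσα : σ α = -α := by rw [← hy, map_sub, hσ2, neg_sub]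
    have hN : Algebra.norm (ZMod 3) α = 1 := norm_three_eq (by
      have hq : α ^ (3 ^ j - 1) = -1 := by
        apply mul_right_cancel₀ hα0
        rw [← pow_succ, Nat.sub_add_cancel (Nat.one_le_pow _ _ (by norm_num)), ← hσ, hσα,
          neg_one_mul]
      obtain ⟨s, hs⟩ : ∃ s, 3 ^ j + 1 = 4 * s := by
        obtain ⟨i, rfl⟩ := hjo
        refine Nat.dvd_of_mod_eq_zero ?_
        rw [pow_succ, pow_mul, Nat.add_mod, Nat.mul_mod, Nat.pow_mod]
        norm_num
      rw [Nat.card_eq_fintype_card, hcard, map_one,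
        show (3 ^ j * 3 ^ j - 1) / 2 = (3 ^ j - 1) * (2 * s) by
          have h1 : 3 ^ j * 3 ^ j - 1 = (3 ^ j + 1) * (3 ^ j - 1) := by
            simpa [sq] using Nat.sq_sub_sq (3 ^ j) 1
          rw [h1, hs, show 4 * s * (3 ^ j - 1) = (3 ^ j - 1) * (2 * s) * 2 by ring,
            Nat.mul_div_cancel _ two_pos],
        pow_mul, hq, pow_mul, neg_one_sq, one_pow])
    obtain ⟨T', hd', -⟩ := hstep (blockII (ZMod 3) hα0 σ hσα)
      (by rw [GaloisField.finrank 3 (by omega), hW]) T (injective_minpoly hP hPα)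
    exact ⟨T', by rw [hd', det_blockII, hN, hTd, mul_one]⟩

/-- Every element is a twist over the field with three elements. -/
theorem three_main (n : ℕ) : ∀ {V : Type} [AddCommGroup V] [Module (ZMod 3) V]
    [FiniteDimensional (ZMod 3) V], finrank (ZMod 3) V = n → 3 ≤ n →
      ∀ A : End (ZMod 3) V, LinearMap.det A = 1 → ∃ T : Twist A, LinearMap.det T.L = 1 := by
  induction n using Nat.strong_induction_on with
  | _ n ih =>
    intro V _ _ _ hV hn A hdet
    rcases Nat.lt_or_ge n 10 with h10 | h10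
    · interval_cases n
      · obtain ⟨T, h, -⟩ := three_three hV A hdet; exact ⟨T, h⟩
      · obtain ⟨T, h, -⟩ := three_four hV A hdet; exact ⟨T, h⟩
      · obtain ⟨T, h, -⟩ := three_five hV A hdet; exact ⟨T, h⟩
      · obtain ⟨T, h, -⟩ := three_six hV A hdet; exact ⟨T, h⟩
      · exact three_seven hV A hdet
      · rcases exists_top_three A hdet 3 (by omega) (by omega) with h | h
        · exact three_step_pos A hdet 3 le_rfl (by omega) h fun U M hU hM =>
            ih _ (by omega) rfl (by omega) M hM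
        · exact three_mid_neg 8 hV (Or.inl rfl) A hdet h
      · rcases exists_top_three A hdet 3 (by omega) (by omega) with h | h
        · exact three_step_pos A hdet 3 le_rfl (by omega) h fun U M hU hM =>
            ih _ (by omega) rfl (by omega) M hM
        · exact three_mid_neg 9 hV (Or.inr rfl) A hdet h
    · obtain ⟨k, hk⟩ : ∃ k, k = n / 4 + 1 := ⟨_, rfl⟩
      rcases exists_top_three A hdet k (by omega) (by omega) with h | h
      · exact three_step_pos A hdet k (by omega) (by omega) h fun U M hU hM =>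
          ih _ (by omega) rfl (by omega) M hM
      · obtain ⟨j, hj⟩ : ∃ j, j = (n + 2 - 2 * k) / 2 := ⟨_, rfl⟩
        refine three_step_neg A hdet j (by omega) (by omega)
          (exists_kernel_space A (-1) (r := 2 * k - 2) (by omega) (by omega)) fun U M hU hM => ?_
        exact ih _ (by omega) rfl (by omega) M hM

end CfsgLib.KnownB.Sourour
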