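import Cfsg.Agent.Lib.KnownB.Sourour.Scalar
import Cfsg.Agent.Lib.KnownB.Sourour.Three

/-!
# Every element of the special linear group is a commutator
-/

set_option autoImplicit false

namespace CfsgLib.KnownB.Sourour

open Module Matrix

variable {F : Type*} [Field F] {n : ℕ}

/-- A commutator of endomorphisms gives one of matrices. -/
theorem exists_commutator_of_isComm (g : Matrix.SpecialLinearGroup (Fin n) F)
    (h : IsComm (Matrix.toLin' (g : Matrix (Fin n) (Fin n) F))) :
    ∃ a b : Matrix.SpecialLinearGroup (Fin n) F, g = a * b * a⁻¹ * b⁻¹ := by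
  obtain ⟨a, b, ha, hb, hab⟩ := h
  let a' : Matrix.SpecialLinearGroup (Fin n) F :=
    ⟨LinearMap.toMatrix' a, by rw [LinearMap.det_toMatrix', ha]⟩
  let b' : Matrix.SpecialLinearGroup (Fin n) F :=
    ⟨LinearMap.toMatrix' b, by rw [LinearMap.det_toMatrix', hb]⟩
  have key : a' * b' = g * (b' * a') := by
    apply Subtype.ext
    apply Matrix.toLin'.injective
    change Matrix.toLin' (LinearMap.toMatrix' a * LinearMap.toMatrix' b) =
      Matrix.toLin' ((g : Matrix (Fin n) (Fin n) F) *
        (LinearMap.toMatrix' b * LinearMap.toMatrix' a))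
    simp only [Matrix.toLin'_mul, Matrix.toLin'_toMatrix']
    exact hab
  exact ⟨a', b', by rw [key]; group⟩

/-- Non-trivial fields with at least four elements. -/
theorem commutator_big [Fintype F] (h4 : 4 ≤ Fintype.card F) (hn : 2 ≤ n)
    (g : Matrix.SpecialLinearGroup (Fin n) F) :
    ∃ a b : Matrix.SpecialLinearGroup (Fin n) F, g = a * b * a⁻¹ * b⁻¹ := by
  apply exists_commutator_of_isComm
  have h4' : 4 ≤ ENat.card F := by
    rw [ENat.card_eq_coe_fintype_card]
    exact_mod_cast h4
  have hdet : LinearMap.det (Matrix.toLin' (g : Matrix (Fin n) (Fin n) F)) = 1 := by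
    rw [LinearMap.det_toLin']; exact g.2
  have hrank : finrank F (Fin n → F) = n := by simp
  by_cases hns : ∃ z : F, Matrix.toLin' (g : Matrix (Fin n) (Fin n) F) = z • (1 : End F (Fin n → F))
  · obtain ⟨z, hz⟩ := hns
    rw [hz] at hdet ⊢
    rw [LinearMap.det_smul, map_one, mul_one] at hdet
    exact isComm_scalar (by omega) z hdet
  · exact isComm_of_not_scalar h4' (by omega) _ hdet hns

/-- Prime fields of order two and three. -/
theorem commutator_two (hn : 3 ≤ n) (g : Matrix.SpecialLinearGroup (Fin n) (ZMod 2)) :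
    ∃ a b : Matrix.SpecialLinearGroup (Fin n) (ZMod 2), g = a * b * a⁻¹ * b⁻¹ := by
  apply exists_commutator_of_isComm
  obtain ⟨T, hT⟩ := two_main n (V := Fin n → ZMod 2) (by simp) hn
    (Matrix.toLin' (g : Matrix (Fin n) (Fin n) (ZMod 2))) (by rw [LinearMap.det_toLin']; exact g.2)
  exact T.isComm hT

theorem commutator_three (hn : 3 ≤ n) (g : Matrix.SpecialLinearGroup (Fin n) (ZMod 3)) :
    ∃ a b : Matrix.SpecialLinearGroup (Fin n) (ZMod 3), g = a * b * a⁻¹ * b⁻¹ := by
  apply exists_commutator_of_isComm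
  obtain ⟨T, hT⟩ := three_main n (V := Fin n → ZMod 3) (by simp) hn
    (Matrix.toLin' (g : Matrix (Fin n) (Fin n) (ZMod 3))) (by rw [LinearMap.det_toLin']; exact g.2)
  exact T.isComm hT

/-- Transport along a field isomorphism. -/
theorem commutator_transport {K : Type*} [Field K] (f : K ≃+* F)
    (h : ∀ g : Matrix.SpecialLinearGroup (Fin n) K,
      ∃ a b : Matrix.SpecialLinearGroup (Fin n) K, g = a * b * a⁻¹ * b⁻¹)
    (g : Matrix.SpecialLinearGroup (Fin n) F) :
    ∃ a b : Matrix.SpecialLinearGroup (Fin n) F, g = a * b * a⁻¹ * b⁻¹ := by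
  obtain ⟨a, b, hab⟩ := h (Matrix.SpecialLinearGroup.map f.symm.toRingHom g)
  refine ⟨Matrix.SpecialLinearGroup.map f.toRingHom a,
    Matrix.SpecialLinearGroup.map f.toRingHom b, ?_⟩
  have := congrArg (Matrix.SpecialLinearGroup.map f.toRingHom) hab
  simp only [map_mul, map_inv] at this
  rw [← this]
  exact Matrix.SpecialLinearGroup.ext _ _ fun i j => by simp

/-- The main theorem. -/
theorem commutator_all [Fintype F] (hn : 2 ≤ n) (hex : n = 2 → 4 ≤ Fintype.card F)
    (g : Matrix.SpecialLinearGroup (Fin n) F) :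
    ∃ a b : Matrix.SpecialLinearGroup (Fin n) F, g = a * b * a⁻¹ * b⁻¹ := by
  rcases Nat.lt_or_ge (Fintype.card F) 4 with h | h
  · have h1 := Fintype.one_lt_card (α := F)
    have hn3 : 3 ≤ n := by
      by_contra hc
      have := hex (by omega)
      omega
    have hor : Fintype.card F = 2 ∨ Fintype.card F = 3 := by omega
    rcases hor with h2 | h3
    · exact commutator_transport (ZMod.ringEquivOfPrime F Nat.prime_two h2)
        (fun g => commutator_two hn3 g) g
    · exact commutator_transport (ZMod.ringEquivOfPrime F Nat.prime_three h3)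
        (fun g => commutator_three hn3 g) g
  · exact commutator_big h hn g

end CfsgLib.KnownB.Sourour
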