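import Cfsg.Agent.Lib.KnownB.Sourour.Form

/-!
# Products of two conjugates of the regular unipotent block
-/

set_option autoImplicit false

namespace CfsgLib.KnownB.Sourour

open Module Polynomial Matrix

variable {K : Type*} [Field K] {n : ℕ}

/-- Conjugate endomorphisms give conjugate matrices. -/
theorem exists_gl_conj (X : GL (Fin n) K) (S : End K (Fin n → K))
    (e : (Fin n → K) ≃ₗ[K] (Fin n → K))
    (h : ∀ v, e (Matrix.toLin' (X : Matrix (Fin n) (Fin n) K) v) = S (e v)) :
    ∃ P : GL (Fin n) K,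
      LinearMap.toMatrix' S = ((P * X * P⁻¹ : GL (Fin n) K) : Matrix (Fin n) (Fin n) K) := by
  refine ⟨⟨LinearMap.toMatrix' e.toLinearMap, LinearMap.toMatrix' e.symm.toLinearMap, ?_, ?_⟩, ?_⟩
  · rw [← LinearMap.toMatrix'_comp]; simp
  · rw [← LinearMap.toMatrix'_comp]; simp
  · apply Matrix.toLin'.injective
    simp only [Units.val_mul, Units.inv_mk, Matrix.toLin'_mul, Matrix.toLin'_toMatrix']
    refine LinearMap.ext fun v => ?_
    simp [← Matrix.toLin'_apply, h]

theorem basis_pi (j : Fin n) : Pi.basisFun K (Fin n) j = Pi.single j (1 : K) :=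
  Pi.basisFun_apply K (Fin n) j

/-- A weighted shift plus one is regular unipotent. -/
theorem shift_form (hn : 0 < n) (R : End K (Fin n → K)) (w : Fin n → K)
    (hw : ∀ j : Fin n, 0 < (j : ℕ) → w j ≠ 0)
    (h0 : (R - 1) (Pi.single ⟨0, hn⟩ (1 : K)) = 0)
    (hj : ∀ (j : ℕ) (h : j + 1 < n), (R - 1) (Pi.single ⟨j + 1, h⟩ (1 : K)) =
      w ⟨j + 1, h⟩ • Pi.single (⟨j, by omega⟩ : Fin n) (1 : K)) :
    Nonempty (HasForm R n (Fin.elim0 : Fin 0 → K)) := by
  have key : ∀ i (hi : i < n), ∃ c : K, c ≠ 0 ∧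
      ((R - 1) ^ i : End K (Fin n → K)) (Pi.single ⟨n - 1, by omega⟩ (1 : K)) =
        c • Pi.single (⟨n - 1 - i, by omega⟩ : Fin n) (1 : K) := by
    intro i
    induction i with
    | zero => intro _; exact ⟨1, one_ne_zero, by simp⟩
    | succ i ih =>
      intro hi
      obtain ⟨c, hc, he⟩ := ih (by omega)
      have e1 : (⟨n - 1 - i, by omega⟩ : Fin n) = ⟨n - 1 - (i + 1) + 1, by omega⟩ :=
        Fin.ext (by simp only; omega)
      refine ⟨c * w ⟨n - 1 - (i + 1) + 1, by omega⟩, mul_ne_zero hc (hw _ (Nat.succ_pos _)), ?_⟩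
      rw [pow_succ', Module.End.mul_apply, he, map_smul, e1, hj _ (by omega), smul_smul]
  obtain ⟨c, hc, he⟩ := key (n - 1) (by omega)
  have e0 : (⟨n - 1 - (n - 1), by omega⟩ : Fin n) = ⟨0, hn⟩ := Fin.ext (by simp)
  rw [e0] at he
  refine ⟨{ v := Pi.single ⟨n - 1, by omega⟩ (1 : K), w := Fin.elim0, top := ?_,
            pred := (fun _ => ?_), eig := (fun j => j.elim0), ne := (fun j => j.elim0),
            dim := (by simp) }⟩
  · rw [show (R - 1) ^ n = (R - 1) * (R - 1) ^ (n - 1) by rw [← pow_succ', Nat.sub_add_cancel hn],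
      Module.End.mul_apply, he, map_smul, h0, smul_zero]
  · rw [he]
    exact smul_ne_zero hc (fun h => (one_ne_zero : (1 : K) ≠ 0) (by simpa using congrFun h ⟨0, hn⟩))

/-- The Jordan block, as an endomorphism. -/
theorem jordan_apply (J : Matrix (Fin n) (Fin n) K)
    (hJ : ∀ i j : Fin n, J i j = if i = j then 1 else if j.val = i.val + 1 then 1 else 0)
    (j : Fin n) : (Matrix.toLin' J - 1) (Pi.single j (1 : K)) =
      fun i => if j.val = i.val + 1 then 1 else 0 := by
  funext i
  simp only [LinearMap.sub_apply, Module.End.one_apply, Matrix.toLin'_apply, Pi.sub_apply,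
    Matrix.mulVec_single_one, Matrix.col_apply, hJ, Pi.single_apply]
  rcases eq_or_ne i j with rfl | h
  · simp
  · simp [h]

theorem jordan_form (hn : 0 < n) (J : Matrix (Fin n) (Fin n) K)
    (hJ : ∀ i j : Fin n, J i j = if i = j then 1 else if j.val = i.val + 1 then 1 else 0) :
    Nonempty (HasForm (Matrix.toLin' J) n (Fin.elim0 : Fin 0 → K)) := by
  refine shift_form hn _ 1 (fun _ _ => one_ne_zero) ?_ fun j h => ?_
  · rw [jordan_apply J hJ]
    funext i
    simp
  · rw [jordan_apply J hJ, Pi.one_apply, one_smul]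
    funext i
    simp [Pi.single_apply, Fin.ext_iff, eq_comm]

/-- Any two transvections are conjugate. -/
theorem transvection_conj {V : Type*} [AddCommGroup V] [Module K V] [FiniteDimensional K V]
    (f f' : Dual K V) (u u' : V) (hf : f ≠ 0) (hf' : f' ≠ 0) (hu : u ≠ 0) (hu' : u' ≠ 0)
    (hfu : f u = 0) (hfu' : f' u' = 0) :
    ∃ e : V ≃ₗ[K] V, ∀ v,
      e (LinearMap.transvection f u v) = LinearMap.transvection f' u' (e v) := by
  have norm : ∀ (f : Dual K V) (u : V), f ≠ 0 → u ≠ 0 → f u = 0 → ∃ (C : Submodule K V)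
      (φ : V ≃ₗ[K] ((K × K) × C)), finrank K C + 2 = finrank K V ∧ φ u = ((1, 0), 0) ∧
        ∀ v, (φ v).1.2 = f v := by
    intro f u hf hu hfu
    obtain ⟨v, hv⟩ : ∃ v, f v = 1 := by
      obtain ⟨v, hv⟩ : ∃ v, f v ≠ 0 := by
        by_contra h
        push Not at h
        exact hf (LinearMap.ext h)
      exact ⟨(f v)⁻¹ • v, by simp [hv]⟩
    obtain ⟨g, hgv, hgu⟩ := exists_form (p := K ∙ v) (v := u) (fun h => by
      obtain ⟨a, ha⟩ := Submodule.mem_span_singleton.1 h
      rw [← ha, map_smul, hv, smul_eq_mul, mul_one] at hfu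
      exact hu (by rw [← ha, hfu, zero_smul]))
    let C : Submodule K V := LinearMap.ker f ⊓ LinearMap.ker g
    have hgv0 : g v = 0 := hgv v (Submodule.mem_span_singleton_self v)
    let p : V →ₗ[K] C := LinearMap.codRestrict C
      (LinearMap.id - ((g u)⁻¹ • g).smulRight u - f.smulRight v) fun x => by
        simp [C, LinearMap.mem_ker, hfu, hv, hgv0, hgu, mul_comm]
    let φ : V ≃ₗ[K] ((K × K) × C) := LinearEquiv.ofLinearMap
      (LinearMap.prod (LinearMap.prod ((g u)⁻¹ • g) f) p)
      (LinearMap.coprod (LinearMap.coprod (LinearMap.toSpanSingleton K V u)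
        (LinearMap.toSpanSingleton K V v)) C.subtype)
      (LinearMap.ext fun z => by
        obtain ⟨⟨s, t⟩, w, hw1, hw2⟩ := z
        rw [SetLike.mem_coe, LinearMap.mem_ker] at hw1 hw2
        refine Prod.ext (Prod.ext ?_ ?_) (Subtype.ext ?_)
        · simp [hgv0, hw2, mul_left_comm _ s, inv_mul_cancel₀ hgu]
        · simp [hfu, hv, hw1]
        · simp [p, hfu, hv, hgv0, hgu, hw1, hw2, mul_left_comm _ s, inv_mul_cancel₀ hgu]
          )
      (LinearMap.ext fun x => by simp [p])
    refine ⟨C, φ, ?_, ?_, fun x => rfl⟩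
    · have := φ.finrank_eq
      simp only [Module.finrank_prod, finrank_self] at this
      omega
    · refine Prod.ext (Prod.ext ?_ hfu) (Subtype.ext ?_)
      · exact inv_mul_cancel₀ hgu
      · simp [φ, p, hfu, hgu]
  obtain ⟨C, φ, hC, hφu, hφf⟩ := norm f u hf hu hfu
  obtain ⟨C', φ', hC', hφu', hφf'⟩ := norm f' u' hf' hu' hfu'
  let ψ : C ≃ₗ[K] C' := LinearEquiv.ofFinrankEq C C' (by omega)
  let e : V ≃ₗ[K] V := φ ≪≫ₗ (LinearEquiv.prodCongr (LinearEquiv.refl K (K × K)) ψ) ≪≫ₗ φ'.symm
  have heu : e u = u' := by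
    rw [← φ'.symm_apply_apply u', hφu']
    simp [e, hφu]
  have hef : ∀ v, f' (e v) = f v := fun v => by rw [← hφf', ← hφf]; simp [e]
  exact ⟨e, fun v => by rw [LinearMap.transvection.apply, LinearMap.transvection.apply, map_add,
    map_smul, heu, hef]⟩

/-- An endomorphism with `A - 1` of rank one and determinant one is a transvection. -/
theorem exists_transvection {V : Type*} [AddCommGroup V] [Module K V] [FiniteDimensional K V]
    (A : End K V) (hdet : LinearMap.det A = 1) (hA1 : A ≠ 1)
    (hr : finrank K (LinearMap.range (A - 1)) < 2) :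
    ∃ (f : Dual K V) (u : V), f ≠ 0 ∧ u ≠ 0 ∧ f u = 0 ∧ A = LinearMap.transvection f u := by
  have hne : LinearMap.range (A - 1) ≠ ⊥ := fun h =>
    hA1 (sub_eq_zero.1 (LinearMap.range_eq_bot.1 h))
  obtain ⟨u, hu, hu0⟩ := Submodule.exists_mem_ne_zero_of_ne_bot hne
  have hspan : LinearMap.range (A - 1) = K ∙ u := by
    refine (Submodule.eq_of_le_of_finrank_le ((Submodule.span_singleton_le_iff_mem _ _).2 hu) ?_).symm
    rw [finrank_span_singleton hu0]
    omega
  have hc : ∀ v, ∃ a : K, a • u = (A - 1) v := fun v =>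
    Submodule.mem_span_singleton.1 (hspan ▸ LinearMap.mem_range_self _ v)
  choose a ha using hc
  let f : Dual K V :=
    { toFun := a
      map_add' := fun x y => smul_left_injective K hu0 (by
        simp only [add_smul, ha, map_add])
      map_smul' := fun r x => smul_left_injective K hu0 (by
        simp only [RingHom.id_apply, smul_eq_mul, mul_smul, ha, map_smul]) }
  have hA : A = LinearMap.transvection f u := LinearMap.ext fun v => by
    rw [LinearMap.transvection.apply]
    change A v = v + a v • u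
    rw [ha, LinearMap.sub_apply, Module.End.one_apply, add_sub_cancel]
  refine ⟨f, u, fun h => hA1 ?_, hu0, ?_, hA⟩
  · rw [hA, h]; exact LinearMap.ext fun v => by simp [LinearMap.transvection.apply]
  · rw [hA, LinearMap.transvection.det] at hdet
    linear_combination hdet

/-- The main theorem on endomorphisms. -/
theorem exists_unipotent_factors (h4 : 4 ≤ ENat.card K) (hn : 2 ≤ n) (J : Matrix (Fin n) (Fin n) K)
    (hJ : ∀ i j : Fin n, J i j = if i = j then 1 else if j.val = i.val + 1 then 1 else 0)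
    (Ji : End K (Fin n → K)) (hJi : Matrix.toLin' J * Ji = 1) (hiJ : Ji * Matrix.toLin' J = 1)
    (A : End K (Fin n → K)) (hdet : LinearMap.det A = 1)
    (hns : ¬ ∃ a : K, A = a • (1 : End K (Fin n → K))) :
    ∃ L U : End K (Fin n → K), A = L * U ∧
      Nonempty (HasForm L n (Fin.elim0 : Fin 0 → K)) ∧
        Nonempty (HasForm U n (Fin.elim0 : Fin 0 → K)) := by
  classical
  let z : Fin n := ⟨0, by omega⟩
  let o : Fin n := ⟨1, by omega⟩
  by_cases hr : 2 ≤ finrank K (LinearMap.range (A - 1))
  · have hb : (Pi.single z (1 : K) : Fin n → K) ≠ 0 := fun h =>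
      (one_ne_zero : (1 : K) ≠ 0) (by simpa [z] using congrFun h z)
    have hc : (LinearMap.proj z : Dual K (Fin n → K)) ≠ 0 := fun h =>
      (one_ne_zero : (1 : K) ≠ 0) (by simpa using LinearMap.congr_fun h (Pi.single z (1 : K)))
    obtain ⟨F⟩ := factor_unipotent h4 n (V := Fin n → K) (by simp) (by omega) A hdet
      (Or.inr ⟨hr, hns⟩) _ _ hb hc
    exact ⟨F.L, F.U, F.hmul, F.formL (by simp) (fun j => j.elim0), F.formU (by simp) (fun j => j.elim0)⟩
  · obtain ⟨f, u, hf, hu, hfu, hA⟩ := exists_transvection A hdet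
      (fun h => hns ⟨1, by rw [h, one_smul]⟩) (by omega)
    obtain ⟨t, ht⟩ := exists_scalar h4 {0, -1} (Finset.card_le_two.trans (by norm_num))
    simp only [Finset.mem_insert, Finset.mem_singleton, not_or] at ht
    let f₀ : Dual K (Fin n → K) := t • LinearMap.proj o
    let u₀ : Fin n → K := Pi.single z 1
    have hzo : z ≠ o := fun h => absurd (congrArg Fin.val h) (by simp [z, o])
    have hfu₀ : f₀ u₀ = 0 := by simp [f₀, u₀, hzo.symm]
    have hf₀ : f₀ ≠ 0 := fun h =>
      ht.1 (by simpa [f₀] using LinearMap.congr_fun h (Pi.single o (1 : K)))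
    have hu₀ : u₀ ≠ 0 := fun h => (one_ne_zero : (1 : K) ≠ 0) (by simpa [u₀] using congrFun h z)
    obtain ⟨e, he⟩ := transvection_conj f₀ f u₀ u hf₀ hf hu₀ hu hfu₀ hfu
    obtain ⟨hF⟩ := jordan_form (by omega) J hJ
    obtain ⟨hX⟩ : Nonempty (HasForm (Matrix.toLin' J * LinearMap.transvection f₀ u₀) n
        (Fin.elim0 : Fin 0 → K)) := by
      have hz : Matrix.toLin' J u₀ = u₀ := by
        have := jordan_apply J hJ z
        rw [show (fun i : Fin n => if z.val = i.val + 1 then (1 : K) else 0) = 0 from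
          funext fun i => by simp [z]] at this
        rwa [LinearMap.sub_apply, Module.End.one_apply, sub_eq_zero] at this
      have hsub : ∀ v, (Matrix.toLin' J * LinearMap.transvection f₀ u₀ - 1) v =
          (Matrix.toLin' J - 1) v + f₀ v • u₀ := fun v => by
        simp only [LinearMap.sub_apply, Module.End.one_apply, Module.End.mul_apply,
          LinearMap.transvection.apply, map_add, map_smul, hz]
        abel
      refine shift_form (by omega) _ (fun j => if j = o then 1 + t else 1) (fun j _ => ?_) ?_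
        fun j h => ?_
      · split_ifs
        · exact fun h => ht.2 (by linear_combination h)
        · exact one_ne_zero
      · rw [hsub, jordan_apply J hJ]
        funext i
        simp [f₀, u₀, hzo.symm, z, o]
      · rw [hsub, jordan_apply J hJ]
        funext i
        by_cases hj : j = 0
        · subst hj
          rcases Nat.eq_zero_or_pos (i : ℕ) with hi | hi
          · have : i = z := Fin.ext hi
            subst this
            simp [f₀, u₀, z, o]
          · have h1 : i ≠ z := fun e => by rw [e] at hi; simp [z] at hi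
            simp [f₀, u₀, h1, z, o, Nat.pos_iff_ne_zero.1 hi]
        · simp [f₀, u₀, Pi.single_apply, Fin.ext_iff, z, o, hj, eq_comm]
    let hJinv := hF.inv Ji hJi hiJ id (fun j => j.elim0)
    refine ⟨e.conj Ji, e.conj (Matrix.toLin' J * LinearMap.transvection f₀ u₀), ?_, ?_, ?_⟩
    · have hconj : ∀ v, e (LinearMap.transvection f₀ u₀ (e.symm v)) = A v := fun v => by
        rw [hA, he, e.apply_symm_apply]
      refine LinearMap.ext fun v => ?_
      simp only [Module.End.mul_apply, LinearEquiv.conj_apply_apply, e.symm_apply_apply]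
      rw [← Module.End.mul_apply Ji, hiJ, Module.End.one_apply, hconj]
    · exact ⟨hJinv.map e⟩
    · exact ⟨hX.map e⟩

end CfsgLib.KnownB.Sourour
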