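import Cfsg.Agent.Lib.KnownB.Sourour.Small

/-!
# The field with two elements
-/

set_option autoImplicit false

namespace CfsgLib.KnownB.Sourour

open Module Polynomial


variable {V : Type*} [AddCommGroup V] [Module (ZMod 2) V] [FiniteDimensional (ZMod 2) V]

theorem unit_two : ∀ x : ZMod 2, x ≠ 0 → x = 1 := by decide

/-- The polynomial in dimension four. -/
noncomputable def fourPoly (K : Type*) [Field K] : K[X] := (X ^ 2 - 1) * cubic K

theorem norm_two {G : Type*} [Field G] [Algebra (ZMod 2) G] [FiniteDimensional (ZMod 2) G] {α : G}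
    (hα : α ≠ 0) : Algebra.norm (ZMod 2) α = 1 :=
  unit_two _ (Algebra.norm_ne_zero_iff.2 hα)

theorem exists_top_two (A : End (ZMod 2) V) (hdet : LinearMap.det A = 1) (k : ℕ)
    (h2 : 2 * k ≤ finrank (ZMod 2) V) (h3 : 3 * k ≤ finrank (ZMod 2) V + 2) :
    ∃ W : Submodule (ZMod 2) V, finrank (ZMod 2) W = k ∧
      Disjoint W (W.map (A - (1 : ZMod 2) • 1)) := by
  rcases exists_disjoint_image (A - (1 : ZMod 2) • 1) k h2 with h | ⟨μ, hμ⟩
  · exact h
  · have hall : ∀ x : ZMod 2, x = 0 ∨ x = 1 := by decide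
    obtain rfl | rfl := hall μ
    · rw [zero_smul, sub_zero] at hμ
      exact exists_kernel_space A 1 (r := 2 * k - 2) (by omega) (by omega)
    · rw [sub_sub, ← add_smul, show (1 : ZMod 2) + 1 = 0 from rfl, zero_smul, sub_zero,
        rank_full hdet] at hμ
      omega

theorem two_three (h3 : finrank (ZMod 2) V = 3) (A : End (ZMod 2) V) (hdet : LinearMap.det A = 1) :
    GoodP (basePoly (ZMod 2)) A := by
  rcases base_two h3 A hdet with h | ⟨f, u, hf, hu, hfu, rfl⟩
  · exact h.base
  · exact goodBase_transvection (le_of_eq h3.symm) f u hf hu hfu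

theorem two_four (h4 : finrank (ZMod 2) V = 4) (A : End (ZMod 2) V) (hdet : LinearMap.det A = 1) :
    GoodP (fourPoly (ZMod 2)) A := by
  obtain ⟨x, φ, hA, hφx, htv⟩ := exists_line h4 A hdet (fun a ha => unit_two a fun h0 => by
    rw [ha, LinearMap.det_smul, map_one, mul_one, h0, zero_pow (by omega)] at hdet
    exact zero_ne_one hdet)
  have hk : finrank (ZMod 2) (LinearMap.ker φ) = 3 := by
    have := finrank_ker_form hφx
    omega
  obtain ⟨T, hTd, hTp⟩ :=
    (base_two hk (schur A x φ hA) ((det_schur A x φ hφx hA).trans hdet)).resolve_right htv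
  have h1 : aeval (1 : ZMod 2) (cubic (ZMod 2)) ≠ 0 := by
    rw [aeval_cubic]; decide
  obtain ⟨T', hd, hp⟩ := step_line A x φ hφx hA hdet (blockI (ZMod 2) (one_ne_zero : (1 : ZMod 2) ≠ 0))
    T (injective_minpoly hTp h1)
  refine ⟨T', ?_, aeval_of_dvd ?_ (hp _ hTp)⟩
  · rw [hd, hTd, det_blockI, norm_two one_ne_zero, mul_one]
  · change minpoly (ZMod 2) (1 : ZMod 2) * cubic (ZMod 2) ∣ fourPoly (ZMod 2)
    rw [minpoly.one]
    exact mul_dvd_mul_right ⟨X + 1, by ring⟩ _

/-- A step with a root outside. -/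
theorem two_step (A : End (ZMod 2) V) (hdet : LinearMap.det A = 1) (k : ℕ) (hk : k ≠ 0)
    (h2 : 2 * k ≤ finrank (ZMod 2) V) (h3 : 3 * k ≤ finrank (ZMod 2) V + 2)
    (ih : ∀ (U : Submodule (ZMod 2) V) (M : End (ZMod 2) U),
      finrank (ZMod 2) U = finrank (ZMod 2) V - k → LinearMap.det M = 1 →
        ∃ T : Twist M, LinearMap.det T.L = 1 ∧ ∃ (P : (ZMod 2)[X]) (α : GaloisField 2 k),
          aeval T.L P = 0 ∧ α ≠ 0 ∧ aeval α P ≠ 0) :
    ∃ T : Twist A, LinearMap.det T.L = 1 := by
  obtain ⟨W, hW, hd⟩ := exists_top_two A hdet k h2 h3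
  obtain ⟨U, M, hdim, hM, hstep⟩ := step A one_ne_zero hd hdet
  obtain ⟨T, hTd, P, α, hP, hα, hPα⟩ := ih U M (by omega) (by rw [hM, one_pow, inv_one])
  obtain ⟨T', hd', -⟩ := hstep (blockI (ZMod 2) hα) (by rw [GaloisField.finrank 2 hk, hW]) T
    (injective_minpoly hP hPα)
  exact ⟨T', by rw [hd', hTd, det_blockI, norm_two hα, mul_one]⟩

/-- An element with `α ^ 2 + α + 1 = 0`. -/
theorem exists_omega : ∃ α : GaloisField 2 2, α ≠ 0 ∧ α ≠ 1 ∧ α * α * α = 1 := by
  classical
  have hc : Nat.card (GaloisField 2 2) = 4 := GaloisField.card 2 2 (by norm_num)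
  obtain ⟨α, hα⟩ : ∃ α : GaloisField 2 2, α ∉ ({0, 1} : Finset (GaloisField 2 2)) := by
    by_contra h
    push Not at h
    let _ft : Fintype (GaloisField 2 2) := Fintype.ofFinite _
    have := Finset.card_le_card (fun x (_ : x ∈ (Finset.univ : Finset (GaloisField 2 2))) => h x)
    rw [Finset.card_univ, ← Nat.card_eq_fintype_card, hc] at this
    exact absurd (this.trans Finset.card_le_two) (by norm_num)
  simp only [Finset.mem_insert, Finset.mem_singleton, not_or] at hα
  let _ft : Fintype (GaloisField 2 2) := Fintype.ofFinite _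
  have h := FiniteField.pow_card_sub_one_eq_one α hα.1
  rw [← Nat.card_eq_fintype_card, hc] at h
  exact ⟨α, hα.1, hα.2, by simpa [pow_succ] using h⟩

theorem omega_values {α : GaloisField 2 2} (h0 : α ≠ 0) (h1 : α ≠ 1) (h3 : α * α * α = 1) :
    aeval α (basePoly (ZMod 2)) ≠ 0 ∧ aeval α (fourPoly (ZMod 2)) ≠ 0 := by
  have two : (2 : GaloisField 2 2) = 0 := CharP.cast_eq_zero (GaloisField 2 2) 2
  have hc : aeval α (cubic (ZMod 2)) ≠ 0 := by
    rw [aeval_cubic, h3]
    intro h
    exact h0 (by linear_combination -h)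
  have hs : α - 1 ≠ 0 := sub_ne_zero.2 h1
  constructor
  · simp only [basePoly, map_mul, map_pow, map_sub, aeval_X, map_one]
    exact mul_ne_zero (pow_ne_zero _ hs) hc
  · simp only [fourPoly, map_mul, map_pow, map_sub, aeval_X, map_one]
    refine mul_ne_zero (fun h => hs ?_) hc
    have : (α - 1) ^ 2 = 0 := by linear_combination h + (1 - α) * two
    exact pow_eq_zero_iff two_ne_zero |>.1 this

/-- Every element is a twist over the field with two elements. -/
theorem two_main (n : ℕ) : ∀ {V : Type} [AddCommGroup V] [Module (ZMod 2) V]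
    [FiniteDimensional (ZMod 2) V], finrank (ZMod 2) V = n → 3 ≤ n →
      ∀ A : End (ZMod 2) V, LinearMap.det A = 1 → ∃ T : Twist A, LinearMap.det T.L = 1 := by
  induction n using Nat.strong_induction_on with
  | _ n ih =>
    intro V _ _ _ hV hn A hdet
    rcases Nat.lt_or_ge n 7 with h7 | h7
    · obtain ⟨α, a0, a1, a3⟩ := exists_omega
      obtain ⟨v1, v2⟩ := omega_values a0 a1 a3
      interval_cases n
      · obtain ⟨T, h, -⟩ := two_three hV A hdet
        exact ⟨T, h⟩
      · obtain ⟨T, h, -⟩ := two_four hV A hdet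
        exact ⟨T, h⟩
      · refine two_step A hdet 2 two_ne_zero (by omega) (by omega) fun U M hU hM => ?_
        obtain ⟨T, h, hp⟩ := two_three (by omega) M hM
        exact ⟨T, h, _, α, hp, a0, v1⟩
      · refine two_step A hdet 2 two_ne_zero (by omega) (by omega) fun U M hU hM => ?_
        obtain ⟨T, h, hp⟩ := two_four (by omega) M hM
        exact ⟨T, h, _, α, hp, a0, v2⟩
    · have hk : 3 ≤ (n + 2) / 3 := by omega
      refine two_step A hdet ((n + 2) / 3) (by omega) (by omega) (by omega) fun U M hU hM => ?_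
      obtain ⟨T, h⟩ := ih (n - (n + 2) / 3) (by omega) (by omega) (by omega) M hM
      obtain ⟨P, hP0, hPd, hP⟩ := charpoly_data T.L
      classical
      let G := GaloisField 2 ((n + 2) / 3)
      let _ft : Fintype G := Fintype.ofFinite _
      have hcard : Fintype.card G = 2 ^ ((n + 2) / 3) := by
        rw [← Nat.card_eq_fintype_card]; exact GaloisField.card 2 _ (by omega)
      have hpow : ∀ k : ℕ, 3 ≤ k → 2 * k + 1 < 2 ^ k := by
        intro k hk3
        induction k, hk3 using Nat.le_induction with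
        | base => norm_num
        | succ k hk3 ihk => rw [pow_succ]; omega
      have := hpow _ hk
      obtain ⟨α, hα, hPα⟩ := exists_not_root hP0 ((Finset.univ : Finset G).erase 0) (by
        rw [Finset.card_erase_of_mem (Finset.mem_univ _), Finset.card_univ, hcard, hPd]
        omega)
      exact ⟨T, h, P, α, hP, (Finset.mem_erase.1 hα).1, hPα⟩

end CfsgLib.KnownB.Sourour
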