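import Mathlib

/-!
# Avoiding a few subspaces over a field with at least four elements
-/

set_option autoImplicit false

namespace CfsgLib.KnownB.Sourour

variable {K V : Type*} [Field K] [AddCommGroup V] [Module K V]

/-- A scalar outside a set of at most three scalars. -/
theorem exists_scalar (h4 : 4 ≤ ENat.card K) (s : Finset K) (hs : s.card ≤ 3) :
    ∃ t : K, t ∉ s := by
  by_contra h
  push Not at h
  have : ENat.card K ≤ 3 := by
    have hsurj : Function.Surjective (fun x : {x // x ∈ s} => (x : K)) := fun t => ⟨⟨t, h t⟩, rfl⟩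
    have : Finite K := Finite.of_surjective _ hsurj
    have := Nat.card_le_card_of_surjective _ hsurj
    rw [Nat.card_eq_finsetCard] at this
    let _i := Fintype.ofFinite K
    rw [ENat.card_eq_coe_fintype_card, Fintype.card_eq_nat_card]
    exact_mod_cast this.trans hs
  exact absurd (h4.trans this) (by decide)

/-- A line `y + t • z` meets a subspace not containing the line in at most one point. -/
theorem line_subsingleton (P : Submodule K V) (y z : V) (h : y ∉ P ∨ z ∉ P) {s t : K}
    (hs : y + s • z ∈ P) (ht : y + t • z ∈ P) : s = t := by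
  by_contra hne
  have hz : z ∈ P := by
    have : (s - t) • z ∈ P := by
      convert sub_mem hs ht using 1
      module
    exact (P.smul_mem_iff (sub_ne_zero.2 hne)).1 this
  rcases h with h | h
  · exact h (by simpa using sub_mem hs (P.smul_mem s hz))
  · exact h hz

/-- Three proper subspaces do not cover. -/
theorem avoid_three (h4 : 4 ≤ ENat.card K) (A B C : Submodule K V) (hA : A ≠ ⊤) (hB : B ≠ ⊤)
    (hC : C ≠ ⊤) : ∃ y, y ∉ A ∧ y ∉ B ∧ y ∉ C := by
  classical
  have h := Submodule.iUnion_ssubset_of_forall_ne_top_of_card_lt (Finset.univ : Finset (Fin 3))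
    ![A, B, C] (fun i => by fin_cases i <;> assumption)
    (lt_of_lt_of_le (show ((Finset.univ : Finset (Fin 3)).card : ℕ∞) < 4 by
      rw [Finset.card_univ, Fintype.card_fin]; decide) h4)
  rw [Set.ssubset_univ_iff, Ne, Set.iUnion₂_eq_univ_iff] at h
  push Not at h
  obtain ⟨y, hy⟩ := h
  exact ⟨y, hy 0 (Finset.mem_univ _), hy 1 (Finset.mem_univ _), hy 2 (Finset.mem_univ _)⟩

/-- Four proper subspaces do not cover. -/
theorem avoid_four (h4 : 4 ≤ ENat.card K) (A B C D : Submodule K V) (hA : A ≠ ⊤) (hB : B ≠ ⊤)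
    (hC : C ≠ ⊤) (hD : D ≠ ⊤) : ∃ y, y ∉ A ∧ y ∉ B ∧ y ∉ C ∧ y ∉ D := by
  classical
  by_cases hAD : A ≤ D
  · obtain ⟨y, h1, h2, h3⟩ := avoid_three h4 B C D hB hC hD
    exact ⟨y, fun h => h3 (hAD h), h1, h2, h3⟩
  · obtain ⟨z, hzA, hzD⟩ := SetLike.not_le_iff_exists.1 hAD
    obtain ⟨y, h1, h2, h3⟩ := avoid_three h4 A B C hA hB hC
    by_cases hy : y ∈ D
    · have one : ∀ (P : Submodule K V), y ∉ P → ∃ s : K, ∀ t, y + t • z ∈ P → t = s := by
        intro P hP
        by_cases he : ∃ s : K, y + s • z ∈ P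
        · obtain ⟨s, hs⟩ := he
          exact ⟨s, fun t ht => line_subsingleton P y z (Or.inl hP) ht hs⟩
        · exact ⟨0, fun t ht => absurd ⟨t, ht⟩ he⟩
      obtain ⟨b, hb⟩ := one B h2
      obtain ⟨c, hc⟩ := one C h3
      obtain ⟨t, ht⟩ := exists_scalar h4 {0, b, c} Finset.card_le_three
      simp only [Finset.mem_insert, Finset.mem_singleton, not_or] at ht
      refine ⟨y + t • z, fun h => h1 ?_, fun h => ht.2.1 (hb t h), fun h => ht.2.2 (hc t h),
        fun h => hzD ?_⟩
      · simpa using sub_mem h (A.smul_mem t hzA)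
      · have := sub_mem h hy
        rw [add_sub_cancel_left] at this
        exact (D.smul_mem_iff ht.1).1 this
    · exact ⟨y, h1, h2, h3, hy⟩

end CfsgLib.KnownB.Sourour
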