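import Cfsg.Agent.Lib.KnownB.Sourour.Galois

/-!
# Dimension three over the fields with two and three elements
-/

set_option autoImplicit false

namespace CfsgLib.KnownB.Sourour

open Module Polynomial Matrix

variable {K V W : Type*} [Field K] [AddCommGroup V] [Module K V] [AddCommGroup W] [Module K W]

/-- The cubic `X ^ 3 - X - 1`. -/
noncomputable def cubic (K : Type*) [Field K] : K[X] := X ^ 3 - X - 1

theorem aeval_cubic {A : Type*} [Ring A] [Algebra K A] (a : A) :
    aeval a (cubic K) = a * a * a - a - 1 := by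
  simp [cubic, pow_succ]

/-- Base-case polynomial. -/
noncomputable def basePoly (K : Type*) [Field K] : K[X] := (X - 1) ^ 3 * cubic K

theorem linearIndependent_of_cubic (hno : ∀ x : K, x * x * x - x - 1 ≠ 0) (T : End K V)
    (hT : ∀ v, T (T (T v)) = T v + v) {v : V} (hv : v ≠ 0) :
    LinearIndependent K ![v, T v, T (T v)] := by
  have h2 : ∀ a b : K, b • T v + a • v = 0 → b = 0 ∧ a = 0 := by
    intro a b h
    by_cases hb : b = 0
    · subst hb
      rw [zero_smul, zero_add, smul_eq_zero] at h
      exact ⟨rfl, h.resolve_right hv⟩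
    · exfalso
      obtain ⟨μ, hμ⟩ : ∃ μ, T v = μ • v := ⟨-a / b, by
        have : T v = b⁻¹ • (b • T v) := by rw [smul_smul, inv_mul_cancel₀ hb, one_smul]
        rw [this, eq_neg_of_add_eq_zero_left h, smul_neg, smul_smul, ← neg_smul]
        congr 1
        field_simp⟩
      have h3 := hT v
      simp only [hμ, map_smul, smul_smul] at h3
      have : (μ * μ * μ - μ - 1) • v = 0 := by linear_combination (norm := module) h3
      exact hno μ ((smul_eq_zero.1 this).resolve_right hv)
  rw [Fintype.linearIndependent_iff]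
  intro g hg
  rw [Fin.sum_univ_three] at hg
  simp only [Matrix.cons_val_zero, Matrix.cons_val_one, Matrix.cons_val] at hg
  have hg2 : g 2 = 0 := by
    by_contra hc
    obtain ⟨s, t, hst⟩ : ∃ s t : K, T (T v) = s • T v + t • v :=
      ⟨-g 1 / g 2, -g 0 / g 2, by
        have : T (T v) = (g 2)⁻¹ • (g 2 • T (T v)) := by
          rw [smul_smul, inv_mul_cancel₀ hc, one_smul]
        rw [this, eq_neg_of_add_eq_zero_right hg]
        module⟩
    have h3 := hT v
    rw [hst, map_add, map_smul, map_smul, hst] at h3
    obtain ⟨e1, e2⟩ := h2 (s * t - 1) (s * s + t - 1)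
      (by linear_combination (norm := module) h3)
    exact hno (-s) (by linear_combination e2 - s * e1)
  rw [hg2, zero_smul, add_zero, add_comm] at hg
  obtain ⟨e1, e0⟩ := h2 _ _ hg
  intro i
  fin_cases i
  exacts [e0, e1, hg2]

/-- Endomorphisms of three-spaces killed by the cubic are conjugate. -/
theorem conj_of_cubic [FiniteDimensional K V] [FiniteDimensional K W]
    (hno : ∀ x : K, x * x * x - x - 1 ≠ 0) (hV : finrank K V = 3)
    (hW : finrank K W = 3) (S : End K V) (T : End K W) (hS : ∀ v, S (S (S v)) = S v + v)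
    (hT : ∀ v, T (T (T v)) = T v + v) : ∃ e : V ≃ₗ[K] W, ∀ v, e (S v) = T (e v) := by
  have _nv : Nontrivial V := Module.nontrivial_of_finrank_pos (R := K) (by rw [hV]; norm_num)
  have _nw : Nontrivial W := Module.nontrivial_of_finrank_pos (R := K) (by rw [hW]; norm_num)
  obtain ⟨v, hv⟩ := exists_ne (0 : V)
  obtain ⟨w, hw⟩ := exists_ne (0 : W)
  let B := basisOfLinearIndependentOfCardEqFinrank (linearIndependent_of_cubic hno S hS hv)
    (by simp [hV])
  let B' := basisOfLinearIndependentOfCardEqFinrank (linearIndependent_of_cubic hno T hT hw)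
    (by simp [hW])
  have hB : ⇑B = ![v, S v, S (S v)] := coe_basisOfLinearIndependentOfCardEqFinrank _ _
  have hB' : ⇑B' = ![w, T w, T (T w)] := coe_basisOfLinearIndependentOfCardEqFinrank _ _
  let e := B.equiv B' (Equiv.refl _)
  have he : ∀ i, e (![v, S v, S (S v)] i) = ![w, T w, T (T w)] i := fun i => by
    rw [← hB, ← hB']; exact B.equiv_apply i B' (Equiv.refl _)
  have e0 := he 0
  have e1 := he 1
  have e2 := he 2
  simp only [Matrix.cons_val_zero, Matrix.cons_val_one, Matrix.cons_val] at e0 e1 e2
  refine ⟨e, fun u => LinearMap.congr_fun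
    (B.ext (f₁ := e.toLinearMap ∘ₗ S) (f₂ := T ∘ₗ e.toLinearMap) fun i => ?_) u⟩
  rw [LinearMap.comp_apply, LinearMap.comp_apply, hB]
  fin_cases i
  · simp only [Fin.zero_eta, Matrix.cons_val_zero, LinearEquiv.coe_coe, e0, e1]
  · simp only [Fin.mk_one, Matrix.cons_val_one, Matrix.cons_val_zero, LinearEquiv.coe_coe, e1, e2]
  · simp only [Fin.reduceFinMk, Matrix.cons_val, LinearEquiv.coe_coe, e2, hS v, hT w, map_add, e0,
      e1]

/-- A twist annihilated by the base polynomial. -/
def GoodBase (A : End K V) : Prop :=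
  ∃ T : Twist A, LinearMap.det T.L = 1 ∧ aeval T.L (basePoly K) = 0

theorem GoodBase.map {A : End K V} (h : GoodBase A) (φ : V ≃ₗ[K] W) : GoodBase (φ.conj A) := by
  obtain ⟨T, hd, hp⟩ := h
  refine ⟨T.map φ, ?_, T.map_aeval φ _ hp⟩
  change LinearMap.det (φ.conj T.L) = 1
  rw [det_equivConj, hd]

/-- Good with the cubic. -/
def GoodCubic (A : End K V) : Prop :=
  ∃ T : Twist A, LinearMap.det T.L = 1 ∧ aeval T.L (cubic K) = 0

theorem GoodCubic.map {A : End K V} (h : GoodCubic A) (φ : V ≃ₗ[K] W) : GoodCubic (φ.conj A) := by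
  obtain ⟨T, hd, hp⟩ := h
  refine ⟨T.map φ, ?_, T.map_aeval φ _ hp⟩
  change LinearMap.det (φ.conj T.L) = 1
  rw [det_equivConj, hd]

theorem GoodCubic.base {A : End K V} (h : GoodCubic A) : GoodBase A := by
  obtain ⟨T, hd, hp⟩ := h
  exact ⟨T, hd, by rw [basePoly, map_mul, hp, mul_zero]⟩

/-- A certificate. -/
theorem goodCubic_of_witness (hno : ∀ x : K, x * x * x - x - 1 ≠ 0)
    (hcube : ∀ d : K, d * d * d = d) (A Ai L : Matrix (Fin 3) (Fin 3) K) (h1 : A * Ai = 1)
    (hL : L * L * L = L + 1) (hd : L.det = 1)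
    (hU : Ai * L * (Ai * L) * (Ai * L) = Ai * L + 1) : GoodCubic (Matrix.toLin' A) := by
  let S : End K (Fin 3 → K) := Matrix.toLin' L
  let T : End K (Fin 3 → K) := Matrix.toLin' (Ai * L)
  have hS : ∀ v, S (S (S v)) = S v + v := fun v => by
    simp only [S, Matrix.toLin'_apply, Matrix.mulVec_mulVec, ← Matrix.mul_assoc]
    rw [hL, Matrix.add_mulVec, Matrix.one_mulVec]
  have hT : ∀ v, T (T (T v)) = T v + v := fun v => by
    simp only [T, Matrix.toLin'_apply, Matrix.mulVec_mulVec, ← Matrix.mul_assoc]
    rw [show Ai * L * Ai * L * Ai * L = Ai * L * (Ai * L) * (Ai * L) by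
      simp only [Matrix.mul_assoc], hU, Matrix.add_mulVec, Matrix.one_mulVec]
  obtain ⟨e, he⟩ := conj_of_cubic hno (by simp) (by simp) S T hS hT
  let Si : End K (Fin 3 → K) := S * S - 1
  have hSi1 : S * Si = 1 := LinearMap.ext fun v => by
    simp only [Si, mul_sub, mul_one, LinearMap.sub_apply, Module.End.mul_apply, hS,
      Module.End.one_apply, add_sub_cancel_left]
  have hSi2 : Si * S = 1 := LinearMap.ext fun v => by
    simp only [Si, sub_mul, one_mul, LinearMap.sub_apply, Module.End.mul_apply, hS,
      Module.End.one_apply, add_sub_cancel_left]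
  refine ⟨⟨S, Si, hSi1, hSi2, e, ?_, fun d _ => ⟨d • 1, ?_, ?_⟩⟩, ?_, ?_⟩
  · refine LinearMap.ext fun v => ?_
    rw [Module.End.mul_apply, LinearEquiv.conj_apply_apply]
    have hA : ∀ u, Matrix.toLin' A (T u) = S u := fun u => by
      simp only [T, S, Matrix.toLin'_apply, Matrix.mulVec_mulVec, ← Matrix.mul_assoc, h1,
        Matrix.one_mul]
    rw [← hA, ← he, ← Module.End.mul_apply S Si, hSi1, Module.End.one_apply, e.apply_symm_apply]
  · rw [LinearMap.det_smul, map_one, mul_one, Module.finrank_pi, Fintype.card_fin, pow_succ,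
      pow_two, hcube]
  · rw [smul_mul_assoc, mul_smul_comm, one_mul, mul_one]
  · change LinearMap.det (Matrix.toLin' L) = 1
    rw [LinearMap.det_toLin', hd]
  · change aeval S (cubic K) = 0
    rw [aeval_cubic]
    exact LinearMap.ext fun v => by
      simp [Module.End.mul_apply, hS]

variable [FiniteDimensional K V]

/-- A three-dimensional endomorphism has a cyclic vector or is within rank one of a scalar. -/
theorem cyclic_or_rank_one (h3 : finrank K V = 3) (A : End K V)
    (hns : ¬ ∃ a : K, A = a • (1 : End K V)) :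
    (∃ v, LinearIndependent K ![v, A v, A (A v)]) ∨
      ∃ l : K, finrank K (LinearMap.range (A - l • 1)) ≤ 1 := by
  obtain ⟨v, hv0, hv⟩ := exists_not_eigen A hns
  have hli2 : LinearIndependent K ![v, A v] := by
    rw [LinearIndependent.pair_iff' hv0]
    exact fun a ha => hv a ha.symm
  by_cases hmem : A (A v) ∈ Submodule.span K (Set.range ![v, A v])
  swap
  · left
    refine ⟨v, ?_⟩
    have : LinearIndependent K (Fin.snoc ![v, A v] (A (A v))) :=
      linearIndependent_finSnoc.2 ⟨hli2, hmem⟩
    convert this using 1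
    ext i
    fin_cases i <;> rfl
  obtain ⟨q, hq⟩ := Submodule.mem_span_range_iff_exists_fun K |>.1 hmem
  rw [Fin.sum_univ_two] at hq
  simp only [Matrix.cons_val_zero, Matrix.cons_val_one] at hq
  obtain ⟨w, hw⟩ : ∃ w, w ∉ Submodule.span K (Set.range ![v, A v]) := by
    by_contra h
    push Not at h
    have := finrank_range_le_card (R := K) ![v, A v]
    rw [Set.finrank, show Submodule.span K (Set.range ![v, A v]) = ⊤ from
      eq_top_iff.2 fun x _ => h x, finrank_top, h3] at this
    simp at this
  have hli : LinearIndependent K ![v, A v, w] := by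
    have : LinearIndependent K (Fin.snoc ![v, A v] w) := linearIndependent_finSnoc.2 ⟨hli2, hw⟩
    convert this using 1
    ext i
    fin_cases i <;> rfl
  let B := basisOfLinearIndependentOfCardEqFinrank hli (by simp [h3])
  have hB : ⇑B = ![v, A v, w] := coe_basisOfLinearIndependentOfCardEqFinrank hli _
  obtain ⟨a, b, μ, hAw⟩ : ∃ a b μ : K, A w = a • v + b • A v + μ • w :=
    ⟨B.repr (A w) 0, B.repr (A w) 1, B.repr (A w) 2, by
      conv_lhs => rw [← B.sum_repr (A w), Fin.sum_univ_three, hB]
      rfl⟩
  -- a cyclic vector of the form `w + r • v`, unless `A - μ` has rank one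
  let z : K → V := fun r => w + r • v
  by_cases hc : ∃ r : K, LinearIndependent K ![z r, A (z r), A (A (z r))]
  · obtain ⟨r, hr⟩ := hc
    exact Or.inl ⟨_, hr⟩
  push Not at hc
  right
  refine ⟨μ, ?_⟩
  have hdep : ∀ r : K, (b + r) * ((b + r) * q 0 - (a - μ * r) * μ) =
      (a - μ * r) * ((b + r) * q 1 + (a - μ * r) - (b + r) * μ) := by
    intro r
    by_contra hne
    refine hc r ?_
    have e1 : A (z r) = μ • z r + ((a - μ * r) • v + (b + r) • A v) := by
      simp only [z, map_add, map_smul, hAw]; module
    have e2 : A (A (z r)) = (μ * μ) • z r +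
        ((μ * (a - μ * r) + (b + r) * q 0) • v +
          (μ * (b + r) + (a - μ * r) + (b + r) * q 1) • A v) := by
      conv_lhs => rw [e1, map_add, map_add, map_smul, map_smul, map_smul, ← hq, e1]
      module
    rw [Fintype.linearIndependent_iff]
    intro g hg
    rw [Fin.sum_univ_three] at hg
    simp only [Matrix.cons_val_zero, Matrix.cons_val_one, Matrix.cons_val, e2] at hg
    rw [e1] at hg
    simp only [z] at hg
    have h0 := Fintype.linearIndependent_iff.1 hli
      ![(g 0 + g 1 * μ + g 2 * (μ * μ)) * r + g 1 * (a - μ * r) +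
          g 2 * (μ * (a - μ * r) + (b + r) * q 0),
        g 1 * (b + r) + g 2 * (μ * (b + r) + (a - μ * r) + (b + r) * q 1),
        g 0 + g 1 * μ + g 2 * (μ * μ)] (by
        rw [Fin.sum_univ_three]
        simp only [Matrix.cons_val_zero, Matrix.cons_val_one, Matrix.cons_val]
        linear_combination (norm := module) hg)
    have k0 := h0 0
    have k1 := h0 1
    have k2 := h0 2
    simp only [Matrix.cons_val_zero, Matrix.cons_val_one, Matrix.cons_val] at k0 k1 k2
    rw [k2, zero_mul, zero_add] at k0
    have g2 : g 2 = 0 := by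
      by_contra h2
      refine hne (mul_left_cancel₀ h2 ?_)
      linear_combination (b + r) * k0 - (a - μ * r) * k1
    rw [g2] at k0 k1 k2
    have g1 : g 1 = 0 := by
      by_contra h1
      have f0 : a - μ * r = 0 := by simpa [h1] using k0
      have f1 : b + r = 0 := by simpa [h1] using k1
      exact hne (by rw [f0, f1]; ring)
    intro i
    fin_cases i
    · simpa [g1] using k2
    · exact g1
    · exact g2
  -- the image of `A - μ` is a line
  let N := A - μ • (1 : End K V)
  have hNv : N v = -μ • v + A v := by simp [N]; module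
  have hNw : N w = a • v + b • A v := by simp [N, hAw]
  have hNAv : N (A v) = q 0 • v + (q 1 - μ) • A v := by
    simp only [N, LinearMap.sub_apply, LinearMap.smul_apply, Module.End.one_apply, ← hq]
    module
  have hm1 := hdep (-b)
  have heq : a + μ * b = 0 := by
    have : (a + μ * b) * (a + μ * b) = 0 := by linear_combination (-1) * hm1
    exact mul_self_eq_zero.1 this
  have hq0 : q 0 = -μ * (q 1 - μ) := by
    have ha : a = -μ * b := by linear_combination heq
    subst ha
    have := hdep (1 - b)
    linear_combination this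
  have hle : LinearMap.range N ≤ K ∙ N v := by
    rw [LinearMap.range_eq_map, ← B.span_eq, Submodule.map_span, Submodule.span_le]
    rintro _ ⟨_, ⟨i, rfl⟩, rfl⟩
    rw [SetLike.mem_coe, Submodule.mem_span_singleton, hB]
    fin_cases i
    · exact ⟨1, one_smul _ _⟩
    · exact ⟨q 1 - μ, by
        change _ = N (A v)
        rw [hNAv, hNv, hq0]; module⟩
    · exact ⟨b, by
        change _ = N w
        rw [hNw, hNv, show a = -μ * b by linear_combination heq]; module⟩
  exact (Submodule.finrank_mono hle).trans ((finrank_span_le_card ({N v} : Set V)).trans (by simp))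

end CfsgLib.KnownB.Sourour
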