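import Cfsg.Agent.Lib.KnownB.Sourour.Base

/-!
# The three-dimensional base over `ZMod 2` and `ZMod 3`
-/

set_option autoImplicit false

namespace CfsgLib.KnownB.Sourour

open Module Polynomial Matrix

section generic

variable {K V : Type*} [Field K] [AddCommGroup V] [Module K V] [FiniteDimensional K V]

theorem conj_toMatrix {ι : Type*} [Fintype ι] [DecidableEq ι] (B : Basis ι K V) (A : End K V)
    (M : Matrix ι ι K) (h : ∀ j, A (B j) = ∑ i, M i j • B i) :
    A = B.equivFun.symm.conj (Matrix.toLin' M) := by
  refine B.ext fun j => ?_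
  rw [h, LinearEquiv.conj_apply_apply, LinearEquiv.symm_symm, Basis.equivFun_symm_apply]
  refine Finset.sum_congr rfl fun i _ => ?_
  congr 1
  simp [Matrix.mulVec, dotProduct, Basis.equivFun_apply, Finsupp.single_apply]

/-- A transvection in dimension at least three has a twist by transvections. -/
theorem twist_transvection (h3 : 3 ≤ finrank K V) (f : Dual K V) (u : V) (hf : f ≠ 0) (hu : u ≠ 0)
    (hfu : f u = 0) : ∃ T : Twist (LinearMap.transvection f u),
      LinearMap.det T.L = 1 ∧ aeval T.L ((X - 1) ^ 2 : K[X]) = 0 := by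
  classical
  let B := finBasis K V
  let i0 : Fin (finrank K V) := ⟨0, by omega⟩
  let i1 : Fin (finrank K V) := ⟨1, by omega⟩
  let i2 : Fin (finrank K V) := ⟨2, by omega⟩
  have h01 : i0 ≠ i1 := fun h => by simpa [i0, i1] using congrArg Fin.val h
  have h02 : i0 ≠ i2 := fun h => by simpa [i0, i2] using congrArg Fin.val h
  have h12 : i1 ≠ i2 := fun h => by simpa [i1, i2] using congrArg Fin.val h
  have e10 : B.coord i1 (B i0) = 0 := by simp [h01]
  have e20 : B.coord i2 (B i0) = 0 := by simp [h02]
  have e12 : B.coord i1 (B i2) = 0 := by simp [h12.symm]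
  have e22 : B.coord i2 (B i2) = 1 := by simp
  obtain ⟨φ, hφ⟩ := transvection_conj (B.coord i1) f (B i0) u
    (fun h => by simpa using LinearMap.congr_fun h (B i1)) hf (B.ne_zero i0) hu e10 hfu
  have heq : φ.conj (LinearMap.transvection (B.coord i1) (B i0)) = LinearMap.transvection f u :=
    LinearMap.ext fun v => by rw [LinearEquiv.conj_apply_apply, hφ, φ.apply_symm_apply]
  let a := LinearMap.transvection (B.coord i2) (B i0)
  let ai := LinearMap.transvection (B.coord i2) (-B i0)
  let b := LinearMap.transvection (B.coord i1) (B i2)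
  have hb : Function.Bijective b := (Module.End.isUnit_iff b).1
    ((LinearMap.isUnit_iff_isUnit_det b).2 (by
      simp only [b, LinearMap.transvection.det, e12, add_zero, isUnit_one]))
  have ha1 : a * ai = 1 := LinearMap.ext fun v => by
    simp only [a, ai, Module.End.mul_apply, LinearMap.transvection.apply, map_add, map_smul,
      map_neg, e20, zero_smul, Module.End.one_apply, smul_neg]
    abel
  have ha2 : ai * a = 1 := LinearMap.ext fun v => by
    simp only [a, ai, Module.End.mul_apply, LinearMap.transvection.apply, map_add, map_smul,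
      e20, zero_smul, Module.End.one_apply, smul_neg]
    abel
  have hA : LinearMap.transvection (B.coord i1) (B i0) =
      a * (LinearEquiv.ofBijective b hb).conj ai := by
    refine LinearMap.ext fun v => ?_
    obtain ⟨w, rfl⟩ := hb.2 v
    rw [Module.End.mul_apply, LinearEquiv.conj_apply_apply,
      show (LinearEquiv.ofBijective b hb).symm (b w) = w from
        (LinearEquiv.ofBijective b hb).symm_apply_apply w]
    change _ = a (b (ai w))
    simp only [a, ai, b, LinearMap.transvection.apply, map_add, map_smul, map_neg, e10, e20,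
      e12, e22, add_zero, zero_smul, smul_add, one_smul, smul_neg]
    abel
  have fix : ∀ d : K, d ≠ 0 → ∃ z : End K V, LinearMap.det z = d ∧ z * a = a * z := by
    intro d hd
    let c : Fin (finrank K V) → K := fun i => if i = i1 then d else 1
    let z : End K V := B.constr K fun i => c i • B i
    have hz : ∀ i, z (B i) = c i • B i := fun i => B.constr_basis K _ i
    refine ⟨z, ?_, B.ext fun i => ?_⟩
    · rw [← LinearMap.det_toMatrix B, show LinearMap.toMatrix B B z = Matrix.diagonal c from
        Matrix.ext fun i j => by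
          rw [LinearMap.toMatrix_apply, hz]
          by_cases h : i = j
          · subst h; simp
          · simp [h], Matrix.det_diagonal]
      simp [c]
    · simp only [a, Module.End.mul_apply, LinearMap.transvection.apply, hz, map_add, map_smul]
      have hz0 : z (B i0) = B i0 := by rw [hz]; simp [c, h01]
      by_cases hi : i = i2
      · subst hi
        simp [c, h12.symm, h01]
      · simp [Ne.symm hi]
  let T0 : Twist (LinearMap.transvection (B.coord i1) (B i0)) :=
    ⟨a, ai, ha1, ha2, LinearEquiv.ofBijective b hb, hA, fix⟩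
  rw [← heq]
  refine ⟨T0.map φ, ?_, T0.map_aeval φ _ ?_⟩
  · change LinearMap.det (φ.conj a) = 1
    rw [det_equivConj, LinearMap.transvection.det, e20, add_zero]
  · change aeval a ((X - 1) ^ 2 : K[X]) = 0
    refine LinearMap.ext fun v => ?_
    rw [pow_two, map_mul, map_sub, aeval_X, map_one, Module.End.mul_apply]
    simp [a, LinearMap.transvection.apply, h02]

/-- Transvections are good for the base polynomial. -/
theorem goodBase_transvection (h3 : 3 ≤ finrank K V) (f : Dual K V) (u : V) (hf : f ≠ 0)
    (hu : u ≠ 0) (hfu : f u = 0) : GoodBase (LinearMap.transvection f u) := by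
  obtain ⟨T, hd, hp⟩ := twist_transvection h3 f u hf hu hfu
  refine ⟨T, hd, ?_⟩
  rw [basePoly, show ((X - 1) ^ 3 : K[X]) * cubic K = ((X - 1) * cubic K) * (X - 1) ^ 2 by ring,
    map_mul, hp, mul_zero]

/-- Being a transvection. -/
def IsTv (A : End K V) : Prop :=
  ∃ (f : Dual K V) (u : V), f ≠ 0 ∧ u ≠ 0 ∧ f u = 0 ∧ A = LinearMap.transvection f u

/-- The base in dimension three, given certificates for the models. -/
theorem base_cases (hcube : ∀ d : K, d * d * d = d) (h3 : finrank K V = 3)
    (hI : GoodCubic (Matrix.toLin' (1 : Matrix (Fin 3) (Fin 3) K)))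
    (hC : ∀ s t : K, GoodCubic (Matrix.toLin' (!![0, 0, 1; 1, 0, s; 0, 1, t])))
    (hD : (2 : K) ≠ 0 → GoodCubic (Matrix.toLin' (!![-1, 0, 0; 0, -1, 0; 0, 0, 1] : Matrix _ _ K)))
    (A : End K V) (hdet : LinearMap.det A = 1) : GoodCubic A ∨ IsTv A := by
  let B₀ := finBasisOfFinrankEq K V h3
  have hone : GoodCubic (1 : End K V) := by
    have := hI.map B₀.equivFun.symm
    rw [Matrix.toLin'_one] at this
    rwa [show (B₀.equivFun.symm.conj (LinearMap.id : End K (Fin 3 → K))) = 1 from
      LinearEquiv.conj_id _] at this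
  by_cases hns : ∃ a : K, A = a • (1 : End K V)
  · obtain ⟨a, rfl⟩ := hns
    rw [LinearMap.det_smul, map_one, mul_one, h3, pow_succ, pow_two, hcube] at hdet
    rw [hdet, one_smul]
    exact Or.inl hone
  rcases cyclic_or_rank_one h3 A hns with ⟨v, hv⟩ | ⟨l, hl⟩
  · left
    let B := basisOfLinearIndependentOfCardEqFinrank hv (by simp [h3])
    have hB : ⇑B = ![v, A v, A (A v)] := coe_basisOfLinearIndependentOfCardEqFinrank _ _
    let c := B.repr (A (A (A v)))
    have h : ∀ j, A (B j) = ∑ i, (!![0, 0, c 0; 1, 0, c 1; 0, 1, c 2]) i j • B i := by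
      intro j
      rw [Fin.sum_univ_three]
      fin_cases j
      · simp [hB]
      · simp [hB]
      · change A (B 2) = _
        conv_lhs => rw [show A (B 2) = A (A (A v)) by rw [hB]; rfl,
          ← B.sum_repr (A (A (A v))), Fin.sum_univ_three]
        simp [c]
    have hA := conj_toMatrix B A _ h
    have hc : c 0 = 1 := by
      rw [hA, det_equivConj, LinearMap.det_toLin', Matrix.det_fin_three] at hdet
      simpa using hdet
    rw [hc] at hA
    rw [hA]
    exact (hC _ _).map _
  · have hinj : Function.Bijective A := (Module.End.isUnit_iff A).1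
      ((LinearMap.isUnit_iff_isUnit_det A).2 (by rw [hdet]; exact isUnit_one))
    have hl0 : l ≠ 0 := fun h => by
      rw [h, zero_smul, sub_zero, LinearMap.range_eq_top.2 hinj.2, finrank_top] at hl
      omega
    have hl2 : l * l = 1 := mul_left_cancel₀ hl0 (by rw [← mul_assoc, hcube, mul_one])
    rcases mul_self_eq_one_iff.1 hl2 with rfl | rfl
    · rw [one_smul] at hl
      obtain ⟨f, u, hf, hu, hfu, hA⟩ := exists_transvection A hdet
        (fun h => hns ⟨1, by rw [h, one_smul]⟩) (by omega)
      exact Or.inr ⟨f, u, hf, hu, hfu, hA⟩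
    · by_cases h2 : (2 : K) = 0
      · have hm : (-1 : K) = 1 := by linear_combination (-1 : K) * h2
        rw [hm, one_smul] at hl
        obtain ⟨f, u, hf, hu, hfu, hA⟩ := exists_transvection A hdet
          (fun h => hns ⟨1, by rw [h, one_smul]⟩) (by omega)
        exact Or.inr ⟨f, u, hf, hu, hfu, hA⟩
      left
      rw [neg_smul, one_smul, sub_neg_eq_add] at hl
      have hne : LinearMap.range (A + 1) ≠ ⊥ := fun h => hns ⟨-1, by
        rw [LinearMap.range_eq_bot] at h
        rw [neg_smul, one_smul]
        exact eq_neg_of_add_eq_zero_left h⟩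
      obtain ⟨u, hu, hu0⟩ := Submodule.exists_mem_ne_zero_of_ne_bot hne
      have hspan : K ∙ u = LinearMap.range (A + 1) :=
        Submodule.eq_of_le_of_finrank_le ((Submodule.span_singleton_le_iff_mem _ _).2 hu)
          (by rw [finrank_span_singleton hu0]; omega)
      obtain ⟨a, ha⟩ : ∃ a : K, a • u = (A + 1) u :=
        Submodule.mem_span_singleton.1 (hspan ▸ LinearMap.mem_range_self _ u)
      have hk : 2 ≤ finrank K (LinearMap.ker (A + 1)) := by
        have := (A + 1).finrank_range_add_finrank_ker
        omega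
      obtain ⟨k, hki⟩ := exists_linearIndependent_of_le_finrank hk
      have hki' : LinearIndependent K (fun i => (k i : V)) :=
        hki.map' (LinearMap.ker (A + 1)).subtype (Submodule.ker_subtype _)
      have hkA : ∀ i, A (k i : V) = -(k i : V) := fun i => eq_neg_of_add_eq_zero_left (k i).2
      have hAu : A u = (a - 1) • u := by
        rw [sub_smul, one_smul, ha]; simp
      by_cases hmem : u ∈ Submodule.span K (Set.range fun i => (k i : V))
      · -- then `A` would be minus a transvection
        exfalso
        obtain ⟨g, hg⟩ := (Submodule.mem_span_range_iff_exists_fun K).1 hmem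
        obtain ⟨w, hw⟩ : ∃ w, w ∉ Submodule.span K (Set.range fun i => (k i : V)) := by
          by_contra h
          push Not at h
          have := finrank_range_le_card (R := K) fun i => (k i : V)
          rw [Set.finrank, show Submodule.span K (Set.range fun i => (k i : V)) = ⊤ from
            eq_top_iff.2 fun x _ => h x, finrank_top, h3] at this
          simp at this
        have hli : LinearIndependent K ![(k 0 : V), (k 1 : V), w] := by
          have : LinearIndependent K (Fin.snoc (fun i => (k i : V)) w) :=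
            linearIndependent_finSnoc.2 ⟨hki', hw⟩
          convert this using 1
          ext i
          fin_cases i <;> rfl
        let B := basisOfLinearIndependentOfCardEqFinrank hli (by simp [h3])
        have hB : ⇑B = ![(k 0 : V), (k 1 : V), w] := coe_basisOfLinearIndependentOfCardEqFinrank _ _
        obtain ⟨e, he⟩ : ∃ e : K, e • u = (A + 1) w :=
          Submodule.mem_span_singleton.1 (hspan ▸ LinearMap.mem_range_self _ w)
        rw [Fin.sum_univ_two] at hg
        have h : ∀ j, A (B j) = ∑ i, (!![-1, 0, e * g 0; 0, -1, e * g 1; 0, 0, -1]) i j • B i := by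
          intro j
          rw [Fin.sum_univ_three]
          fin_cases j
          · simp [hB, hkA]
          · simp [hB, hkA]
          · simp [hB]
            rw [LinearMap.add_apply, Module.End.one_apply] at he
            linear_combination (norm := module) (-1 : K) • he - e • hg
        have hA := conj_toMatrix B A _ h
        rw [hA, det_equivConj, LinearMap.det_toLin', Matrix.det_fin_three] at hdet
        simp at hdet
        exact h2 (by linear_combination (-1 : K) * hdet)
      · have hli : LinearIndependent K ![(k 0 : V), (k 1 : V), u] := by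
          have : LinearIndependent K (Fin.snoc (fun i => (k i : V)) u) :=
            linearIndependent_finSnoc.2 ⟨hki', hmem⟩
          convert this using 1
          ext i
          fin_cases i <;> rfl
        let B := basisOfLinearIndependentOfCardEqFinrank hli (by simp [h3])
        have hB : ⇑B = ![(k 0 : V), (k 1 : V), u] := coe_basisOfLinearIndependentOfCardEqFinrank _ _
        have h : ∀ j, A (B j) = ∑ i, (!![-1, 0, 0; 0, -1, 0; 0, 0, a - 1]) i j • B i := by
          intro j
          rw [Fin.sum_univ_three]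
          fin_cases j
          · simp [hB, hkA]
          · simp [hB, hkA]
          · simp [hB, hAu]
        have hA := conj_toMatrix B A _ h
        have ha' : a - 1 = 1 := by
          rw [hA, det_equivConj, LinearMap.det_toLin', Matrix.det_fin_three] at hdet
          simpa using hdet
        rw [ha'] at hA
        rw [hA]
        exact (hD h2).map _

end generic

theorem hno_two : ∀ x : ZMod 2, x * x * x - x - 1 ≠ 0 := by decide

theorem hno_three : ∀ x : ZMod 3, x * x * x - x - 1 ≠ 0 := by decide

theorem hcube_two : ∀ d : ZMod 2, d * d * d = d := by decide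

theorem hcube_three : ∀ d : ZMod 3, d * d * d = d := by decide

/-- A certificate over `ZMod 2`. -/
theorem witness_two (A Ai L : Matrix (Fin 3) (Fin 3) (ZMod 2))
    (h : A * Ai = 1 ∧ L * L * L = L + 1 ∧ L.det = 1 ∧
      Ai * L * (Ai * L) * (Ai * L) = Ai * L + 1) : GoodCubic (Matrix.toLin' A) :=
  goodCubic_of_witness hno_two hcube_two A Ai L h.1 h.2.1 h.2.2.1 h.2.2.2

/-- A certificate over `ZMod 3`. -/
theorem witness_three (A Ai L : Matrix (Fin 3) (Fin 3) (ZMod 3))
    (h : A * Ai = 1 ∧ L * L * L = L + 1 ∧ L.det = 1 ∧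
      Ai * L * (Ai * L) * (Ai * L) = Ai * L + 1) : GoodCubic (Matrix.toLin' A) :=
  goodCubic_of_witness hno_three hcube_three A Ai L h.1 h.2.1 h.2.2.1 h.2.2.2

variable {V : Type*} [AddCommGroup V]

theorem base_two [Module (ZMod 2) V] [FiniteDimensional (ZMod 2) V]
    (h3 : finrank (ZMod 2) V = 3) (A : End (ZMod 2) V) (hdet : LinearMap.det A = 1) :
    GoodCubic A ∨ IsTv A := by
  refine base_cases hcube_two h3 ?_ ?_ (fun h => absurd (by decide) h) A hdet
  · exact witness_two _ 1 !![0, 0, 1; 0, 1, 1; 1, 1, 1] (by decide)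
  · intro s t
    fin_cases s <;> fin_cases t
    · exact witness_two _ !![0, 1, 0; 0, 0, 1; 1, 0, 0] !![0, 1, 1; 1, 1, 1; 1, 0, 1] (by decide)
    · exact witness_two _ !![0, 1, 0; 1, 0, 1; 1, 0, 0] !![0, 1, 0; 1, 0, 1; 1, 0, 0] (by decide)
    · exact witness_two _ !![1, 1, 0; 0, 0, 1; 1, 0, 0] !![0, 1, 0; 0, 1, 1; 1, 0, 1] (by decide)
    · exact witness_two _ !![1, 1, 0; 1, 0, 1; 1, 0, 0] !![0, 1, 0; 0, 0, 1; 1, 1, 0] (by decide)

theorem base_three [Module (ZMod 3) V] [FiniteDimensional (ZMod 3) V]
    (h3 : finrank (ZMod 3) V = 3) (A : End (ZMod 3) V) (hdet : LinearMap.det A = 1) :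
    GoodCubic A ∨ IsTv A := by
  refine base_cases hcube_three h3 ?_ ?_ (fun _ => ?_) A hdet
  · exact witness_three _ 1 !![0, 0, 1; 0, 1, 1; 2, 1, 2] (by decide)
  · intro s t
    fin_cases s <;> fin_cases t
    · exact witness_three _ !![0, 1, 0; 0, 0, 1; 1, 0, 0] !![0, 1, 0; 0, 1, 2; 2, 0, 2] (by decide)
    · exact witness_three _ !![0, 1, 0; 2, 0, 1; 1, 0, 0] !![0, 1, 0; 1, 0, 1; 1, 0, 0] (by decide)
    · exact witness_three _ !![0, 1, 0; 1, 0, 1; 1, 0, 0] !![0, 1, 0; 1, 2, 2; 1, 1, 1] (by decide)
    · exact witness_three _ !![2, 1, 0; 0, 0, 1; 1, 0, 0] !![0, 1, 0; 1, 2, 1; 2, 2, 1] (by decide)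
    · exact witness_three _ !![2, 1, 0; 2, 0, 1; 1, 0, 0] !![0, 1, 1; 1, 1, 0; 2, 2, 2] (by decide)
    · exact witness_three _ !![2, 1, 0; 1, 0, 1; 1, 0, 0] !![0, 1, 0; 0, 0, 2; 2, 2, 0] (by decide)
    · exact witness_three _ !![1, 1, 0; 0, 0, 1; 1, 0, 0] !![0, 1, 0; 0, 1, 1; 1, 0, 2] (by decide)
    · exact witness_three _ !![1, 1, 0; 2, 0, 1; 1, 0, 0] !![0, 1, 0; 0, 0, 1; 1, 1, 0] (by decide)
    · exact witness_three _ !![1, 1, 0; 1, 0, 1; 1, 0, 0] !![0, 1, 1; 0, 0, 2; 2, 1, 0] (by decide)
  · exact witness_three _ !![2, 0, 0; 0, 2, 0; 0, 0, 1] !![0, 1, 0; 1, 0, 1; 1, 0, 0] (by decide)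

end CfsgLib.KnownB.Sourour
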