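import Cfsg.Agent.Lib.KnownB.Sourour.Lift

/-!
# Non-scalar unimodular endomorphisms as products of two regular elements

`factor_unipotent`: two regular unipotents. `factor_pair`: two elements with eigenvalues
`a, a⁻¹, 1, ..., 1`, regular on the eigenvalue `1`.
-/

set_option autoImplicit false

namespace CfsgLib.KnownB.Sourour

open Module Polynomial

/-- Unipotent chains. -/
theorem factor_unipotent {K : Type*} [Field K] (h4 : 4 ≤ ENat.card K) (n : ℕ) :
    ∀ {V : Type*} [AddCommGroup V] [Module K V] [FiniteDimensional K V],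
      finrank K V = n → 1 ≤ n → ∀ A : End K V, LinearMap.det A = 1 →
      (n = 1 ∨ (2 ≤ finrank K (LinearMap.range (A - 1)) ∧ ¬ ∃ a : K, A = a • (1 : End K V))) →
      ∀ (b : V) (c : Dual K V), b ≠ 0 → c ≠ 0 →
        Nonempty (FacData A n (1 : K[X]) (∅ : Finset K) b c) := by
  induction n with
  | zero => intro V _ _ _ _ h; omega
  | succ n ih =>
    intro V _ _ _ hn _ A hdet hA b c hb hc
    by_cases hn1 : n = 0
    · subst hn1
      have hA1 : A = 1 := by
        obtain ⟨a, ha, -⟩ := A.existsUnique_eq_smul_id_of_finrank_eq_one hn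
        rw [← Module.End.one_eq_id] at ha
        rw [ha, LinearMap.det_smul, hn, pow_one, map_one, mul_one] at hdet
        rw [ha, hdet, one_smul]
      refine ⟨{ L := 1, U := 1, hmul := (by rw [hA1, one_mul]), hLq := (fun v => by simp),
                hUq := (fun v => by simp), hLe := (by simp), hUe := (by simp),
                hb := (by simpa using hb), hc := ?_ }⟩
      by_contra h
      push Not at h
      exact hc (LinearMap.ext fun v => by simpa using h v)
    · obtain ⟨hr, hns⟩ := hA.resolve_left (by omega)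
      by_cases hn2 : n = 1
      · subst hn2
        obtain ⟨s⟩ := exists_step_two h4 A hn hr hns b hb c hc
        have hk : finrank K (LinearMap.ker s.φ) = 1 := by
          have := finrank_ker_form s.hx
          omega
        obtain ⟨F⟩ := ih hk le_rfl s.next ((det_schur A s.x s.φ s.hx s.hA).trans hdet)
          (Or.inl rfl) s.col s.row s.col_ne_zero s.row_ne_zero
        exact ⟨F.lift le_rfl (Finset.notMem_empty _)⟩
      · obtain ⟨s, hr', hns'⟩ := exists_step h4 A (by omega) hdet hr hns b hb c hc
        have hk : finrank K (LinearMap.ker s.φ) = n := by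
          have := finrank_ker_form s.hx
          omega
        obtain ⟨F⟩ := ih hk (by omega) s.next ((det_schur A s.x s.φ s.hx s.hA).trans hdet)
          (Or.inr ⟨hr', hns'⟩) s.col s.row s.col_ne_zero s.row_ne_zero
        exact ⟨F.lift (by omega) (Finset.notMem_empty _)⟩

/-- The quadratic with roots `a` and `a⁻¹`. -/
noncomputable def pairPoly {K : Type*} [Field K] (a : K) : K[X] := (X - C a) * (X - C a⁻¹)

theorem pairPoly_eval_one {K : Type*} [Field K] {a : K} (ha : a ≠ 1) :
    (pairPoly a).eval 1 ≠ 0 := by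
  simp only [pairPoly, eval_mul, eval_sub, eval_X, eval_C, mul_ne_zero_iff, sub_ne_zero]
  exact ⟨ha.symm, fun h => ha (inv_eq_one.1 h.symm)⟩

theorem pairPoly_aeval_eigen {K V : Type*} [Field K] [AddCommGroup V] [Module K V] (T : End K V)
    {a μ : K} (hμ : μ = a ∨ μ = a⁻¹) {w : V} (hw : T w = μ • w) : aeval T (pairPoly a) w = 0 := by
  simp only [pairPoly, map_mul, map_sub, aeval_X, aeval_C, Module.End.mul_apply,
    LinearMap.sub_apply, Module.algebraMap_end_apply, hw, map_smul]
  rcases hμ with rfl | rfl <;> module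

/-- A non-scalar unimodular endomorphism of a plane is a product of two semisimple ones with
eigenvalues `a, a⁻¹`. -/
theorem factor_plane {K V : Type*} [Field K] [DecidableEq K] [AddCommGroup V] [Module K V]
    [FiniteDimensional K V] (h2 : finrank K V = 2) (M : End K V) (hdet : LinearMap.det M = 1)
    (hns : ¬ ∃ l : K, M = l • (1 : End K V)) {a : K} (ha : a ≠ 0) (haa : a⁻¹ ≠ a) :
    Nonempty (Factors M 0 (pairPoly a) ({a, a⁻¹} : Finset K)) := by
  obtain ⟨v, hv0, hv⟩ := exists_not_eigen M hns
  have hli : LinearIndependent K ![v, M v - (a * a) • v] := by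
    rw [LinearIndependent.pair_iff' hv0]
    intro l hl
    exact hv (l + a * a) (by rw [add_smul, hl, sub_add_cancel])
  let B := basisOfLinearIndependentOfCardEqFinrank hli (by simp [h2])
  have hB : ⇑B = ![v, M v - (a * a) • v] := coe_basisOfLinearIndependentOfCardEqFinrank hli _
  have hM0 : M (B 0) = (a * a) • B 0 + B 1 := by
    rw [hB]; simp only [Matrix.cons_val_zero, Matrix.cons_val_one]; abel
  obtain ⟨s, t, hM1⟩ : ∃ s t : K, M (B 1) = s • B 0 + t • B 1 :=
    ⟨B.repr (M (B 1)) 0, B.repr (M (B 1)) 1, by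
      conv_lhs => rw [← B.sum_repr (M (B 1)), Fin.sum_univ_two]⟩
  have hts : a * a * t - s = 1 := by
    rw [← hdet, ← LinearMap.det_toMatrix B, Matrix.det_fin_two]
    simp only [LinearMap.toMatrix_apply, hM0, hM1, map_add, map_smul, B.repr_self,
      Finsupp.coe_add, Finsupp.coe_smul, Pi.add_apply, Pi.smul_apply, smul_eq_mul]
    simp
  let L : End K V := B.constr K ![a • B 0 + a⁻¹ • B 1, a⁻¹ • B 1]
  let U : End K V := B.constr K ![a • B 0, (s * a⁻¹) • B 0 + a⁻¹ • B 1]
  have hL0 : L (B 0) = a • B 0 + a⁻¹ • B 1 := by simp [L]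
  have hL1 : L (B 1) = a⁻¹ • B 1 := by simp [L]
  have hU0 : U (B 0) = a • B 0 := by simp [U]
  have hU1 : U (B 1) = (s * a⁻¹) • B 0 + a⁻¹ • B 1 := by simp [U]
  let w : V := (a - a⁻¹) • B 0 + a⁻¹ • B 1
  have hw : L w = a • w := by
    simp only [w, map_add, map_smul, hL0, hL1, smul_add, smul_smul, add_assoc, ← add_smul]
    congr 2
    · ring
    · field_simp
      ring
  let u : V := (s * a⁻¹) • B 0 + (a⁻¹ - a) • B 1
  have hu : U u = a⁻¹ • u := by
    simp only [u, map_add, map_smul, hU0, hU1, smul_add, smul_smul, ← add_assoc, ← add_smul]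
    congr 2
    · field_simp
      ring
    · ring
  have hw0 : w ≠ 0 := fun h => sub_ne_zero.2 haa.symm
    (by simpa [w] using congrArg (fun z => B.repr z 0) h)
  have hu0 : u ≠ 0 := fun h => sub_ne_zero.2 haa
    (by simpa [u] using congrArg (fun z => B.repr z 1) h)
  have hqL : aeval L (pairPoly a) = 0 := B.ext fun i => by
    have h1 := pairPoly_aeval_eigen L (Or.inr rfl) hL1
    have h0 : (a - a⁻¹) • aeval L (pairPoly a) (B 0) = 0 := by
      have := pairPoly_aeval_eigen L (Or.inl rfl) hw
      simpa [w, h1] using this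
    fin_cases i
    · simpa [sub_ne_zero.2 haa.symm] using h0
    · simpa using h1
  have hqU : aeval U (pairPoly a) = 0 := B.ext fun i => by
    have h0 := pairPoly_aeval_eigen U (Or.inl rfl) hU0
    have h1 : (a⁻¹ - a) • aeval U (pairPoly a) (B 1) = 0 := by
      have := pairPoly_aeval_eigen U (Or.inr rfl) hu
      simpa [u, h0] using this
    fin_cases i
    · simpa using h0
    · simpa [sub_ne_zero.2 haa] using h1
  refine ⟨{ L := L, U := U, hmul := B.ext fun i => ?_,
            hLq := (fun v => by rw [hqL]; rfl), hUq := (fun v => by rw [hqU]; rfl),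
            hLe := ?_, hUe := ?_ }⟩
  · fin_cases i
    · simp only [Module.End.mul_apply]
      change M (B 0) = L (U (B 0))
      rw [hM0, hU0, map_smul, hL0, smul_add, smul_smul, smul_smul, mul_inv_cancel₀ ha, one_smul]
    · simp only [Module.End.mul_apply]
      change M (B 1) = L (U (B 1))
      rw [hM1, hU1, map_add, map_smul, map_smul, hL0, hL1, smul_add, smul_smul, smul_smul,
        smul_smul, add_assoc, ← add_smul]
      congr 2
      · field_simp
      · field_simp
        linear_combination hts
  · intro e he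
    simp only [Finset.mem_insert, Finset.mem_singleton] at he
    rcases he with rfl | rfl
    · exact ⟨w, hw0, hw⟩
    · exact ⟨B 1, B.ne_zero 1, hL1⟩
  · intro e he
    simp only [Finset.mem_insert, Finset.mem_singleton] at he
    rcases he with rfl | rfl
    · exact ⟨B 0, B.ne_zero 0, hU0⟩
    · exact ⟨u, hu0, hu⟩

/-- Chains followed by a pair. -/
theorem factor_pair {K : Type*} [Field K] [DecidableEq K] (h4 : 4 ≤ ENat.card K) {a : K}
    (ha : a ≠ 0) (haa : a⁻¹ ≠ a) (m : ℕ) :
    ∀ {V : Type*} [AddCommGroup V] [Module K V] [FiniteDimensional K V],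
      finrank K V = m + 2 → 1 ≤ m → ∀ A : End K V, LinearMap.det A = 1 →
      2 ≤ finrank K (LinearMap.range (A - 1)) → (¬ ∃ l : K, A = l • (1 : End K V)) →
      ∀ (b : V) (c : Dual K V), b ≠ 0 → c ≠ 0 →
        Nonempty (FacData A m (pairPoly a) ({a, a⁻¹} : Finset K) b c) := by
  have ha1 : a ≠ 1 := fun h => haa (by rw [h, inv_one])
  have hE : (1 : K) ∉ ({a, a⁻¹} : Finset K) := by
    simp only [Finset.mem_insert, Finset.mem_singleton, not_or]
    exact ⟨ha1.symm, fun h => ha1 (inv_eq_one.1 h.symm)⟩
  induction m with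
  | zero => intro V _ _ _ _ h; omega
  | succ m ih =>
    intro V _ _ _ hn _ A hdet hr hns b c hb hc
    obtain ⟨s, hr', hns'⟩ := exists_step h4 A (by omega) hdet hr hns b hb c hc
    have hk : finrank K (LinearMap.ker s.φ) = m + 2 := by
      have := finrank_ker_form s.hx
      omega
    have hd : LinearMap.det s.next = 1 := (det_schur A s.x s.φ s.hx s.hA).trans hdet
    by_cases hm : m = 0
    · subst hm
      obtain ⟨F⟩ := factor_plane hk s.next hd hns' ha haa
      exact ⟨F.liftStart hE (pairPoly_eval_one ha1)⟩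
    · obtain ⟨F⟩ := ih hk (by omega) s.next hd hr' hns' s.col s.row s.col_ne_zero s.row_ne_zero
      exact ⟨F.lift (by omega) hE⟩

end CfsgLib.KnownB.Sourour
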