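import Cfsg.Agent.Lib.KnownB.Sourour.Factor

/-!
# The similarity class of a regular element: one chain and simple eigenvalues
-/

set_option autoImplicit false

namespace CfsgLib.KnownB.Sourour

open Module Polynomial

variable {K V W : Type*} [Field K] [AddCommGroup V] [Module K V] [AddCommGroup W] [Module K W]
  {m k : ℕ} {μ : Fin k → K}

/-- A chain for the eigenvalue one and eigenvectors for `μ`. -/
structure HasForm (T : End K V) (m : ℕ) {k : ℕ} (μ : Fin k → K) where
  v : V
  w : Fin k → V
  top : ((T - 1) ^ m : End K V) v = 0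
  pred : 1 ≤ m → ((T - 1) ^ (m - 1) : End K V) v ≠ 0
  eig : ∀ j, T (w j) = μ j • w j
  ne : ∀ j, w j ≠ 0
  dim : finrank K V = m + k

variable {T : End K V}

/-- The adapted family. -/
def HasForm.family (h : HasForm T m μ) : Fin m ⊕ Fin k → V :=
  Sum.elim (fun i => ((T - 1) ^ (i : ℕ) : End K V) h.v) h.w

theorem pow_sub_one_eigen (T : End K V) {w : V} {e : K} (hw : T w = e • w) (i : ℕ) :
    ((T - 1) ^ i : End K V) w = (e - 1) ^ i • w := by
  induction i with
  | zero => simp
  | succ i ih =>
    rw [pow_succ', Module.End.mul_apply, ih, map_smul, LinearMap.sub_apply, Module.End.one_apply,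
      hw, pow_succ]
    module

theorem HasForm.independent (h : HasForm T m μ) (hμ : Function.Injective μ)
    (hμ1 : ∀ j, μ j ≠ 1) : LinearIndependent K h.family := by
  classical
  have hw : LinearIndependent K h.w := Module.End.eigenvectors_linearIndependent' T μ hμ h.w
    fun j => Module.End.hasEigenvector_iff.2 ⟨Module.End.mem_eigenspace_iff.2 (h.eig j), h.ne j⟩
  rw [Fintype.linearIndependent_iff]
  intro g hg
  rw [Fintype.sum_sum_type] at hg
  simp only [HasForm.family, Sum.elim_inl, Sum.elim_inr] at hg
  -- the eigenvector coefficients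
  have hr : ∀ j, g (Sum.inr j) = 0 := by
    have h1 := congrArg ((T - 1) ^ m : End K V) hg
    simp only [map_add, map_sum, map_smul, map_zero] at h1
    rw [Finset.sum_eq_zero (fun i _ => by
      rw [← Module.End.mul_apply, ← pow_add, add_comm, pow_add, Module.End.mul_apply, h.top,
        map_zero, smul_zero]), zero_add] at h1
    simp only [pow_sub_one_eigen T (h.eig _), smul_smul] at h1
    intro j
    have := Fintype.linearIndependent_iff.1 hw _ h1 j
    exact (mul_eq_zero.1 this).resolve_right (pow_ne_zero _ (sub_ne_zero.2 (hμ1 j)))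
  simp only [hr, zero_smul, Finset.sum_const_zero, add_zero] at hg
  have hl : ∀ i : Fin m, g (Sum.inl i) = 0 := by
    by_contra hne
    push Not at hne
    obtain ⟨i, hi, hmin⟩ := Finset.exists_min_image
      (Finset.univ.filter fun i : Fin m => g (Sum.inl i) ≠ 0) (fun i => (i : ℕ))
      (by obtain ⟨i, hi⟩ := hne; exact ⟨i, by simpa using hi⟩)
    have h1 := congrArg ((T - 1) ^ (m - 1 - (i : ℕ)) : End K V) hg
    simp only [map_sum, map_smul, map_zero, ← Module.End.mul_apply, ← pow_add] at h1
    rw [Finset.sum_eq_single i] at h1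
    · have hm : 1 ≤ m := by have := i.2; omega
      rw [show m - 1 - (i : ℕ) + i = m - 1 by have := i.2; omega] at h1
      exact (Finset.mem_filter.1 hi).2 ((smul_eq_zero.1 h1).resolve_right (h.pred hm))
    · intro j _ hji
      by_cases hj : g (Sum.inl j) = 0
      · rw [hj, zero_smul]
      · have hlt : (i : ℕ) < j := lt_of_le_of_ne (hmin j (by simpa using hj))
          (fun e => hji (Fin.ext e.symm))
        rw [show m - 1 - (i : ℕ) + j = (j - i - 1) + m by have := j.2; have := i.2; omega,
          pow_add, Module.End.mul_apply, h.top, map_zero, smul_zero]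
    · simp
  intro i
  rcases i with i | i
  exacts [hl i, hr i]

theorem apply_chain (R : End K V) (i : ℕ) (u : V) :
    R (((R - 1) ^ i : End K V) u) =
      ((R - 1) ^ (i + 1) : End K V) u + ((R - 1) ^ i : End K V) u := by
  rw [pow_succ', Module.End.mul_apply, LinearMap.sub_apply, Module.End.one_apply, sub_add_cancel]

/-- Two operators of the same form are conjugate, with any scalars on the eigenvectors. -/
theorem HasForm.conj {S : End K W} (h : HasForm T m μ) (h' : HasForm S m μ)
    (hμ : Function.Injective μ) (hμ1 : ∀ j, μ j ≠ 1) (hne : 0 < m + k) :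
    ∃ e : V ≃ₗ[K] W, ∀ v, e (T v) = S (e v) := by
  have : Nonempty (Fin m ⊕ Fin k) := Fintype.card_pos_iff.1 (by simpa using hne)
  have _fv : FiniteDimensional K V := Module.finite_of_finrank_pos (by rw [h.dim]; exact hne)
  have _fw : FiniteDimensional K W := Module.finite_of_finrank_pos (by rw [h'.dim]; exact hne)
  let B := basisOfLinearIndependentOfCardEqFinrank (h.independent hμ hμ1) (by simp [h.dim])
  let B' := basisOfLinearIndependentOfCardEqFinrank (h'.independent hμ hμ1) (by simp [h'.dim])
  have hB : ⇑B = h.family := coe_basisOfLinearIndependentOfCardEqFinrank _ _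
  have hB' : ⇑B' = h'.family := coe_basisOfLinearIndependentOfCardEqFinrank _ _
  let e := B.equiv B' (Equiv.refl _)
  have he : ∀ x, e (h.family x) = h'.family x := fun x => by
    rw [← hB, ← hB']; exact B.equiv_apply x B' (Equiv.refl _)
  refine ⟨e, fun v => LinearMap.congr_fun
    (B.ext (f₁ := e.toLinearMap ∘ₗ T) (f₂ := S ∘ₗ e.toLinearMap) fun x => ?_) v⟩
  simp only [LinearMap.comp_apply, LinearEquiv.coe_coe]
  rw [show B x = h.family x from congrFun hB x, he]
  rcases x with i | j
  · -- along the chain
    have hi := he (Sum.inl i)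
    simp only [HasForm.family, Sum.elim_inl] at hi ⊢
    rw [apply_chain T, apply_chain S, map_add, hi]
    congr 1
    by_cases hlast : (i : ℕ) + 1 < m
    · simpa only [HasForm.family, Sum.elim_inl] using he (Sum.inl ⟨(i : ℕ) + 1, hlast⟩)
    · have he' : (i : ℕ) + 1 = m := by have := i.2; omega
      rw [he', h.top, h'.top, map_zero]
  · have hj := he (Sum.inr j)
    simp only [HasForm.family, Sum.elim_inr] at hj ⊢
    rw [h.eig, h'.eig, map_smul, hj]

theorem conj_sub_one_pow (e : V ≃ₗ[K] W) (T : End K V) (i : ℕ) (v : V) :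
    ((e.conj T - 1) ^ i : End K W) (e v) = e (((T - 1) ^ i : End K V) v) := by
  induction i generalizing v with
  | zero => simp
  | succ i ih =>
    rw [pow_succ, pow_succ, Module.End.mul_apply, Module.End.mul_apply, ← ih]
    congr 1
    simp [LinearEquiv.conj_apply_apply]

/-- Transport of a form. -/
def HasForm.map (h : HasForm T m μ) (e : V ≃ₗ[K] W) : HasForm (e.conj T) m μ where
  v := e h.v
  w j := e (h.w j)
  top := by rw [conj_sub_one_pow, h.top, map_zero]
  pred hm := by
    rw [conj_sub_one_pow]
    exact fun h0 => h.pred hm (e.map_eq_zero_iff.1 h0)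
  eig j := by simp [LinearEquiv.conj_apply_apply, h.eig]
  ne j h0 := h.ne j (e.map_eq_zero_iff.1 h0)
  dim := e.finrank_eq.symm.trans h.dim

/-- Powers of a commuting product. -/
theorem inverse_chain (T Ti : End K V) (h1 : T * Ti = 1) (h2 : Ti * T = 1) (i : ℕ) :
    (Ti - 1) ^ i = (-Ti) ^ i * (T - 1) ^ i := by
  have hc : Commute (-Ti) (T - 1) := by
    apply Commute.neg_left
    apply Commute.sub_right
    · exact h2.trans h1.symm
    · exact Commute.one_right _
  rw [← hc.mul_pow, mul_sub, neg_mul, h2, mul_one, neg_sub_neg]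

/-- The inverse has the form with inverse eigenvalues. -/
def HasForm.inv (h : HasForm T m μ) (Ti : End K V) (h1 : T * Ti = 1) (h2 : Ti * T = 1)
    (σ : Fin k → Fin k) (hσ : ∀ j, μ j * μ (σ j) = 1) : HasForm Ti m μ where
  v := h.v
  w j := h.w (σ j)
  top := by rw [inverse_chain T Ti h1 h2, Module.End.mul_apply, h.top, map_zero]
  pred hm := by
    rw [inverse_chain T Ti h1 h2, Module.End.mul_apply]
    intro h0
    apply h.pred hm
    have hc : (-T) * (-Ti) = 1 := by rw [neg_mul_neg, h1]
    have hpow : (-T) ^ (m - 1) * (-Ti) ^ (m - 1) = 1 := by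
      rw [← (show Commute (-T) (-Ti) by
        change (-T) * (-Ti) = (-Ti) * (-T); rw [neg_mul_neg, neg_mul_neg, h1, h2]).mul_pow, hc,
        one_pow]
    have := congrArg ((-T) ^ (m - 1) : End K V) h0
    rwa [← Module.End.mul_apply ((-T) ^ (m - 1)), hpow, map_zero, Module.End.one_apply] at this
  eig j := by
    have e := congrArg Ti (h.eig (σ j))
    rw [← Module.End.mul_apply, h2, Module.End.one_apply, map_smul] at e
    conv_rhs => rw [e, smul_smul, hσ j, one_smul]
  ne j := h.ne _
  dim := h.dim

variable {A : End K V} {q : K[X]} {E : Finset K} {b : V} {c : Dual K V}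

/-- The lower factor of a chain factorisation has the expected form. -/
theorem FacData.formL (F : FacData A m q E b c) (hdim : finrank K V = m + k)
    (hμ : ∀ j, μ j ∈ E) : Nonempty (HasForm F.L m μ) := by
  classical
  choose w hw0 hw using fun j => F.hLe (μ j) (hμ j)
  have hcomm : ∀ (i : ℕ) (v : V), ((F.L - 1) ^ i : End K V) (aeval F.L q v) =
      aeval F.L q (((F.L - 1) ^ i : End K V) v) := by
    intro i
    induction i with
    | zero => simp
    | succ i ih => intro v; rw [pow_succ', Module.End.mul_apply, Module.End.mul_apply, ih, aeval_commute]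
  exact ⟨{ v := aeval F.L q b, w := w, top := by rw [hcomm, F.hLq],
           pred := fun _ => by rw [hcomm]; exact F.hb, eig := hw, ne := hw0, dim := hdim }⟩

/-- The upper factor of a chain factorisation has the expected form. -/
theorem FacData.formU (F : FacData A m q E b c) (hdim : finrank K V = m + k)
    (hμ : ∀ j, μ j ∈ E) : Nonempty (HasForm F.U m μ) := by
  classical
  choose w hw0 hw using fun j => F.hUe (μ j) (hμ j)
  obtain ⟨v, hv⟩ := F.hc
  have hcomm : ∀ (i : ℕ) (v : V), ((F.U - 1) ^ i : End K V) (aeval F.U q v) =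
      aeval F.U q (((F.U - 1) ^ i : End K V) v) := by
    intro i
    induction i with
    | zero => simp
    | succ i ih => intro v; rw [pow_succ', Module.End.mul_apply, Module.End.mul_apply, ih, aeval_commute]
  refine ⟨{ v := aeval F.U q v, w := w, top := by rw [hcomm, F.hUq],
            pred := fun _ => ?_, eig := hw, ne := hw0, dim := hdim }⟩
  rw [hcomm]
  intro h0
  exact hv (by rw [h0, map_zero])

end CfsgLib.KnownB.Sourour
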