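import Cfsg.Agent.Lib.KnownB.Sourour.BaseCases

/-!
# Generic steps and dimension four over a field with `d ^ 3 = d`
-/

set_option autoImplicit false

namespace CfsgLib.KnownB.Sourour

open Module Polynomial

variable {K V : Type*} [Field K] [AddCommGroup V] [Module K V] [FiniteDimensional K V]

/-- A step at a subspace meeting its image trivially. -/
theorem step (A : End K V) {c : K} (hc : c ≠ 0) {W : Submodule K V}
    (hd : Disjoint W (W.map (A - c • 1))) (hdet : LinearMap.det A = 1) :
    ∃ (U : Submodule K V) (M : End K U), finrank K U + finrank K W = finrank K V ∧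
      LinearMap.det M = (c ^ finrank K W)⁻¹ ∧
      ∀ {G : Type} [AddCommGroup G] [Module K G] [FiniteDimensional K G] (β : Block K G c),
        finrank K G = finrank K W → ∀ T : Twist M, Function.Injective (aeval T.L β.g) →
        ∃ T' : Twist A, LinearMap.det T'.L = LinearMap.det β.B * LinearMap.det T.L ∧
          ∀ P : K[X], aeval T.L P = 0 → aeval T'.L (β.g * P) = 0 := by
  obtain ⟨U, hcompl, hle⟩ := exists_complement (A - c • 1) W hd
  have hWU : ∀ w ∈ W, A w - c • w ∈ U := fun w hw => by
    simpa using hle (Submodule.mem_map_of_mem hw)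
  obtain ⟨M, hM, hstep⟩ := peelAt A hc W U hcompl hWU hdet
  refine ⟨U, M, ?_, hM, fun {G} _ _ _ β hG T hinj => ?_⟩
  · rw [add_comm]
    exact Submodule.finrank_add_eq_of_isCompl hcompl
  · let φ := LinearEquiv.ofFinrankEq G W hG
    obtain ⟨T', h1, h2⟩ := hstep (β.map φ) T hinj
    refine ⟨T', ?_, h2⟩
    rw [h1]
    congr 1
    exact det_equivConj φ β.B

/-- A step at a line, with the complement `schur`. -/
theorem step_line (A : End K V) (x : V) (φ : Dual K V) (hx : φ x = 1) (hA : φ (A x) = 1)
    (hdet : LinearMap.det A = 1) (β : Block K K (1 : K)) (T : Twist (schur A x φ hA))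
    (hinj : Function.Injective (aeval T.L β.g)) :
    ∃ T' : Twist A, LinearMap.det T'.L = LinearMap.det β.B * LinearMap.det T.L ∧
      ∀ P : K[X], aeval T.L P = 0 → aeval T'.L (β.g * P) = 0 := by
  have hx0 : x ≠ 0 := fun h => by simp [h] at hx
  have hcompl : IsCompl (K ∙ x) (LinearMap.ker φ) := by
    refine ⟨Submodule.disjoint_def.2 fun v hv hv' => ?_, codisjoint_iff.2 (eq_top_iff.2 fun v _ => ?_)⟩
    · obtain ⟨a, rfl⟩ := Submodule.mem_span_singleton.1 hv
      rw [LinearMap.mem_ker, map_smul, hx, smul_eq_mul, mul_one] at hv'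
      rw [hv', zero_smul]
    · rw [show v = φ v • x + (v - φ v • x) by abel]
      exact Submodule.add_mem_sup (Submodule.smul_mem _ _ (Submodule.mem_span_singleton_self x))
        (by simp [LinearMap.mem_ker, hx])
  have hWU : ∀ w ∈ K ∙ x, A w - (1 : K) • w ∈ LinearMap.ker φ := fun w hw => by
    obtain ⟨a, rfl⟩ := Submodule.mem_span_singleton.1 hw
    simp [LinearMap.mem_ker, hx, hA]
  obtain ⟨p, b, R, hAb, -⟩ := exists_blockMap A one_ne_zero _ _ hcompl hWU
  have happly : ∀ (w : K ∙ x) (u : LinearMap.ker φ), A ((w : V) + u) =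
      ((1 : K) • w + p u : (K ∙ x)) + ((b w + R u : LinearMap.ker φ) : V) := by
    intro w u
    conv_lhs => rw [hAb, LinearEquiv.conj_apply_apply,
      show (w : V) + u = Submodule.prodEquivOfIsCompl _ _ hcompl (w, u) from
        (Submodule.coe_prodEquivOfIsCompl' _ _ hcompl (w, u)).symm, LinearEquiv.symm_apply_apply,
      blockMap_apply, Submodule.coe_prodEquivOfIsCompl']
  have hM : R - (1 : K)⁻¹ • (b ∘ₗ p) = schur A x φ hA := by
    refine LinearMap.ext fun u => Subtype.ext ?_
    obtain ⟨a, ha⟩ := Submodule.mem_span_singleton.1 (p u).2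
    have e1 := happly 0 u
    simp only [ZeroMemClass.coe_zero, zero_add, smul_zero, map_zero] at e1
    have e2 := happly ⟨x, Submodule.mem_span_singleton_self x⟩ 0
    simp only [ZeroMemClass.coe_zero, add_zero, map_zero, one_smul] at e2
    have hpu : p u = a • (⟨x, Submodule.mem_span_singleton_self x⟩ : K ∙ x) :=
      Subtype.ext ha.symm
    have hφ : φ (A u) = a := by
      rw [e1, map_add, hpu, Submodule.coe_smul, map_smul, hx, LinearMap.mem_ker.1 (R u).2,
        add_zero, smul_eq_mul, mul_one]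
    rw [schur_apply, hφ, e1, e2, inv_one, one_smul, LinearMap.sub_apply, LinearMap.comp_apply, hpu,
      map_smul, Submodule.coe_sub, Submodule.coe_smul, Submodule.coe_smul]
    module
  have hM' := hM.symm
  obtain ⟨T₀, hL⟩ : ∃ T₀ : Twist (R - (1 : K)⁻¹ • (b ∘ₗ p)), T₀.L = T.L := by
    rw [hM]; exact ⟨T, rfl⟩
  let ψ := LinearEquiv.ofFinrankEq K (K ∙ x) (by rw [finrank_self, finrank_span_singleton hx0])
  obtain ⟨T', h1, h2⟩ := peel one_ne_zero (β.map ψ) p b R T₀ (by rw [hL]; exact hinj)
  rw [hL] at h1 h2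
  subst hAb
  refine ⟨T'.map _, ?_, fun P hP => T'.map_aeval _ _ (h2 P hP)⟩
  change LinearMap.det (((K ∙ x).prodEquivOfIsCompl (LinearMap.ker φ) hcompl).conj T'.L) = _
  rw [det_equivConj, h1]
  congr 1
  exact det_equivConj ψ β.B

/-- A form with two non-zero values vanishing on a vector, any field. -/
theorem exists_phi_two (x u y : V) (hx : x ∉ K ∙ y) (hu : u ∉ K ∙ y) :
    ∃ φ : Dual K V, φ x = 1 ∧ φ y = 0 ∧ φ u ≠ 0 := by
  obtain ⟨f, hf, hfx⟩ := exists_form hx
  obtain ⟨g, hg, hgu⟩ := exists_form hu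
  have hy := Submodule.mem_span_singleton_self (R := K) y
  obtain ⟨h, h1, h2, h3⟩ : ∃ h : Dual K V, h x ≠ 0 ∧ h y = 0 ∧ h u ≠ 0 := by
    by_cases hfu : f u = 0
    · by_cases hgx : g x = 0
      · exact ⟨f + g, by simp [hgx, hfx], by simp [hf y hy, hg y hy], by simp [hfu, hgu]⟩
      · exact ⟨g, hgx, hg y hy, hgu⟩
    · exact ⟨f, hfx, hf y hy, hfu⟩
  exact ⟨(h x)⁻¹ • h, by simp [h1], by simp [h2], by simp [h1, h3]⟩

omit [FiniteDimensional K V] in
/-- Two proper subspaces do not cover. -/
theorem avoid_two (P Q : Submodule K V) (hP : P ≠ ⊤) (hQ : Q ≠ ⊤) : ∃ x, x ∉ P ∧ x ∉ Q := by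
  obtain ⟨a, ha⟩ := SetLike.exists_not_mem_of_ne_top P hP rfl
  obtain ⟨b, hb⟩ := SetLike.exists_not_mem_of_ne_top Q hQ rfl
  by_cases haQ : a ∈ Q
  · by_cases hbP : b ∈ P
    · refine ⟨a + b, fun h => ha ?_, fun h => hb ?_⟩
      · simpa using sub_mem h hbP
      · simpa using sub_mem h haQ
    · exact ⟨b, hbP, hb⟩
  · exact ⟨a, ha, haQ⟩

theorem not_isTv_of_rank {A : End K V} (h : 2 ≤ finrank K (LinearMap.range (A - 1))) : ¬ IsTv A := by
  rintro ⟨f, u, -, hu, -, rfl⟩
  have hle : LinearMap.range (LinearMap.transvection f u - 1) ≤ K ∙ u := by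
    rintro _ ⟨v, rfl⟩
    rw [LinearMap.sub_apply, Module.End.one_apply, LinearMap.transvection.apply, add_sub_cancel_left]
    exact Submodule.smul_mem _ _ (Submodule.mem_span_singleton_self u)
  have := Submodule.finrank_mono hle
  rw [finrank_span_singleton hu] at this
  omega

omit [FiniteDimensional K V] in
theorem not_isTv_one : ¬ IsTv (1 : End K V) := by
  rintro ⟨f, u, hf, hu, -, h⟩
  refine hf (LinearMap.ext fun v => ?_)
  have := LinearMap.congr_fun h v
  rw [LinearMap.transvection.apply, Module.End.one_apply, left_eq_add, smul_eq_zero] at this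
  exact this.resolve_right hu

/-- In dimension four, a line whose complement is no transvection. -/
theorem exists_line (h4 : finrank K V = 4) (A : End K V) (hdet : LinearMap.det A = 1) (hsc : ∀ a : K, A = a • 1 → a = 1) :
    ∃ (x : V) (φ : Dual K V) (hA : φ (A x) = 1), φ x = 1 ∧ ¬ IsTv (schur A x φ hA) := by
  have mkA : ∀ (x : V) (φ : Dual K V), φ x = 1 → φ ((A - 1) x) = 0 → φ (A x) = 1 := by
    intro x φ hφ h0
    rw [LinearMap.sub_apply, Module.End.one_apply, map_sub, hφ, sub_eq_zero] at h0
    exact h0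
  by_cases hr : finrank K (LinearMap.range (A - 1)) ≤ 1
  · -- the complement is the identity
    have hk := (A - 1).finrank_range_add_finrank_ker
    obtain ⟨x, hx0, hxk, hrange⟩ : ∃ x, x ≠ 0 ∧ (A - 1) x = 0 ∧ ∀ v, (A - 1) v ∈ K ∙ x := by
      by_cases h0 : LinearMap.range (A - 1) = ⊥
      · rw [h0, finrank_bot] at hk
        obtain ⟨x, hx, hx0⟩ := Submodule.exists_mem_ne_zero_of_ne_bot
          (p := LinearMap.ker (A - 1)) (fun h => by rw [h, finrank_bot] at hk; omega)
        exact ⟨x, hx0, hx, fun v => by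
          have : (A - 1) v = 0 := (Submodule.mem_bot K).1 (h0 ▸ LinearMap.mem_range_self _ v)
          rw [this]; exact zero_mem _⟩
      · obtain ⟨u, hu, hu0⟩ := Submodule.exists_mem_ne_zero_of_ne_bot h0
        have hspan : K ∙ u = LinearMap.range (A - 1) :=
          Submodule.eq_of_le_of_finrank_le ((Submodule.span_singleton_le_iff_mem _ _).2 hu)
            (by rw [finrank_span_singleton hu0]; omega)
        have huk : (A - 1) u = 0 := by
          obtain ⟨f, w, -, -, hfw, hA⟩ := exists_transvection A hdet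
            (fun h => h0 (by rw [h, sub_self, LinearMap.range_zero])) (by omega)
          subst hA
          obtain ⟨v, hv⟩ := hu
          rw [← hv]
          simp [LinearMap.transvection.apply, hfw]
        exact ⟨u, hu0, huk, fun v => hspan.symm ▸ LinearMap.mem_range_self _ v⟩
    obtain ⟨φ, hφx, -, -⟩ := exists_phi_two (K := K) x x 0 (by simpa using hx0) (by simpa using hx0)
    refine ⟨x, φ, mkA x φ hφx (by rw [hxk, map_zero]), hφx, ?_⟩
    rw [show schur A x φ _ = 1 from LinearMap.ext fun v => Subtype.ext ?_]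
    · exact not_isTv_one
    · obtain ⟨a, ha⟩ := Submodule.mem_span_singleton.1 (hrange v)
      have hAv : A v = (v : V) + a • x := by
        rw [ha, LinearMap.sub_apply, Module.End.one_apply, add_sub_cancel]
      have hAx : A x = x := sub_eq_zero.1 hxk
      rw [schur_apply, hAv, map_add, LinearMap.mem_ker.1 v.2, map_smul, hφx, smul_eq_mul, mul_one,
        zero_add, hAx, add_sub_cancel_right]
      rfl
  push Not at hr
  by_cases hker : LinearMap.ker (A - 1) = ⊥
  · have hns : ¬ ∃ a : K, (A - 1) = a • (1 : End K V) := by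
      rintro ⟨a, ha⟩
      have := hsc (a + 1) (by rw [add_smul, one_smul, ← ha, sub_add_cancel])
      rw [show a = 0 by linear_combination this, zero_smul] at ha
      rw [ha, LinearMap.range_zero, finrank_bot] at hr
      omega
    obtain ⟨x, hx0, hx⟩ := exists_not_eigen _ hns
    have hxy : x ∉ K ∙ (A - 1) x := mem_line_of_indep fun (a : K) ha => by
      have ha0 : a ≠ 0 := fun h0 => hx0 (by rw [← ha, h0, zero_smul])
      exact hx a⁻¹ (by rw [eq_comm, inv_smul_eq_iff₀ ha0, ha])
    obtain ⟨φ, hφx, hφy, -⟩ := exists_phi_two x x ((A - 1) x) hxy hxy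
    refine ⟨x, φ, mkA x φ hφx hφy, hφx, not_isTv_of_rank ?_⟩
    have := rank_schur_of_injective A x φ hφx (mkA x φ hφx hφy) hker
    omega
  · -- a kernel vector leaving `ker φ`
    obtain ⟨x, u, hxr, hu, huy⟩ : ∃ x u, x ∉ LinearMap.range (A - 1) ∧ (A - 1) u = 0 ∧
        u ∉ K ∙ (A - 1) x := by
      by_cases hsub : LinearMap.ker (A - 1) ≤ LinearMap.range (A - 1)
      · by_cases hk : finrank K (LinearMap.ker (A - 1)) = 1
        · obtain ⟨x, hx1, hx2⟩ := avoid_two (LinearMap.range (A - 1))
            (LinearMap.ker ((A - 1) * (A - 1))) (range_ne_top_of_ker _ hker) (fun htop => by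
              have hle : LinearMap.range (A - 1) ≤ LinearMap.ker (A - 1) := by
                rintro _ ⟨v, rfl⟩
                exact (htop.symm ▸ Submodule.mem_top : v ∈ LinearMap.ker ((A - 1) * (A - 1)))
              have := Submodule.finrank_mono hle
              omega)
          obtain ⟨u, hu, hu0⟩ := Submodule.exists_mem_ne_zero_of_ne_bot hker
          refine ⟨x, u, hx1, hu, mem_line_of_indep fun a ha => hx2 ?_⟩
          rw [LinearMap.mem_ker, Module.End.mul_apply]
          rw [← ha, LinearMap.mem_ker, map_smul] at hu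
          exact (smul_eq_zero.1 hu).resolve_left fun h0 => hu0 (by rw [← ha, h0, zero_smul])
        · obtain ⟨x, hx⟩ := SetLike.exists_not_mem_of_ne_top _ (range_ne_top_of_ker _ hker) rfl
          obtain ⟨u, hu, huy⟩ := exists_notMem_line (p := LinearMap.ker (A - 1)) (by
            have : finrank K (LinearMap.ker (A - 1)) ≠ 0 := fun h =>
              hker (Submodule.finrank_eq_zero.1 h)
            omega) ((A - 1) x)
          exact ⟨x, u, hx, hu, huy⟩
      · obtain ⟨u, hu, hur⟩ := SetLike.not_le_iff_exists.1 hsub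
        refine ⟨u, u, hur, hu, ?_⟩
        rw [LinearMap.mem_ker.1 hu]
        exact fun h => hur (by
          obtain ⟨a, ha⟩ := Submodule.mem_span_singleton.1 h
          rw [← ha, smul_zero]; exact zero_mem _)
    have hxy : x ∉ K ∙ (A - 1) x := mem_line_of_indep fun a ha =>
      hxr (ha ▸ Submodule.smul_mem _ _ (LinearMap.mem_range_self _ x))
    obtain ⟨φ, hφx, hφy, hφu⟩ := exists_phi_two x u ((A - 1) x) hxy huy
    refine ⟨x, φ, mkA x φ hφx hφy, hφx, not_isTv_of_rank ?_⟩
    rw [rank_schur_of_kernel A x φ hφx (mkA x φ hφx hφy) hxr hu hφu]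
    omega

end CfsgLib.KnownB.Sourour
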