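import Cfsg.Agent.Lib.KnownB.Sourour.Top

/-!
# Top blocks from field extensions
-/

set_option autoImplicit false

namespace CfsgLib.KnownB.Sourour

open Module Polynomial

variable {K W W' : Type*} [Field K] [AddCommGroup W] [Module K W] [AddCommGroup W'] [Module K W']

/-- Transport of a block. -/
def Block.map {c : K} (β : Block K W c) (φ : W ≃ₗ[K] W') : Block K W' c where
  B := φ.conj β.B
  Bi := φ.conj β.Bi
  h1 := by rw [← conj_mul, β.h1, conj_one]
  h2 := by rw [← conj_mul, β.h2, conj_one]
  e := φ.symm ≪≫ₗ β.e ≪≫ₗ φ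
  hc := by rw [← conj_conj, ← β.hc, map_smul]
  g := β.g
  hg := by
    refine LinearMap.ext fun v => ?_
    have hi : ∀ u, φ.toLinearMap (β.B u) = (φ.conj β.B) (φ.toLinearMap u) := fun u => by
      simp [LinearEquiv.conj_apply_apply]
    have := aeval_intertwine φ.toLinearMap β.B (φ.conj β.B) hi β.g (φ.symm v)
    rw [β.hg, LinearMap.zero_apply, map_zero] at this
    simpa using this.symm

variable (K) {G : Type*} [Field G] [Algebra K G]

theorem lmul_inverse {α : G} (hα : α ≠ 0) :
    Algebra.lmul K G α * Algebra.lmul K G α⁻¹ = 1 ∧ Algebra.lmul K G α⁻¹ * Algebra.lmul K G α = 1 := by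
  constructor <;> rw [← map_mul]
  · rw [mul_inv_cancel₀ hα, map_one]
  · rw [inv_mul_cancel₀ hα, map_one]

theorem aeval_lmul (α : G) : aeval (Algebra.lmul K G α) (minpoly K α) = 0 := by
  rw [Polynomial.aeval_algHom_apply, minpoly.aeval, map_zero]

/-- Multiplication by a non-zero element. -/
noncomputable def blockI {α : G} (hα : α ≠ 0) : Block K G (1 : K) where
  B := Algebra.lmul K G α
  Bi := Algebra.lmul K G α⁻¹
  h1 := (lmul_inverse K hα).1
  h2 := (lmul_inverse K hα).2
  e := LinearEquiv.refl K G
  hc := by rw [one_smul]; exact LinearMap.ext fun v => by simp [LinearEquiv.conj_apply_apply]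
  g := minpoly K α
  hg := aeval_lmul K α

/-- An element negated by an automorphism. -/
noncomputable def blockII {α : G} (hα : α ≠ 0) (σ : G ≃ₐ[K] G) (hσ : σ α = -α) :
    Block K G (-1 : K) where
  B := Algebra.lmul K G α
  Bi := Algebra.lmul K G α⁻¹
  h1 := (lmul_inverse K hα).1
  h2 := (lmul_inverse K hα).2
  e := σ.toLinearEquiv
  hc := LinearMap.ext fun v => by
    simp [LinearEquiv.conj_apply_apply, hσ, inv_neg]
  g := minpoly K α
  hg := aeval_lmul K α

/-- An element and its negative. -/
noncomputable def blockIII {α : G} (hα : α ≠ 0) : Block K (G × G) (-1 : K) where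
  B := LinearMap.prodMap (Algebra.lmul K G α) (Algebra.lmul K G (-α))
  Bi := LinearMap.prodMap (Algebra.lmul K G α⁻¹) (Algebra.lmul K G (-α)⁻¹)
  h1 := by
    rw [LinearMap.prodMap_mul, (lmul_inverse K hα).1, (lmul_inverse K (neg_ne_zero.2 hα)).1,
      LinearMap.prodMap_one]
  h2 := by
    rw [LinearMap.prodMap_mul, (lmul_inverse K hα).2, (lmul_inverse K (neg_ne_zero.2 hα)).2,
      LinearMap.prodMap_one]
  e := LinearEquiv.prodComm K G G
  hc := LinearMap.ext fun v => by
    obtain ⟨x, y⟩ := v
    simp [LinearEquiv.conj_apply_apply, inv_neg]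
  g := minpoly K α * minpoly K (-α)
  hg := LinearMap.ext fun v => by
    obtain ⟨x, y⟩ := v
    refine Prod.ext ?_ ?_
    · rw [← LinearMap.fst_apply (R := K) (M := G) (M₂ := G), aeval_intertwine (LinearMap.fst K G G)
        _ (Algebra.lmul K G α) (fun _ => rfl), map_mul, aeval_lmul, zero_mul]
      rfl
    · rw [← LinearMap.snd_apply (R := K) (M := G) (M₂ := G), aeval_intertwine (LinearMap.snd K G G)
        _ (Algebra.lmul K G (-α)) (fun _ => rfl), map_mul, aeval_lmul, mul_zero]
      rfl

variable {K}

theorem det_blockI {α : G} (hα : α ≠ 0) :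
    LinearMap.det (blockI K hα).B = Algebra.norm K α := (Algebra.norm_apply K α).symm

theorem det_blockII {α : G} (hα : α ≠ 0) (σ : G ≃ₐ[K] G) (hσ : σ α = -α) :
    LinearMap.det (blockII K hα σ hσ).B = Algebra.norm K α := (Algebra.norm_apply K α).symm

theorem det_blockIII [FiniteDimensional K G] {α : G} (hα : α ≠ 0) :
    LinearMap.det (blockIII K hα).B = Algebra.norm K α * Algebra.norm K (-α) := by
  simp only [blockIII, Algebra.norm_apply, LinearMap.det_prodMap]

variable [FiniteDimensional K G] {U : Type*} [AddCommGroup U] [Module K U]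

/-- An element that is no root of an annihilating polynomial gives an injective evaluation. -/
theorem injective_minpoly {L : End K U} {P : K[X]} (hP : aeval L P = 0) {α : G}
    (hα : aeval α P ≠ 0) : Function.Injective (aeval L (minpoly K α)) := by
  have hirr := minpoly.irreducible (Algebra.IsIntegral.isIntegral (R := K) α)
  have hco : IsCoprime (minpoly K α) P :=
    hirr.coprime_iff_not_dvd.2 fun h => hα ((minpoly.dvd_iff).1 h)
  obtain ⟨a, b, hab⟩ := hco
  have h1 : aeval L a * aeval L (minpoly K α) = 1 := by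
    rw [← map_mul, show a * minpoly K α = 1 - b * P by rw [← hab]; ring, map_sub, map_one,
      map_mul, hP, mul_zero, sub_zero]
  exact Function.LeftInverse.injective (g := aeval L a) fun v => LinearMap.congr_fun h1 v

theorem injective_minpoly_mul {L : End K U} {P : K[X]} (hP : aeval L P = 0) {α β : G}
    (hα : aeval α P ≠ 0) (hβ : aeval β P ≠ 0) :
    Function.Injective (aeval L (minpoly K α * minpoly K β)) := by
  rw [map_mul]
  exact (injective_minpoly hP hα).comp (injective_minpoly hP hβ)

/-- More candidates than roots. -/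
theorem exists_not_root {P : K[X]} (hP : P ≠ 0) (S : Finset G) (hS : P.natDegree < S.card) :
    ∃ α ∈ S, aeval α P ≠ 0 := by
  classical
  by_contra h
  push Not at h
  have hsub : S ⊆ (P.aroots G).toFinset := fun x hx => by
    rw [Multiset.mem_toFinset, mem_aroots]
    exact ⟨hP, h x hx⟩
  have h1 := Finset.card_le_card hsub
  have h2 := Multiset.toFinset_card_le (P.aroots G)
  have h3 : Multiset.card (P.aroots G) ≤ P.natDegree := by
    rw [aroots_def]
    exact (card_roots' _).trans natDegree_map_le
  omega

end CfsgLib.KnownB.Sourour
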