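import Cfsg.Agent.Lib.KnownB.Sourour.Step

/-!
# Lifting a factorisation of the complement

`FacData A m q E b c`: `A = L * U` where `q(T) * (T - 1) ^ m = 0` for both factors, both have
eigenvectors for the members of `E`, and the top of the chain of `L` (resp. `U`) is seen by `b`
(resp. `c`).
-/

set_option autoImplicit false

namespace CfsgLib.KnownB.Sourour

open Module Polynomial

variable {K V : Type*} [Field K] [AddCommGroup V] [Module K V]

/-- Both factors of a factorisation. -/
structure Factors (A : End K V) (m : ℕ) (q : K[X]) (E : Finset K) where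
  L : End K V
  U : End K V
  hmul : A = L * U
  hLq : ∀ v, aeval L q (((L - 1) ^ m : End K V) v) = 0
  hUq : ∀ v, aeval U q (((U - 1) ^ m : End K V) v) = 0
  hLe : ∀ e ∈ E, ∃ w, w ≠ 0 ∧ L w = e • w
  hUe : ∀ e ∈ E, ∃ w, w ≠ 0 ∧ U w = e • w

/-- Factors whose chains are seen by `b` and `c`. -/
structure FacData (A : End K V) (m : ℕ) (q : K[X]) (E : Finset K) (b : V) (c : Dual K V)
    extends Factors A m q E where
  hb : aeval L q (((L - 1) ^ (m - 1) : End K V) b) ≠ 0
  hc : ∃ v, c (aeval U q (((U - 1) ^ (m - 1) : End K V) v)) ≠ 0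

/-- Polynomials respect intertwiners. -/
theorem aeval_intertwine {W : Type*} [AddCommGroup W] [Module K W] (f : V →ₗ[K] W) (S : End K V)
    (T : End K W) (h : ∀ v, f (S v) = T (f v)) (p : K[X]) (v : V) :
    f (aeval S p v) = aeval T p (f v) := by
  induction p using Polynomial.induction_on generalizing v with
  | C a => simp [Module.algebraMap_end_apply]
  | add p r hp hr => simp [hp, hr]
  | monomial k a ih =>
    rw [pow_succ, ← mul_assoc, map_mul, map_mul (aeval T), Module.End.mul_apply,
      Module.End.mul_apply, aeval_X, aeval_X, ih, h]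

theorem aeval_commute (S : End K V) (p : K[X]) (v : V) :
    aeval S p ((S - 1) v) = (S - 1) (aeval S p v) :=
  (aeval_intertwine (S - 1) S S (fun w => by simp) p v).symm

theorem pow_intertwine {W : Type*} [AddCommGroup W] [Module K W] (f : V →ₗ[K] W) (S : End K V)
    (T : End K W) (h : ∀ v, f (S v) = T (f v)) (i : ℕ) (v : V) :
    f (((S - 1) ^ i : End K V) v) = ((T - 1) ^ i : End K W) (f v) := by
  induction i generalizing v with
  | zero => simp
  | succ i ih =>
    rw [pow_succ, pow_succ, Module.End.mul_apply, Module.End.mul_apply, ih]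
    simp [h]

theorem aeval_fixed (S : End K V) (p : K[X]) {v : V} (h : S v = v) :
    aeval S p v = p.eval 1 • v := by
  induction p using Polynomial.induction_on with
  | C a => simp [Module.algebraMap_end_apply]
  | add p r hp hr => simp [hp, hr, add_smul]
  | monomial k a _ =>
    have hk : ∀ i : ℕ, (S ^ i : End K V) v = v := fun i => by
      induction i with
      | zero => simp
      | succ i ih => rw [pow_succ, Module.End.mul_apply, h, ih]
    simp [map_mul, aeval_C, Module.algebraMap_end_apply, hk]

variable {A : End K V} {b : V} {c : Dual K V} (s : StepData A b c)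

/-- The new column. -/
def StepData.col : LinearMap.ker s.φ :=
  ⟨(A - 1) s.x, by simp [LinearMap.mem_ker, s.hA, s.hx]⟩

/-- The new row. -/
def StepData.row : Dual K (LinearMap.ker s.φ) := (s.φ ∘ₗ A) ∘ₗ (LinearMap.ker s.φ).subtype

theorem StepData.col_ne_zero : s.col ≠ 0 := fun h => s.hcol (congrArg Subtype.val h)

theorem StepData.row_ne_zero : s.row ≠ 0 := by
  intro h
  obtain ⟨w, hw, hw'⟩ := s.hrow
  exact hw' (LinearMap.congr_fun h ⟨w, hw⟩)

/-- The lower factor upstairs. -/
def StepData.lowerLift (L' : End K (LinearMap.ker s.φ)) : End K V :=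
  s.φ.smulRight (A s.x) + (LinearMap.ker s.φ).subtype ∘ₗ L' ∘ₗ projKer s.x s.φ s.hx

/-- The upper factor upstairs. -/
def StepData.upperLift (U' : End K (LinearMap.ker s.φ)) : End K V :=
  (s.φ ∘ₗ A).smulRight s.x + (LinearMap.ker s.φ).subtype ∘ₗ U' ∘ₗ projKer s.x s.φ s.hx

variable (L' U' : End K (LinearMap.ker s.φ))

theorem StepData.lowerLift_coe (w : LinearMap.ker s.φ) :
    (L' w : V) = s.lowerLift L' w := by
  simp [StepData.lowerLift, LinearMap.mem_ker.1 w.2, projKer_coe]

theorem StepData.upperLift_proj (v : V) :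
    projKer s.x s.φ s.hx (s.upperLift U' v) = U' (projKer s.x s.φ s.hx v) := by
  simp [StepData.upperLift, projKer_self, projKer_coe]

theorem StepData.upperLift_x : s.upperLift U' s.x = s.x := by
  simp [StepData.upperLift, projKer_self, s.hA]

theorem StepData.lowerLift_sub_one (v : V) :
    (s.lowerLift L' - 1) v =
      ((s.φ v • s.col + (L' - 1) (projKer s.x s.φ s.hx v) : LinearMap.ker s.φ) : V) := by
  simp only [StepData.lowerLift, StepData.col, LinearMap.sub_apply, LinearMap.add_apply,
    Module.End.one_apply, LinearMap.smulRight_apply, LinearMap.comp_apply, Submodule.coe_subtype,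
    Submodule.coe_add, Submodule.coe_smul, Submodule.coe_sub, projKer_apply]
  module

theorem StepData.upperLift_sub_one (v : V) :
    (s.upperLift U' - 1) v = s.row (projKer s.x s.φ s.hx v) • s.x +
      ((U' - 1) (projKer s.x s.φ s.hx v) : V) := by
  simp only [StepData.upperLift, StepData.row, LinearMap.sub_apply, LinearMap.add_apply,
    Module.End.one_apply, LinearMap.smulRight_apply, LinearMap.comp_apply, Submodule.coe_subtype,
    Submodule.coe_sub, projKer_apply, map_sub, map_smul, s.hA, smul_eq_mul, mul_one]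
  module

theorem StepData.lift_mul (h : s.next = L' * U') : A = s.lowerLift L' * s.upperLift U' := by
  ext v
  rw [Module.End.mul_apply]
  conv_rhs => rw [StepData.lowerLift, LinearMap.add_apply, LinearMap.smulRight_apply,
    LinearMap.comp_apply, LinearMap.comp_apply, s.upperLift_proj]
  have hφ : s.φ (s.upperLift U' v) = s.φ (A v) := by
    simp [StepData.upperLift, s.hx, LinearMap.mem_ker.1 (U' (projKer s.x s.φ s.hx v)).2]
  rw [hφ, ← Module.End.mul_apply, ← h]
  exact apply_eq_schur A s.x s.φ s.hx s.hA v

theorem StepData.lowerLift_pow (i : ℕ) (v : V) :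
    ((s.lowerLift L' - 1) ^ (i + 1) : End K V) v = ((((L' - 1) ^ i : End K (LinearMap.ker s.φ))
      (s.φ v • s.col + (L' - 1) (projKer s.x s.φ s.hx v)) : LinearMap.ker s.φ) : V) := by
  rw [pow_succ, Module.End.mul_apply, s.lowerLift_sub_one]
  have h := pow_intertwine (LinearMap.ker s.φ).subtype L' (s.lowerLift L') (s.lowerLift_coe L')
    i (s.φ v • s.col + (L' - 1) (projKer s.x s.φ s.hx v))
  simp only [Submodule.coe_subtype] at h
  exact h.symm

variable {s} {m : ℕ} {q : K[X]} {E : Finset K}

/-- The lifted factors. -/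
def Factors.lift (F : Factors s.next m q E) (hE : (1 : K) ∉ E) : Factors A (m + 1) q E where
  L := s.lowerLift F.L
  U := s.upperLift F.U
  hmul := s.lift_mul _ _ F.hmul
  hLq v := by
    rw [s.lowerLift_pow, ← Submodule.coe_subtype, ← aeval_intertwine (LinearMap.ker s.φ).subtype
      F.L (s.lowerLift F.L) (s.lowerLift_coe F.L), F.hLq, map_zero]
  hUq v := by
    have hπ : projKer s.x s.φ s.hx (aeval (s.upperLift F.U) q
        (((s.upperLift F.U - 1) ^ m : End K V) v)) = 0 := by
      rw [aeval_intertwine _ _ F.U (s.upperLift_proj F.U),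
        pow_intertwine _ _ F.U (s.upperLift_proj F.U), F.hUq]
    rw [pow_succ', Module.End.mul_apply, aeval_commute, s.upperLift_sub_one, hπ, map_zero,
      zero_smul, map_zero, ZeroMemClass.coe_zero, add_zero]
  hLe e he := by
    obtain ⟨w, hw0, hw⟩ := F.hLe e he
    exact ⟨w, fun h => hw0 (Subtype.ext h), by rw [← s.lowerLift_coe, hw, Submodule.coe_smul]⟩
  hUe e he := by
    obtain ⟨w, hw0, hw⟩ := F.hUe e he
    have he1 : e - 1 ≠ 0 := sub_ne_zero.2 fun h => hE (h ▸ he)
    refine ⟨(w : V) + (s.row w / (e - 1)) • s.x, fun h => hw0 ?_, ?_⟩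
    · have := congrArg (projKer s.x s.φ s.hx) h
      simpa [projKer_coe, projKer_self] using this
    · have h1 := s.upperLift_sub_one F.U w
      rw [projKer_coe, LinearMap.sub_apply, Module.End.one_apply, sub_eq_iff_eq_add] at h1
      rw [map_add, map_smul, s.upperLift_x, h1, LinearMap.sub_apply, Module.End.one_apply, hw]
      have hc' : s.row w + s.row w / (e - 1) = e * (s.row w / (e - 1)) := by
        field_simp
        ring
      rw [Submodule.coe_sub, Submodule.coe_smul, smul_add, smul_smul, ← hc', add_smul]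
      abel

/-- A step onto a chain. -/
def FacData.lift (F : FacData s.next m q E s.col s.row) (hm : 1 ≤ m) (hE : (1 : K) ∉ E) :
    FacData A (m + 1) q E b c where
  toFactors := F.toFactors.lift hE
  hb := by
    have hmm : m + 1 - 1 = (m - 1) + 1 := by omega
    have h := F.hb
    change aeval (s.lowerLift F.L) q
      (((s.lowerLift F.L - 1) ^ (m + 1 - 1) : End K V) b) ≠ 0
    rw [hmm, s.lowerLift_pow, ← Submodule.coe_subtype, ← aeval_intertwine
      (LinearMap.ker s.φ).subtype F.L (s.lowerLift F.L) (s.lowerLift_coe F.L), Submodule.coe_subtype,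
      Ne, ZeroMemClass.coe_eq_zero, map_add, map_smul, map_add, map_smul, ← Module.End.mul_apply
      ((F.L - 1) ^ (m - 1)), ← pow_succ, Nat.sub_add_cancel hm, F.hLq, add_zero, smul_eq_zero]
    exact fun e => e.elim s.hb h
  hc := by
    obtain ⟨w, hw⟩ := F.hc
    refine ⟨(w : V), ?_⟩
    change c (aeval (s.upperLift F.U) q
      (((s.upperLift F.U - 1) ^ (m + 1 - 1) : End K V) (w : V))) ≠ 0
    have hmm : m + 1 - 1 = (m - 1) + 1 := by omega
    rw [hmm, pow_succ', Module.End.mul_apply, aeval_commute, s.upperLift_sub_one,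
      aeval_intertwine _ _ F.U (s.upperLift_proj F.U),
      pow_intertwine _ _ F.U (s.upperLift_proj F.U), projKer_coe]
    have h0 : (F.U - 1) (aeval F.U q (((F.U - 1) ^ (m - 1) : End K (LinearMap.ker s.φ)) w)) = 0 := by
      rw [← aeval_commute, ← Module.End.mul_apply (F.U - 1), ← pow_succ',
        Nat.sub_add_cancel hm, F.hUq]
    rw [h0, ZeroMemClass.coe_zero, add_zero, map_smul, smul_eq_mul]
    exact mul_ne_zero hw s.hc

/-- A step starting a chain. -/
def Factors.liftStart (F : Factors s.next 0 q E) (hE : (1 : K) ∉ E) (hq : q.eval 1 ≠ 0) :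
    FacData A 1 q E b c where
  toFactors := F.lift hE
  hb := by
    change aeval (s.lowerLift F.L) q b ≠ 0
    intro h
    have hφ : ∀ v, s.φ (s.lowerLift F.L v) = (1 : End K K) (s.φ v) := fun v => by
      simp [StepData.lowerLift, s.hA, LinearMap.mem_ker.1 (F.L (projKer s.x s.φ s.hx v)).2]
    have := aeval_intertwine s.φ (s.lowerLift F.L) (1 : End K K) hφ q b
    rw [h, map_zero, aeval_fixed (1 : End K K) q rfl, smul_eq_mul, eq_comm, mul_eq_zero] at this
    exact this.elim hq s.hb
  hc := ⟨s.x, by
    change c (aeval (s.upperLift F.U) q s.x) ≠ 0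
    rw [aeval_fixed _ _ (s.upperLift_x F.U), map_smul, smul_eq_mul]
    exact mul_ne_zero hq s.hc⟩

end CfsgLib.KnownB.Sourour
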