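import Cfsg.Agent.Lib.KnownB.Sourour.Schur

/-!
# Rank of the peeled endomorphism and when it is scalar
-/

set_option autoImplicit false

namespace CfsgLib.KnownB.Sourour

open Module

variable {K V : Type*} [Field K] [AddCommGroup V] [Module K V] [FiniteDimensional K V]

/-- A vector spanning an independent pair with its image. -/
theorem exists_not_eigen (f : End K V) (hns : ¬ ∃ a : K, f = a • (1 : End K V)) :
    ∃ v, v ≠ 0 ∧ ∀ μ : K, f v ≠ μ • v := by
  by_contra h
  push Not at h
  refine hns (LinearMap.exists_eq_smul_id_of_forall_notLinearIndependent fun v hli => ?_)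
  have hv : v ≠ 0 := hli.ne_zero 0
  obtain ⟨μ, hμ⟩ := h v hv
  exact (LinearIndependent.pair_iff' hv).1 hli μ hμ.symm

theorem finrank_ker_form {φ : Dual K V} {x : V} (hx : φ x = 1) :
    finrank K (LinearMap.ker φ) + 1 = finrank K V :=
  Module.Dual.finrank_ker_add_one_of_ne_zero fun h => by simp [h] at hx

variable (A : End K V) (x : V) (φ : Dual K V) (hx : φ x = 1) (hA : φ (A x) = 1)

include hx in
/-- The rank is kept when a kernel vector leaves `ker φ` and `x` is outside the image. -/
theorem rank_schur_of_kernel (hxr : x ∉ LinearMap.range (A - 1)) {u : V} (hu : (A - 1) u = 0)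
    (hφu : φ u ≠ 0) :
    finrank K (LinearMap.range (schur A x φ hA - 1)) = finrank K (LinearMap.range (A - 1)) := by
  have hker : LinearMap.ker (schur A x φ hA - 1) =
      (LinearMap.ker (A - 1)).comap (LinearMap.ker φ).subtype := by
    ext v
    simp only [LinearMap.mem_ker, Submodule.mem_comap, Submodule.coe_subtype,
      LinearMap.sub_apply, Module.End.one_apply, sub_eq_zero]
    constructor
    · intro hv
      have h := schur_fixed A x φ hA hv
      have h0 : φ (A v) = 0 := by
        by_contra hne
        refine hxr ?_
        have : φ (A v) • x ∈ LinearMap.range (A - 1) := by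
          refine ⟨(v : V) - φ (A v) • x, ?_⟩
          rw [map_sub, map_smul, h]
          module
        exact (Submodule.smul_mem_iff _ hne).1 this
      rw [h0, zero_smul, LinearMap.sub_apply, Module.End.one_apply, sub_eq_zero] at h
      exact h
    · intro hv
      apply Subtype.ext
      rw [schur_apply, hv, LinearMap.mem_ker.1 v.2, zero_smul, sub_zero]
  have h1 := (schur A x φ hA - 1).finrank_range_add_finrank_ker
  have h2 := (A - 1).finrank_range_add_finrank_ker
  have h3 := finrank_ker_form hx
  have hsup : LinearMap.ker (A - 1) ⊔ LinearMap.ker φ = ⊤ := by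
    rw [eq_top_iff]
    intro v _
    rw [show v = (φ v / φ u) • u + (v - (φ v / φ u) • u) by abel]
    refine Submodule.add_mem_sup (Submodule.smul_mem _ _ (LinearMap.mem_ker.2 hu))
      (LinearMap.mem_ker.2 ?_)
    rw [map_sub, map_smul, smul_eq_mul, div_mul_cancel₀ _ hφu, sub_self]
  have h4 := Submodule.finrank_sup_add_finrank_inf_eq (LinearMap.ker (A - 1)) (LinearMap.ker φ)
  rw [hsup, finrank_top] at h4
  have h5 : finrank K (LinearMap.ker (schur A x φ hA - 1)) =
      finrank K (LinearMap.ker (A - 1) ⊓ LinearMap.ker φ : Submodule K V) := by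
    have hco : (LinearMap.ker (A - 1)).comap (LinearMap.ker φ).subtype =
        (LinearMap.ker (A - 1) ⊓ LinearMap.ker φ).comap (LinearMap.ker φ).subtype := by
      ext v; simp
    rw [hker, hco, (Submodule.comapSubtypeEquivOfLe (inf_le_right :
      LinearMap.ker (A - 1) ⊓ LinearMap.ker φ ≤ _)).finrank_eq]
  omega

include hx in
/-- If `A - 1` is injective the rank drops by at most two. -/
theorem rank_schur_of_injective (hinj : LinearMap.ker (A - 1) = ⊥) :
    finrank K V ≤ finrank K (LinearMap.range (schur A x φ hA - 1)) + 2 := by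
  obtain ⟨u, hu⟩ := LinearMap.surjective_of_injective (LinearMap.ker_eq_bot.1 hinj)
    (x + (A - 1) x)
  have hle : (LinearMap.ker (schur A x φ hA - 1)).map (LinearMap.ker φ).subtype ≤
      K ∙ u := by
    rintro v ⟨w, hw, rfl⟩
    simp only [SetLike.mem_coe, LinearMap.mem_ker, LinearMap.sub_apply, Module.End.one_apply,
      sub_eq_zero] at hw
    have h := schur_fixed A x φ hA hw
    rw [← hu, ← map_smul] at h
    rw [Submodule.coe_subtype, LinearMap.ker_eq_bot.1 hinj h]
    exact Submodule.smul_mem _ _ (Submodule.mem_span_singleton_self u)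
  have h0 := Submodule.finrank_mono hle
  rw [(Submodule.equivMapOfInjective _ Subtype.val_injective _).symm.finrank_eq] at h0
  have h1 := (schur A x φ hA - 1).finrank_range_add_finrank_ker
  have h3 := finrank_ker_form hx
  have h4 : finrank K (K ∙ u) ≤ 1 := (finrank_span_le_card ({u} : Set V)).trans (by simp)
  omega

include hx in
/-- If `A - 1` is injective and `φ` misses the preimage of `A x`, nothing is fixed. -/
theorem rank_schur_of_injective' (hinj : LinearMap.ker (A - 1) = ⊥) {u : V}
    (hu : (A - 1) u = x + (A - 1) x) (hφu : φ u ≠ 0) :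
    finrank K (LinearMap.range (schur A x φ hA - 1)) + 1 = finrank K V := by
  have hker : LinearMap.ker (schur A x φ hA - 1) = ⊥ := by
    rw [eq_bot_iff]
    intro v hv
    simp only [LinearMap.mem_ker, LinearMap.sub_apply, Module.End.one_apply, sub_eq_zero] at hv
    have h := schur_fixed A x φ hA hv
    rw [← hu, ← map_smul] at h
    have h' : (v : V) = φ (A v) • u := LinearMap.ker_eq_bot.1 hinj h
    have h0 : φ (v : V) = 0 := LinearMap.mem_ker.1 v.2
    conv_lhs at h0 => rw [h', map_smul, smul_eq_mul]
    rcases mul_eq_zero.1 h0 with h0 | h0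
    · rw [h0, zero_smul] at h'
      rw [Submodule.mem_bot]
      exact Subtype.ext h'
    · exact absurd h0 hφu
  have h1 := (schur A x φ hA - 1).finrank_range_add_finrank_ker
  have h3 := finrank_ker_form hx
  rw [hker, finrank_bot] at h1
  omega

omit [FiniteDimensional K V] in
include hx in
/-- What it means for the complement to be scalar. -/
theorem scalar_form {l : K} (hl : schur A x φ hA = l • 1) (v : V) :
    A v = φ (A v) • A x + l • v - (l * φ v) • x := by
  conv_lhs => rw [apply_eq_schur A x φ hx hA v]
  rw [hl, LinearMap.smul_apply, Module.End.one_apply, Submodule.coe_smul, projKer_apply]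
  module

/-- For given `x` at most one form gives a scalar complement. -/
theorem scalar_unique (h3 : 3 ≤ finrank K V) (hli : LinearIndependent K ![x, A x])
    (φ' : Dual K V) (hx : φ x = 1) (hx' : φ' x = 1) (hA' : φ' (A x) = 1) {l l' : K} (hl0 : l ≠ 0)
    (hl : schur A x φ hA = l • 1) (hl' : schur A x φ' hA' = l' • 1) : φ = φ' := by
  have hll : l = l' := by
    by_contra hne
    have htop : (⊤ : Submodule K V) ≤ Submodule.span K (Set.range ![x, A x]) := by
      intro v _
      have e := (scalar_form A x φ hx hA hl v).symm.trans (scalar_form A x φ' hx' hA' hl' v)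
      have e' : (l - l') • v = (φ' (A v) - φ (A v)) • A x + (l * φ v - l' * φ' v) • x := by
        linear_combination (norm := module) e
      rw [← Submodule.smul_mem_iff _ (sub_ne_zero.2 hne), e']
      exact add_mem (Submodule.smul_mem _ _ (Submodule.subset_span ⟨1, rfl⟩))
        (Submodule.smul_mem _ _ (Submodule.subset_span ⟨0, rfl⟩))
    have : finrank K V ≤ 2 := by
      rw [← finrank_top K V]
      refine (Submodule.finrank_mono htop).trans ((finrank_range_le_card _).trans ?_)
      simp
    omega
  subst hll
  ext v
  have e := (scalar_form A x φ hx hA hl v).symm.trans (scalar_form A x φ' hx' hA' hl' v)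
  have e' : (l * φ' v - l * φ v) • x + (φ (A v) - φ' (A v)) • A x = 0 := by
    linear_combination (norm := module) e
  have := (LinearIndependent.pair_iff.1 hli _ _ e').1
  rw [← mul_sub, mul_eq_zero, sub_eq_zero] at this
  exact (this.resolve_left hl0).symm

end CfsgLib.KnownB.Sourour
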