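import Cfsg.Agent.Lib.KnownB.Sourour.Avoid
import Cfsg.Agent.Lib.KnownB.Sourour.Rank

/-!
# Choosing the leading vector and the leading form
-/

set_option autoImplicit false

namespace CfsgLib.KnownB.Sourour

open Module

variable {K V : Type*} [Field K] [AddCommGroup V] [Module K V]

/-- Two eigenvectors on a line through a non-eigenvector have different eigenvalues, and there is
no third one. -/
theorem eigen_line (Q : End K V) (x z : V) (hx : ∀ μ : K, Q x ≠ μ • x)
    (hli : LinearIndependent K ![x, z]) {s t u : K} (hst : s ≠ t) (hsu : s ≠ u) (htu : t ≠ u)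
    {a b c : K} (hs : Q (x + s • z) = a • (x + s • z)) (ht : Q (x + t • z) = b • (x + t • z))
    (hu : Q (x + u • z) = c • (x + u • z)) : False := by
  simp only [map_add, map_smul] at hs ht hu
  have e : ((t - u) * a + (u - s) * b + (s - t) * c) • x +
      ((t - u) * (s * a) + (u - s) * (t * b) + (s - t) * (u * c)) • z = 0 := by
    linear_combination (norm := module) (u - t) • hs + (s - u) • ht + (t - s) • hu
  obtain ⟨e1, e2⟩ := LinearIndependent.pair_iff.1 hli _ _ e
  have hab : a = b := by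
    have : (t - u) * (s - u) * (a - b) = 0 := by linear_combination e2 - u * e1
    simpa [sub_eq_zero, htu, hsu] using this
  subst hab
  have hsub : Q z = a • z := by
    have h : (s - t) • Q z = (s - t) • (a • z) := by linear_combination (norm := module) hs - ht
    exact smul_right_injective V (sub_ne_zero.2 hst) h
  refine hx a ?_
  linear_combination (norm := module) hs - s • hsub

variable [FiniteDimensional K V]

/-- A non-eigenvector with `c ≠ 0`, off a given line. -/
theorem exists_noneigen (h4 : 4 ≤ ENat.card K) (Q : End K V)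
    (hns : ¬ ∃ a : K, Q = a • (1 : End K V)) (c : Dual K V) (hc : c ≠ 0) (w : V) :
    ∃ x, c x ≠ 0 ∧ x ∉ K ∙ w ∧ ∀ μ : K, Q x ≠ μ • x := by
  classical
  obtain ⟨v, hv0, hv⟩ := exists_not_eigen Q hns
  obtain ⟨v', hv'⟩ : ∃ v', c v' ≠ 0 := by
    by_contra h
    push Not at h
    exact hc (LinearMap.ext h)
  -- first a non-eigenvector with `c ≠ 0`
  obtain ⟨x₀, hx₀c, hx₀⟩ : ∃ x, c x ≠ 0 ∧ ∀ μ : K, Q x ≠ μ • x := by
    by_cases hcv : c v = 0
    · have hli : LinearIndependent K ![v, v'] := by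
        rw [LinearIndependent.pair_iff' hv0]
        intro a ha
        rw [← ha, map_smul, hcv, smul_zero] at hv'
        exact hv' rfl
      by_contra hall
      push Not at hall
      obtain ⟨s, hs⟩ := exists_scalar h4 {0} (by simp)
      obtain ⟨t, ht⟩ := exists_scalar h4 {0, s} (by
        exact Finset.card_le_two.trans (by norm_num))
      obtain ⟨u, hu⟩ := exists_scalar h4 {0, s, t} Finset.card_le_three
      simp only [Finset.mem_insert, Finset.mem_singleton, not_or] at hs ht hu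
      have hcs : ∀ r : K, r ≠ 0 → c (v + r • v') ≠ 0 := fun r hr => by
        rw [map_add, map_smul, hcv, zero_add, smul_eq_mul]
        exact mul_ne_zero hr hv'
      obtain ⟨a, ha⟩ := hall _ (hcs s hs)
      obtain ⟨b, hb⟩ := hall _ (hcs t ht.1)
      obtain ⟨d, hd⟩ := hall _ (hcs u hu.1)
      exact eigen_line Q v v' hv hli (Ne.symm ht.2) (Ne.symm hu.2.1) (Ne.symm hu.2.2) ha hb hd
    · exact ⟨v, hcv, hv⟩
  by_cases hw : x₀ ∈ K ∙ w
  · obtain ⟨a, ha⟩ := Submodule.mem_span_singleton.1 hw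
    -- move along `ker c`
    obtain ⟨z, hz0, hzc⟩ : ∃ z, z ≠ 0 ∧ c z = 0 := by
      refine ⟨Q x₀ - (c (Q x₀) / c x₀) • x₀, fun h => hx₀ _ (sub_eq_zero.1 h), ?_⟩
      rw [map_sub, map_smul, smul_eq_mul, div_mul_cancel₀ _ hx₀c, sub_self]
    have hli : LinearIndependent K ![x₀, z] := by
      rw [LinearIndependent.pair_iff' fun h => hx₀c (by rw [h, map_zero])]
      intro r hr
      have : r * c x₀ = 0 := by rw [← smul_eq_mul, ← map_smul, hr, hzc]
      rw [(mul_eq_zero.1 this).resolve_right hx₀c, zero_smul] at hr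
      exact hz0 hr.symm
    by_contra hall
    push Not at hall
    obtain ⟨s, hs⟩ := exists_scalar h4 {0} (by simp)
    obtain ⟨t, ht⟩ := exists_scalar h4 {0, s} (Finset.card_le_two.trans (by norm_num))
    obtain ⟨u, hu⟩ := exists_scalar h4 {0, s, t} Finset.card_le_three
    simp only [Finset.mem_insert, Finset.mem_singleton, not_or] at hs ht hu
    have hc' : ∀ r : K, c (x₀ + r • z) ≠ 0 := fun r => by
      rw [map_add, map_smul, hzc, smul_zero, add_zero]; exact hx₀c
    have hw' : ∀ r : K, r ≠ 0 → x₀ + r • z ∉ K ∙ w := by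
      intro r hr hmem
      have hrz := sub_mem hmem hw
      rw [add_sub_cancel_left, Submodule.smul_mem_iff _ hr] at hrz
      obtain ⟨b, hb⟩ := Submodule.mem_span_singleton.1 hrz
      have ha0 : a ≠ 0 := fun h => hx₀c (by rw [← ha, h, zero_smul, map_zero])
      have := (LinearIndependent.pair_iff.1 hli) b (-a) (by
        rw [← ha, ← hb, smul_smul, smul_smul, ← add_smul]; simp [mul_comm])
      exact ha0 (neg_eq_zero.1 this.2)
    obtain ⟨e, he⟩ := hall _ (hc' s) (hw' s hs)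
    obtain ⟨f, hf⟩ := hall _ (hc' t) (hw' t ht.1)
    obtain ⟨g, hg⟩ := hall _ (hc' u) (hw' u hu.1)
    exact eigen_line Q x₀ z hx₀ hli (Ne.symm ht.2) (Ne.symm hu.2.1) (Ne.symm hu.2.2) he hf hg
  · exact ⟨x₀, hx₀c, hw, hx₀⟩

/-- A form vanishing on a given line, not on a vector off that line. -/
theorem exists_form {p : Submodule K V} {v : V} (hv : v ∉ p) :
    ∃ f : Dual K V, (∀ y ∈ p, f y = 0) ∧ f v ≠ 0 := by
  obtain ⟨f, hf, hmap⟩ := Submodule.exists_dual_map_eq_bot_of_notMem hv inferInstance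
  exact ⟨f, fun y hy => (Submodule.mem_bot K).1 (hmap ▸ Submodule.mem_map_of_mem hy), hf⟩

/-- A form with prescribed values at `x, y` and non-zero on three vectors. -/
theorem exists_phi (h4 : 4 ≤ ENat.card K) (x y v₁ v₂ v₃ : V) (hx : x ∉ K ∙ y) (h₁ : v₁ ∉ K ∙ y)
    (h₂ : v₂ ∉ K ∙ y) (h₃ : v₃ ∉ K ∙ y) :
    ∃ φ : Dual K V, φ x = 1 ∧ φ y = 0 ∧ φ v₁ ≠ 0 ∧ φ v₂ ≠ 0 ∧ φ v₃ ≠ 0 := by
  let D : Submodule K (Dual K V) := LinearMap.ker (Dual.eval K V y)
  let P : V → Submodule K D := fun v => LinearMap.ker ((Dual.eval K V v).domRestrict D)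
  have hP : ∀ v, v ∉ K ∙ y → P v ≠ ⊤ := by
    intro v hv htop
    obtain ⟨f, hf, hfv⟩ := exists_form hv
    have hfD : f ∈ D := hf y (Submodule.mem_span_singleton_self y)
    have : (⟨f, hfD⟩ : D) ∈ P v := htop ▸ Submodule.mem_top
    exact hfv this
  obtain ⟨⟨f, hf⟩, q1, q2, q3, q4⟩ :=
    avoid_four (V := D) h4 (P x) (P v₁) (P v₂) (P v₃) (hP x hx) (hP _ h₁) (hP _ h₂) (hP _ h₃)
  have hfy : f y = 0 := hf
  replace q1 : f x ≠ 0 := q1
  replace q2 : f v₁ ≠ 0 := q2
  replace q3 : f v₂ ≠ 0 := q3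
  replace q4 : f v₃ ≠ 0 := q4
  refine ⟨(f x)⁻¹ • f, by simp [q1], by simp [hfy], ?_, ?_, ?_⟩ <;> simp [q1, q2, q3, q4]

variable (A : End K V)

/-- A form as in `exists_phi` with non-scalar complement. -/
theorem exists_phi_nonscalar (h4 : 4 ≤ ENat.card K) (hdet : LinearMap.det A = 1)
    (h3 : 3 ≤ finrank K V) (x v₁ v₂ v₃ : V) (hxy : x ∉ K ∙ (A - 1) x) (hy : (A - 1) x ≠ 0)
    (h₁ : v₁ ∉ K ∙ (A - 1) x) (h₂ : v₂ ∉ K ∙ (A - 1) x) (h₃ : v₃ ∉ K ∙ (A - 1) x)
    (hrank : ∀ (φ : Dual K V) (hA : φ (A x) = 1), φ x = 1 → φ v₁ ≠ 0 → φ v₂ ≠ 0 → φ v₃ ≠ 0 →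
      2 ≤ finrank K (LinearMap.range (schur A x φ hA - 1))) :
    ∃ (φ : Dual K V) (hA : φ (A x) = 1), φ x = 1 ∧ φ v₁ ≠ 0 ∧ φ v₂ ≠ 0 ∧ φ v₃ ≠ 0 ∧
      ¬ ∃ l : K, schur A x φ hA = l • 1 := by
  classical
  have hli : LinearIndependent K ![x, A x] := by
    rw [LinearIndependent.pair_iff' fun h => hy (by rw [h, map_zero])]
    intro a ha
    by_cases h1 : a = 1
    · exact hy (by rw [LinearMap.sub_apply, Module.End.one_apply, ← ha, h1, one_smul, sub_self])
    · refine hxy (Submodule.mem_span_singleton.2 ⟨(a - 1)⁻¹, ?_⟩)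
      rw [LinearMap.sub_apply, Module.End.one_apply, ← ha, inv_smul_eq_iff₀ (sub_ne_zero.2 h1)]
      module
  have mkA : ∀ φ : Dual K V, φ x = 1 → φ ((A - 1) x) = 0 → φ (A x) = 1 := by
    intro φ hφ h0
    rw [LinearMap.sub_apply, Module.End.one_apply, map_sub, hφ, sub_eq_zero] at h0
    exact h0
  -- the scalar occurring must be neither `0` nor `1`
  have hscal : ∀ (φ : Dual K V) (hA : φ (A x) = 1), φ x = 1 → φ v₁ ≠ 0 → φ v₂ ≠ 0 → φ v₃ ≠ 0 →
      ∀ l : K, schur A x φ hA = l • 1 → l ≠ 0 ∧ l ≠ 1 ∧ l ^ (finrank K V - 1) = 1 := by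
    intro φ hA hφ e1 e2 e3 l hl
    have hd := det_schur A x φ hφ hA
    rw [hl, LinearMap.det_smul, map_one, mul_one, hdet] at hd
    have hf := finrank_ker_form hφ
    rw [show finrank K (LinearMap.ker φ) = finrank K V - 1 by omega] at hd
    refine ⟨fun h => ?_, fun h => ?_, hd⟩
    · rw [h, zero_pow (by omega)] at hd
      exact zero_ne_one hd
    · have := hrank φ hA hφ e1 e2 e3
      rw [hl, h, one_smul, sub_self, LinearMap.range_zero, finrank_bot] at this
      omega
  obtain ⟨φ, hφx, hφy, e1, e2, e3⟩ := exists_phi h4 x ((A - 1) x) v₁ v₂ v₃ hxy h₁ h₂ h₃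
  by_cases hbad : ∃ l : K, schur A x φ (mkA φ hφx hφy) = l • 1
  swap
  · exact ⟨φ, mkA φ hφx hφy, hφx, e1, e2, e3, hbad⟩
  obtain ⟨l, hl⟩ := hbad
  obtain ⟨hl0, hl1, hlpow⟩ := hscal φ _ hφx e1 e2 e3 l hl
  -- a direction keeping `x` and `(A - 1) x`
  suffices key : ∃ (d : Dual K V) (t : K), d ≠ 0 ∧ d x = 0 ∧ d ((A - 1) x) = 0 ∧ t ≠ 0 ∧
      φ v₁ + t * d v₁ ≠ 0 ∧ φ v₂ + t * d v₂ ≠ 0 ∧ φ v₃ + t * d v₃ ≠ 0 by
    obtain ⟨d, t, hd, hdx, hdy, ht, f1, f2, f3⟩ := key
    have hx' : (φ + t • d) x = 1 := by simp [hφx, hdx]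
    have hy' : (φ + t • d) ((A - 1) x) = 0 := by
      rw [LinearMap.add_apply, LinearMap.smul_apply, hφy, hdy, smul_zero, add_zero]
    have g1 : (φ + t • d) v₁ ≠ 0 := by simpa using f1
    have g2 : (φ + t • d) v₂ ≠ 0 := by simpa using f2
    have g3 : (φ + t • d) v₃ ≠ 0 := by simpa using f3
    refine ⟨_, mkA _ hx' hy', hx', g1, g2, g3, fun ⟨l', hl'⟩ => ?_⟩
    have := scalar_unique A x φ (mkA φ hφx hφy) h3 hli _ hφx hx' (mkA _ hx' hy') hl0 hl hl'
    exact (smul_ne_zero ht hd) (by simpa using this.symm)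
  have dir : ∀ S : Finset V, S.card < finrank K V → ∃ d : Dual K V, d ≠ 0 ∧ ∀ v ∈ S, d v = 0 := by
    intro S hS
    have hne : Submodule.span K (S : Set V) ≠ ⊤ := by
      intro h
      have := finrank_span_finset_le_card (R := K) S
      rw [Set.finrank, h, finrank_top] at this
      omega
    obtain ⟨d, hd0, hd⟩ := Submodule.exists_dual_map_eq_bot_of_lt_top hne.lt_top inferInstance
    exact ⟨d, hd0, fun v hv => (Submodule.mem_bot K).1
      (hd ▸ Submodule.mem_map_of_mem (Submodule.subset_span hv))⟩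
  have root : ∀ (d : Dual K V) (v : V) (t : K), φ v + t * d v = 0 → φ v ≠ 0 → t = -φ v / d v := by
    intro d v t h hv
    have hdv : d v ≠ 0 := fun h0 => hv (by simpa [h0] using h)
    rw [eq_div_iff hdv]
    linear_combination h
  rcases Nat.lt_or_ge (finrank K V) 4 with h | h
  · -- dimension three: `2` is invertible
    have hn : finrank K V = 3 := by omega
    rw [hn] at hlpow
    have h2 : (2 : K) ≠ 0 := by
      intro h2
      have : (l - 1) ^ 2 = 0 := by linear_combination hlpow + (1 - l) * h2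
      exact hl1 (by rwa [pow_eq_zero_iff two_ne_zero, sub_eq_zero] at this)
    obtain ⟨d, hd0, hd⟩ := dir {x, (A - 1) x} (by
      refine lt_of_le_of_lt Finset.card_le_two ?_; omega)
    obtain ⟨a, ha⟩ := exists_scalar h4 {0, 1, -1} Finset.card_le_three
    simp only [Finset.mem_insert, Finset.mem_singleton, not_or] at ha
    have h11 : (1 : K) ≠ -1 := fun h => h2 (by linear_combination h)
    have haa : a ≠ -a := fun h => ha.1 (by
      have : (2 : K) * a = 0 := by linear_combination h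
      exact (mul_eq_zero.1 this).resolve_left h2)
    let R : Finset K := {-φ v₁ / d v₁, -φ v₂ / d v₂, -φ v₃ / d v₃}
    obtain ⟨t, htS, htR⟩ : ∃ t ∈ ({1, -1, a, -a} : Finset K), t ∉ R := by
      by_contra hcon
      push Not at hcon
      have h4' : ({1, -1, a, -a} : Finset K).card = 4 := by
        have p1 : (1 : K) ≠ a := Ne.symm ha.2.1
        have p2 : (1 : K) ≠ -a := fun h => ha.2.2 (by linear_combination h)
        have p3 : (-1 : K) ≠ a := Ne.symm ha.2.2
        have p4 : (-1 : K) ≠ -a := fun h => ha.2.1 (by linear_combination h)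
        simp [h11, haa, p1, p2, p3, p4]
      have := (Finset.card_le_card hcon).trans Finset.card_le_three
      omega
    have ht0 : t ≠ 0 := by
      simp only [Finset.mem_insert, Finset.mem_singleton] at htS
      rcases htS with rfl | rfl | rfl | rfl <;> simp [ha.1]
    refine ⟨d, t, hd0, hd _ (by simp), hd _ (by simp), ht0, fun h => ?_, fun h => ?_, fun h => ?_⟩
    all_goals
      apply htR
      simp only [R, Finset.mem_insert, Finset.mem_singleton]
    · exact Or.inl (root d _ t h e1)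
    · exact Or.inr (Or.inl (root d _ t h e2))
    · exact Or.inr (Or.inr (root d _ t h e3))
  · obtain ⟨d, hd0, hd⟩ := dir {x, (A - 1) x, v₁} (by
      refine lt_of_le_of_lt Finset.card_le_three ?_; omega)
    obtain ⟨t, ht⟩ := exists_scalar h4 {0, -φ v₂ / d v₂, -φ v₃ / d v₃} Finset.card_le_three
    simp only [Finset.mem_insert, Finset.mem_singleton, not_or] at ht
    refine ⟨d, t, hd0, hd _ (by simp), hd _ (by simp), ht.1, ?_,
      fun h => ht.2.1 (root d _ t h e2), fun h => ht.2.2 (root d _ t h e3)⟩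
    rw [hd v₁ (by simp), mul_zero, add_zero]
    exact e1

end CfsgLib.KnownB.Sourour
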