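import Cfsg.Agent.Lib.KnownB.Sourour.Comm

/-!
# Scalars of determinant one are commutators (finite fields)
-/

set_option autoImplicit false

namespace CfsgLib.KnownB.Sourour

open Module Polynomial Matrix

variable {F : Type*} [Field F]

/-- Every element is a value of `x ^ 2 - ν * y ^ 2`. -/
theorem exists_norm_eq [Fintype F] {ν : F} (hν : ν ≠ 0) (d : F) :
    ∃ x y : F, x * x - ν * (y * y) = d := by
  by_cases h2 : ringChar F = 2
  · obtain ⟨x, hx⟩ := FiniteField.isSquare_of_char_two h2 d
    exact ⟨x, 0, by rw [hx]; ring⟩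
  · have hodd : Fintype.card F % 2 = 1 := FiniteField.odd_card_of_char_ne_two h2
    obtain ⟨x, y, hxy⟩ := FiniteField.exists_root_sum_quadratic (R := F)
      (f := X ^ 2 - C d) (g := C (-ν) * X ^ 2) (degree_X_pow_sub_C (by norm_num) d)
      (degree_C_mul_X_pow 2 (neg_ne_zero.2 hν)) hodd
    refine ⟨x, y, ?_⟩
    simp only [eval_sub, eval_mul, eval_pow, eval_X, eval_C] at hxy
    linear_combination hxy

/-- Predecessor modulo `n`. -/
theorem finRotate_symm_val {n : ℕ} (i : Fin n) :
    (((finRotate n).symm i : Fin n) : ℕ) = if (i : ℕ) = 0 then n - 1 else (i : ℕ) - 1 := by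
  obtain ⟨k, rfl⟩ : ∃ k, n = k + 1 := ⟨n - 1, by have := i.2; omega⟩
  split_ifs with h
  · have : finRotate (k + 1) ⟨k, by omega⟩ = i := by
      rw [finRotate_last']; exact Fin.ext h.symm
    rw [← this, Equiv.symm_apply_apply]
    rfl
  · have : finRotate (k + 1) ⟨(i : ℕ) - 1, by have := i.2; omega⟩ = i := by
      rw [finRotate_of_lt (by have := i.2; omega)]
      exact Fin.ext (show (i : ℕ) - 1 + 1 = i by omega)
    conv_lhs => rw [← this, Equiv.symm_apply_apply]

/-- A weighted shift has non-zero determinant. -/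
theorem det_weightShift_ne_zero {ι : Type*} [Fintype ι] [DecidableEq ι] (σ : ι ≃ ι) (w : ι → F)
    (hw : ∀ i, w i ≠ 0) (T : End F (ι → F)) (hT : ∀ v i, T v i = w i * v (σ i)) :
    LinearMap.det T ≠ 0 := by
  intro h
  refine (LinearMap.bot_lt_ker_of_det_eq_zero h).ne (Eq.symm ?_)
  rw [eq_bot_iff]
  intro v hv
  rw [Submodule.mem_bot]
  funext j
  have := congrFun (LinearMap.mem_ker.1 hv) (σ.symm j)
  rw [hT, σ.apply_symm_apply] at this
  exact (mul_eq_zero.1 this).resolve_left (hw _)

theorem det_diag {ι : Type*} [Fintype ι] [DecidableEq ι] (c : ι → F) (T : End F (ι → F))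
    (hT : ∀ v i, T v i = c i * v i) : LinearMap.det T = ∏ i, c i := by
  have : T = Matrix.toLin' (Matrix.diagonal c) := LinearMap.ext fun v => funext fun i => by
    rw [hT, Matrix.toLin'_apply, Matrix.mulVec_diagonal]
  rw [this, LinearMap.det_toLin', Matrix.det_diagonal]

/-- Odd dimension. -/
theorem isComm_scalar_odd {n : ℕ} (hodd : Odd n) {z : F} (hz : z ^ n = 1) :
    IsComm (z • (1 : End F (Fin n → F))) := by
  let B : End F (Fin n → F) :=
    LinearMap.pi fun i => z ^ (i : ℕ) • LinearMap.proj i
  let T : End F (Fin n → F) := LinearMap.funLeft F F (finRotate n).symm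
  have hB : ∀ v i, B v i = z ^ (i : ℕ) * v i := fun v i => rfl
  have hT : ∀ v i, T v i = v ((finRotate n).symm i) := fun v i => rfl
  refine isComm_of_det_fix (a := B) (b := T) ?_ ?_ (LinearMap.ext fun v => funext fun i => ?_)
    fun d hd => ?_
  · rw [det_diag _ B hB, Finset.prod_pow_eq_pow_sum, Fin.sum_univ_eq_sum_range (fun i => i),
      Finset.sum_range_id]
    obtain ⟨k, rfl⟩ := hodd
    rw [show (2 * k + 1) * (2 * k + 1 - 1) / 2 = (2 * k + 1) * k by
      rw [Nat.add_sub_cancel, mul_left_comm, Nat.mul_div_cancel_left _ two_pos], pow_mul, hz,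
      one_pow]
  · exact det_weightShift_ne_zero (finRotate n).symm 1 (fun _ => one_ne_zero) T
      fun v i => by rw [hT, Pi.one_apply, one_mul]
  · simp only [Module.End.mul_apply, LinearMap.smul_apply, Module.End.one_apply, Pi.smul_apply,
      smul_eq_mul, hB, hT]
    rw [← mul_assoc, ← pow_succ', finRotate_symm_val]
    split_ifs with h
    · rw [h, Nat.sub_add_cancel (show 1 ≤ n by have := i.2; omega), hz, pow_zero]
    · rw [Nat.sub_add_cancel (Nat.pos_of_ne_zero h)]
  · have hn : 0 < n := hodd.pos
    refine ⟨LinearMap.pi fun i => (if i = ⟨0, hn⟩ then d else 1) • LinearMap.proj i, ?_,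
      LinearMap.ext fun v => funext fun i => ?_⟩
    · rw [det_diag (fun i : Fin n => if i = ⟨0, hn⟩ then d else 1) _ fun v i => rfl,
        Fintype.prod_ite_eq']
    · simp only [Module.End.mul_apply, LinearMap.pi_apply, LinearMap.smul_apply,
        LinearMap.proj_apply, smul_eq_mul, hB]
      ring

/-- Block diagonal maps. -/
noncomputable def blocks {h : ℕ} (M : Fin h → Matrix (Fin 2) (Fin 2) F) :
    End F (Fin 2 × Fin h → F) :=
  Matrix.toLin' (Matrix.blockDiagonal M)

theorem blocks_apply {h : ℕ} (M : Fin h → Matrix (Fin 2) (Fin 2) F) (v : Fin 2 × Fin h → F)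
    (j : Fin 2) (i : Fin h) : blocks M v (j, i) = M i j 0 * v (0, i) + M i j 1 * v (1, i) := by
  simp [blocks, Matrix.mulVec, dotProduct, Matrix.blockDiagonal_apply, Fintype.sum_prod_type,
    Fin.sum_univ_two]

/-- Even dimension. -/
theorem isComm_scalar_even [Fintype F] {h : ℕ} (hh : 0 < h) {z : F} (hz : z ^ (2 * h) = 1) :
    IsComm (z • (1 : End F (Fin 2 × Fin h → F))) := by
  have hz0 : z ≠ 0 := fun e => by
    rw [e, zero_pow (by omega)] at hz
    exact zero_ne_one hz
  let ν : F := -(z ^ (h - 1))⁻¹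
  have hν : ν ≠ 0 := neg_ne_zero.2 (inv_ne_zero (pow_ne_zero _ hz0))
  let R : Matrix (Fin 2) (Fin 2) F := !![0, ν; 1, 0]
  let B := blocks fun i : Fin h => z ^ (i : ℕ) • R
  let w : Fin 2 × Fin h → F := fun x => if (x.2 : ℕ) = 0 ∧ x.1 = 1 then z ^ h else 1
  let T : End F (Fin 2 × Fin h → F) :=
    LinearMap.pi fun x => w x • LinearMap.proj (x.1, (finRotate h).symm x.2)
  have hT : ∀ v j i, T v (j, i) = w (j, i) * v (j, (finRotate h).symm i) := fun v j i => rfl
  have hB0 : ∀ v i, B v (0, i) = z ^ (i : ℕ) * ν * v (1, i) := fun v i => by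
    simp [B, blocks_apply, R]
  have hB1 : ∀ v i, B v (1, i) = z ^ (i : ℕ) * v (0, i) := fun v i => by
    simp [B, blocks_apply, R]
  refine isComm_of_det_fix (a := B) (b := T) ?_ ?_ (LinearMap.ext fun v => funext fun x => ?_)
    fun d hd => ?_
  · simp only [B, blocks, LinearMap.det_toLin', Matrix.det_blockDiagonal]
    have : ∀ i : Fin h, (z ^ (i : ℕ) • R).det = (z ^ (h - 1))⁻¹ * (z ^ (i : ℕ) * z ^ (i : ℕ)) :=
      fun i => by
        simp only [Matrix.det_fin_two, Matrix.smul_apply, R, ν, Matrix.of_apply,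
          Matrix.cons_val', Matrix.cons_val_zero, Matrix.cons_val_one, Matrix.empty_val',
          Matrix.cons_val_fin_one, smul_eq_mul]
        ring
    rw [Finset.prod_congr rfl fun i _ => this i, Finset.prod_mul_distrib, Finset.prod_const,
      Finset.card_univ, Fintype.card_fin, Finset.prod_mul_distrib, Finset.prod_pow_eq_pow_sum,
      Fin.sum_univ_eq_sum_range (fun i => i), ← pow_add, ← two_mul, mul_comm 2,
      Finset.sum_range_id_mul_two, inv_pow, ← pow_mul, mul_comm (h - 1) h,
      inv_mul_cancel₀ (pow_ne_zero _ hz0)]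
  · refine det_weightShift_ne_zero (Equiv.prodCongr (Equiv.refl _) (finRotate h).symm) w
      (fun x => ?_) T fun v x => rfl
    simp only [w]
    split_ifs
    · exact pow_ne_zero _ hz0
    · exact one_ne_zero
  · obtain ⟨j, i⟩ := x
    have hzh : z ^ h * z ^ h = 1 := by rw [← pow_add, ← two_mul, hz]
    simp only [Module.End.mul_apply, LinearMap.smul_apply, Module.End.one_apply, Pi.smul_apply,
      smul_eq_mul]
    have hpred : (i : ℕ) ≠ 0 → z * z ^ ((i : ℕ) - 1) = z ^ (i : ℕ) := fun hi => by
      rw [← pow_succ', Nat.sub_add_cancel (Nat.pos_of_ne_zero hi)]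
    have hlast : z * z ^ (h - 1) = z ^ h := by rw [← pow_succ', Nat.sub_add_cancel hh]
    fin_cases j
    · by_cases hi : (i : ℕ) = 0
      · simp only [Fin.zero_eta, hB0, hT, w, finRotate_symm_val, hi, pow_zero, if_pos, Fin.reduceEq,
          and_false, if_false, and_true]
        linear_combination (-(ν * v (1, (finRotate h).symm i))) * hlast
      · simp only [Fin.zero_eta, hB0, hT, w, finRotate_symm_val, hi, if_false, false_and]
        linear_combination (-(ν * v (1, (finRotate h).symm i))) * hpred hi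
    · by_cases hi : (i : ℕ) = 0
      · simp only [Fin.mk_one, hB1, hT, w, finRotate_symm_val, hi, pow_zero, if_pos, Fin.reduceEq,
          and_false, if_false, and_true]
        linear_combination (-(z ^ h * v (0, (finRotate h).symm i))) * hlast
          - v (0, (finRotate h).symm i) * hzh
      · simp only [Fin.mk_one, hB1, hT, w, finRotate_symm_val, hi, if_false, false_and]
        linear_combination (-(v (0, (finRotate h).symm i))) * hpred hi
  · obtain ⟨a, b, hab⟩ := exists_norm_eq hν d
    refine ⟨blocks fun i : Fin h => if i = ⟨0, hh⟩ then !![a, b * ν; b, a] else 1, ?_, ?_⟩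
    · simp only [blocks, LinearMap.det_toLin', Matrix.det_blockDiagonal, apply_ite Matrix.det,
        Matrix.det_one, Fintype.prod_ite_eq']
      rw [Matrix.det_fin_two_of]
      linear_combination hab
    · simp only [B, blocks, Module.End.mul_eq_comp, ← Matrix.toLin'_mul,
        ← Matrix.blockDiagonal_mul]
      congr 2
      funext i
      split_ifs with hi
      · rw [Matrix.mul_smul, Matrix.smul_mul]
        congr 1
        ext p q
        fin_cases p <;> fin_cases q <;> simp [R, Matrix.mul_apply, Fin.sum_univ_two] <;> ring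
      · rw [one_mul, mul_one]

/-- Scalars of determinant one. -/
theorem isComm_scalar [Fintype F] {V : Type*} [AddCommGroup V] [Module F V] [FiniteDimensional F V]
    (hn : 0 < finrank F V) (z : F) (hz : z ^ finrank F V = 1) :
    IsComm (z • (1 : End F V)) := by
  have key : ∀ {W : Type _} [AddCommGroup W] [Module F W] (e : W ≃ₗ[F] V),
      IsComm (z • (1 : End F W)) → IsComm (z • (1 : End F V)) := fun e he => by
    have := he.conj e
    rwa [map_smul, show (1 : End F _) = LinearMap.id from rfl, LinearEquiv.conj_id] at this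
  rcases Nat.even_or_odd (finrank F V) with ⟨h, hh⟩ | hodd
  · exact key (LinearEquiv.ofFinrankEq (Fin 2 × Fin h → F) V (by simp [hh, two_mul]))
      (isComm_scalar_even (by omega) (by rw [two_mul, ← hh, hz]))
  · exact key (finBasis F V).equivFun.symm (isComm_scalar_odd hodd hz)

end CfsgLib.KnownB.Sourour
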