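import Mathlib

/-!
# Peeling one dimension off an endomorphism

For a vector `x` and a form `φ` with `φ x = φ (A x) = 1` the complement of the leading entry `1` is
the endomorphism `schur` of `ker φ`.
-/

set_option autoImplicit false

namespace CfsgLib.KnownB.Sourour

open Module

variable {K V : Type*} [Field K] [AddCommGroup V] [Module K V]

/-- The projection onto `ker φ` along `x`. -/
def projKer (x : V) (φ : Dual K V) (hx : φ x = 1) : V →ₗ[K] LinearMap.ker φ :=
  LinearMap.codRestrict _ (LinearMap.id - φ.smulRight x) fun v => by
    simp [LinearMap.mem_ker, hx]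

theorem projKer_apply (x : V) (φ : Dual K V) (hx : φ x = 1) (v : V) :
    (projKer x φ hx v : V) = v - φ v • x := rfl

theorem projKer_coe (x : V) (φ : Dual K V) (hx : φ x = 1) (w : LinearMap.ker φ) :
    projKer x φ hx w = w := by
  apply Subtype.ext
  rw [projKer_apply, LinearMap.mem_ker.1 w.2, zero_smul, sub_zero]

theorem projKer_self (x : V) (φ : Dual K V) (hx : φ x = 1) : projKer x φ hx x = 0 := by
  apply Subtype.ext
  rw [projKer_apply, hx, one_smul, sub_self]
  rfl

/-- The complement of the leading entry `1`. -/
def schur (A : End K V) (x : V) (φ : Dual K V) (hA : φ (A x) = 1) : End K (LinearMap.ker φ) :=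
  LinearMap.codRestrict _ ((A - (φ ∘ₗ A).smulRight (A x)) ∘ₗ (LinearMap.ker φ).subtype) fun v => by
    simp [LinearMap.mem_ker, hA]

variable (A : End K V) (x : V) (φ : Dual K V) (hx : φ x = 1) (hA : φ (A x) = 1)

theorem schur_apply (v : LinearMap.ker φ) :
    (schur A x φ hA v : V) = A v - φ (A v) • A x := rfl

include hx in
theorem schur_proj (v : V) :
    (schur A x φ hA (projKer x φ hx v) : V) = A v - φ (A v) • A x := by
  rw [schur_apply, projKer_apply]
  simp only [map_sub, map_smul, smul_eq_mul, hA, mul_one]
  module

include hx in
theorem apply_eq_schur (v : V) :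
    A v = φ (A v) • A x + (schur A x φ hA (projKer x φ hx v) : V) := by
  rw [schur_proj A x φ hx hA]; abel

include hx in
/-- `A` and its complement have the same determinant. -/
theorem det_schur [FiniteDimensional K V] :
    LinearMap.det (schur A x φ hA) = LinearMap.det A := by
  let e : (K × LinearMap.ker φ) ≃ₗ[K] V := LinearEquiv.ofLinearMap
    (LinearMap.coprod (LinearMap.toSpanSingleton K V x) (LinearMap.ker φ).subtype)
    (LinearMap.prod φ (projKer x φ hx))
    (LinearMap.ext fun v => by
      simp only [LinearMap.comp_apply, LinearMap.prod_apply, Function.prod_apply,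
        LinearMap.coprod_apply, LinearMap.toSpanSingleton_apply, Submodule.coe_subtype,
        projKer_apply, LinearMap.id_apply]
      abel)
    (LinearMap.ext fun p => by
      obtain ⟨s, w⟩ := p
      simp only [LinearMap.comp_apply, LinearMap.prod_apply, Function.prod_apply,
        LinearMap.coprod_apply, LinearMap.toSpanSingleton_apply, Submodule.coe_subtype,
        map_add, map_smul, projKer_self, projKer_coe, hx, LinearMap.mem_ker.1 w.2,
        LinearMap.id_apply]
      ext <;> simp)
  let D : End K V :=
    (e : (K × LinearMap.ker φ) →ₗ[K] V) ∘ₗ (LinearMap.prodMap LinearMap.id (schur A x φ hA)) ∘ₗ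
      (e.symm : V →ₗ[K] K × LinearMap.ker φ)
  have hD : ∀ v, D v = φ v • x + (schur A x φ hA (projKer x φ hx v) : V) := fun v => rfl
  have key : A = LinearMap.transvection φ (A x - x) * D *
      LinearMap.transvection (φ ∘ₗ A - φ) x := by
    ext v
    simp only [Module.End.mul_apply, LinearMap.transvection.apply, hD, map_add, map_smul,
      LinearMap.sub_apply, LinearMap.comp_apply, hx, projKer_self, map_zero, ZeroMemClass.coe_zero]
    rw [LinearMap.mem_ker.1 (schur A x φ hA (projKer x φ hx v)).2, schur_proj A x φ hx hA]
    module
  conv_rhs => rw [key]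
  rw [map_mul, map_mul, LinearMap.transvection.det, LinearMap.transvection.det, LinearMap.det_conj,
    LinearMap.det_prodMap]
  simp [hA, hx]

/-- The kernel condition for the complement minus one. -/
theorem schur_fixed {v : LinearMap.ker φ} (hv : schur A x φ hA v = v) :
    (A - 1) (v : V) = φ (A v) • (x + (A - 1) x) := by
  have h := congrArg Subtype.val hv
  rw [schur_apply] at h
  simp only [LinearMap.sub_apply, Module.End.one_apply]
  linear_combination (norm := module) h

end CfsgLib.KnownB.Sourour
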