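import Cfsg.Agent.Lib.KnownB.Sourour.Four

/-!
# Common tools for the fields with two and three elements
-/

set_option autoImplicit false

namespace CfsgLib.KnownB.Sourour

open Module Polynomial

variable {K V : Type*} [Field K] [AddCommGroup V] [Module K V]

/-- A twist of determinant one killed by `P`. -/
def GoodP (P : K[X]) (A : End K V) : Prop :=
  ∃ T : Twist A, LinearMap.det T.L = 1 ∧ aeval T.L P = 0

theorem aeval_of_dvd {L : End K V} {P Q : K[X]} (h : P ∣ Q) (hP : aeval L P = 0) :
    aeval L Q = 0 := by
  obtain ⟨r, rfl⟩ := h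
  rw [map_mul, hP, zero_mul]

theorem charpoly_data [FiniteDimensional K V] (L : End K V) :
    ∃ P : K[X], P ≠ 0 ∧ P.natDegree = finrank K V ∧ aeval L P = 0 :=
  ⟨L.charpoly, L.charpoly_monic.ne_zero, L.charpoly_natDegree, L.aeval_self_charpoly⟩

theorem aeval_neg_comp {L : End K V} {P : K[X]} (h : aeval L P = 0) :
    aeval (-L) (P.comp (-X)) = 0 := by
  rw [aeval_comp]
  simpa using h

theorem exists_kernel_space [FiniteDimensional K V] (A : End K V) (c : K) {k r : ℕ}
    (hr : finrank K (LinearMap.range (A - c • 1)) ≤ r) (hk : k + r ≤ finrank K V) :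
    ∃ W : Submodule K V, finrank K W = k ∧ Disjoint W (W.map (A - c • 1)) :=
  exists_sub_kernel _ hr hk

/-- `A - μ` has full rank for `μ = 0`. -/
theorem rank_full [FiniteDimensional K V] {A : End K V} (hdet : LinearMap.det A = 1) :
    finrank K (LinearMap.range A) = finrank K V := by
  rw [LinearMap.range_eq_top.2 ((Module.End.isUnit_iff A).1
    ((LinearMap.isUnit_iff_isUnit_det A).2 (by rw [hdet]; exact isUnit_one))).2, finrank_top]

end CfsgLib.KnownB.Sourour
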