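import Cfsg.Agent.Lib.KnownB.Sourour.Line

/-!
# One step of the factorisation
-/

set_option autoImplicit false

namespace CfsgLib.KnownB.Sourour

open Module

variable {K V : Type*} [Field K] [AddCommGroup V] [Module K V]

/-- A leading pair adapted to `b` and `c`. -/
structure StepData (A : End K V) (b : V) (c : Dual K V) where
  x : V
  φ : Dual K V
  hx : φ x = 1
  hA : φ (A x) = 1
  hb : φ b ≠ 0
  hc : c x ≠ 0
  hcol : (A - 1) x ≠ 0
  hrow : ∃ w, φ w = 0 ∧ φ (A w) ≠ 0

/-- The complement. -/
def StepData.next {A : End K V} {b : V} {c : Dual K V} (s : StepData A b c) :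
    End K (LinearMap.ker s.φ) :=
  schur A s.x s.φ s.hA

theorem exists_row (A : End K V) (x : V) (φ : Dual K V) (hx : φ x = 1) (hA : φ (A x) = 1) {z : V}
    (hz : φ ((A - 1) z) ≠ 0) : ∃ w, φ w = 0 ∧ φ (A w) ≠ 0 := by
  refine ⟨z - φ z • x, by simp [hx], ?_⟩
  simpa [map_sub, map_smul, hA, sub_eq_zero] using hz

variable [FiniteDimensional K V]

theorem range_ne_top_of_ker (f : End K V) (h : LinearMap.ker f ≠ ⊥) : LinearMap.range f ≠ ⊤ :=
  fun ht => h (LinearMap.ker_eq_bot_iff_range_eq_top.2 ht)

theorem range_eq_top_of_ker (f : End K V) (h : LinearMap.ker f = ⊥) : LinearMap.range f = ⊤ :=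
  LinearMap.ker_eq_bot_iff_range_eq_top.1 h

omit [FiniteDimensional K V] in
theorem mem_line_of_indep {x y : V} (h : ∀ a : K, a • y ≠ x) : x ∉ K ∙ y := fun hm =>
  let ⟨a, ha⟩ := Submodule.mem_span_singleton.1 hm
  h a ha

omit [FiniteDimensional K V] in
theorem exists_notMem_line {p : Submodule K V} (hp : 2 ≤ finrank K p) (y : V) :
    ∃ v ∈ p, v ∉ K ∙ y := by
  by_contra h
  push Not at h
  have h1 := Submodule.finrank_mono (show p ≤ K ∙ y from h)
  have h2 : finrank K (K ∙ y) ≤ 1 := (finrank_span_le_card ({y} : Set V)).trans (by simp)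
  omega

/-- `A - 1` injective and `A` not scalar, in dimension two. -/
theorem exists_step_two (h4 : 4 ≤ ENat.card K) (A : End K V) (h2 : finrank K V = 2)
    (hr : 2 ≤ finrank K (LinearMap.range (A - 1))) (hns : ¬ ∃ a : K, A = a • (1 : End K V))
    (b : V) (hb : b ≠ 0) (c : Dual K V) (hc : c ≠ 0) : Nonempty (StepData A b c) := by
  have hker : LinearMap.ker (A - 1) = ⊥ := by
    have := (A - 1).finrank_range_add_finrank_ker
    exact Submodule.finrank_eq_zero.1 (by omega)
  have hsurj := range_eq_top_of_ker (A - 1) hker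
  obtain ⟨w, hw⟩ := LinearMap.range_eq_top.1 hsurj b
  obtain ⟨x, hcx, hxw, hxe⟩ := exists_noneigen h4 (A - 1) (fun ⟨a, ha⟩ => hns ⟨a + 1, by
    rw [add_smul, one_smul, ← ha, sub_add_cancel]⟩) c hc w
  have hy : (A - 1) x ≠ 0 := fun h => hxe 0 (by rw [h, zero_smul])
  have hxy : x ∉ K ∙ (A - 1) x := mem_line_of_indep fun a ha => by
    have ha0 : a ≠ 0 := fun h0 => hy (by rw [← ha, h0, zero_smul, map_zero])
    exact hxe a⁻¹ (by rw [eq_comm, inv_smul_eq_iff₀ ha0, ha])
  have hby : b ∉ K ∙ (A - 1) x := mem_line_of_indep fun a ha => by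
    rw [← hw, ← map_smul] at ha
    have := LinearMap.ker_eq_bot.1 hker ha
    have ha0 : a ≠ 0 := fun h0 => hb (by rw [← hw, ← this, h0, zero_smul, map_zero])
    exact hxw (Submodule.mem_span_singleton.2 ⟨a⁻¹, by rw [inv_smul_eq_iff₀ ha0, this]⟩)
  obtain ⟨φ, hφx, hφy, hφb, -, -⟩ := exists_phi h4 x _ b b b hxy hby hby hby
  have hA : φ (A x) = 1 := by
    rw [LinearMap.sub_apply, Module.End.one_apply, map_sub, hφx, sub_eq_zero] at hφy
    exact hφy
  obtain ⟨z, hz⟩ := LinearMap.range_eq_top.1 hsurj x
  exact ⟨⟨x, φ, hφx, hA, hφb, hcx, hy, exists_row A x φ hφx hA (z := z)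
    (by rw [hz, hφx]; exact one_ne_zero)⟩⟩

/-- In dimension three an `A` with `A - 1` injective is not annihilated by a palindromic quadratic. -/
theorem not_quadratic (A : End K V) (hdet : LinearMap.det A = 1) (h3 : finrank K V = 3)
    (hker : LinearMap.ker (A - 1) = ⊥) (hns : ¬ ∃ a : K, A = a • (1 : End K V)) (β : K) :
    (A - 1) * (A - 1) ≠ β • A := by
  intro heq
  obtain ⟨v, hv0, hv⟩ := exists_not_eigen A hns
  have h2 : A (A v) = (β + 2) • A v - v := by
    have := LinearMap.congr_fun heq v
    simp only [Module.End.mul_apply, LinearMap.sub_apply, Module.End.one_apply,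
      LinearMap.smul_apply, map_sub] at this
    linear_combination (norm := module) this
  have hli2 : LinearIndependent K ![v, A v] := by
    rw [LinearIndependent.pair_iff' hv0]
    exact fun a ha => hv a ha.symm
  have hne : Submodule.span K (Set.range ![v, A v]) ≠ ⊤ := by
    intro h
    have := finrank_range_le_card (R := K) ![v, A v]
    rw [Set.finrank, h, finrank_top, h3] at this
    simp at this
  obtain ⟨w, hw⟩ : ∃ w, w ∉ Submodule.span K (Set.range ![v, A v]) := by
    by_contra h
    push Not at h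
    exact hne (eq_top_iff.2 fun x _ => h x)
  have hli : LinearIndependent K ![v, A v, w] := by
    have : LinearIndependent K (Fin.snoc ![v, A v] w) := linearIndependent_finSnoc.2 ⟨hli2, hw⟩
    convert this using 1
    ext i
    fin_cases i <;> rfl
  let B := basisOfLinearIndependentOfCardEqFinrank hli (by simp [h3])
  have hB : ⇑B = ![v, A v, w] := coe_basisOfLinearIndependentOfCardEqFinrank hli _
  have hd := LinearMap.det_toMatrix B A
  have c0 : ∀ i, LinearMap.toMatrix B B A i 0 = if i = 1 then 1 else 0 := fun i => by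
    have he : A (B 0) = B 1 := by rw [hB]; rfl
    rw [LinearMap.toMatrix_apply, he, B.repr_self]
    rcases eq_or_ne i 1 with rfl | h <;> simp [*]
  have c1 : ∀ i, LinearMap.toMatrix B B A i 1 =
      if i = 0 then -1 else if i = 1 then β + 2 else 0 := fun i => by
    have he : A (B 1) = (β + 2) • B 1 - B 0 := by rw [hB]; exact h2
    rw [LinearMap.toMatrix_apply, he, map_sub, map_smul, B.repr_self, B.repr_self]
    fin_cases i <;> simp
  rw [Matrix.det_fin_three, c0, c0, c0, c1, c1, c1, hdet] at hd
  simp only [Fin.reduceEq, if_true, if_false] at hd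
  have hμ : LinearMap.toMatrix B B A 2 2 = 1 := by linear_combination hd
  rw [LinearMap.toMatrix_apply] at hμ
  -- the image of `A - 1` misses `w`
  have hsurj := range_eq_top_of_ker (A - 1) hker
  obtain ⟨z, hz⟩ := LinearMap.range_eq_top.1 hsurj (B 2)
  have hcoord : ∀ u, B.repr ((A - 1) u) 2 = 0 := by
    intro u
    have he : B.coord 2 ∘ₗ (A - 1) = 0 := B.ext fun j => by
      simp only [LinearMap.comp_apply, Basis.coord_apply, LinearMap.sub_apply,
        Module.End.one_apply, map_sub, LinearMap.zero_apply,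
        B.repr_self]
      have e0 := c0 2
      have e1 := c1 2
      rw [LinearMap.toMatrix_apply] at e0 e1
      fin_cases j
      · simp [e0]
      · simp [e1]
      · simp [hμ]
    exact LinearMap.congr_fun he u
  have := hcoord z
  rw [hz, B.repr_self] at this
  simp at this

/-- One step in dimension at least three. -/
theorem exists_step (h4 : 4 ≤ ENat.card K) (A : End K V) (h3 : 3 ≤ finrank K V)
    (hdet : LinearMap.det A = 1)
    (hr : 2 ≤ finrank K (LinearMap.range (A - 1))) (hns : ¬ ∃ a : K, A = a • (1 : End K V))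
    (b : V) (hb : b ≠ 0) (c : Dual K V) (hc : c ≠ 0) :
    ∃ s : StepData A b c, 2 ≤ finrank K (LinearMap.range (s.next - 1)) ∧
      ¬ ∃ l : K, s.next = l • 1 := by
  by_cases hker : LinearMap.ker (A - 1) = ⊥
  · -- `A - 1` bijective
    have hsurj := LinearMap.range_eq_top.1 (range_eq_top_of_ker (A - 1) hker)
    obtain ⟨Ai, hAi⟩ : ∃ Ai : End K V, ∀ v, Ai (A v) = v := by
      have hb' : Function.Bijective A := (Module.End.isUnit_iff A).1
        ((LinearMap.isUnit_iff_isUnit_det A).2 (by rw [hdet]; exact isUnit_one))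
      exact ⟨(LinearEquiv.ofBijective A hb').symm, fun v =>
        (LinearEquiv.ofBijective A hb').symm_apply_apply v⟩
    let Q : End K V := if finrank K V = 3 then Ai * ((A - 1) * (A - 1)) else A - 1
    have hQ : ¬ ∃ a : K, Q = a • (1 : End K V) := by
      rintro ⟨a, ha⟩
      by_cases hn3 : finrank K V = 3
      · refine not_quadratic A hdet hn3 hker hns a (LinearMap.ext fun v => ?_)
        have h := congrArg A (LinearMap.congr_fun ha v)
        obtain ⟨u, hu⟩ : ∃ u, A u = ((A - 1) * (A - 1)) v :=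
          (LinearMap.surjective_of_injective (Function.LeftInverse.injective hAi)) _
        simp only [Q, if_pos hn3, Module.End.mul_apply, LinearMap.smul_apply,
          Module.End.one_apply, map_smul] at h
        rw [Module.End.mul_apply] at hu
        rw [← hu, hAi, hu] at h
        rw [Module.End.mul_apply, LinearMap.smul_apply]
        exact h
      · simp only [Q, if_neg hn3] at ha
        exact hns ⟨a + 1, by rw [add_smul, one_smul, ← ha, sub_add_cancel]⟩
    obtain ⟨w, hw⟩ := hsurj b
    obtain ⟨x, hcx, hxw, hxe⟩ := exists_noneigen h4 Q hQ c hc w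
    have hxe' : ∀ μ : K, (A - 1) x ≠ μ • x := by
      intro μ hμ
      by_cases hn3 : finrank K V = 3
      · have hAx : A x = (1 + μ) • x := by
          rw [LinearMap.sub_apply, Module.End.one_apply, sub_eq_iff_eq_add] at hμ
          rw [hμ]; module
        have h1 : Ai ((A - 1) ((A - 1) x)) = (μ * μ) • Ai x := by
          rw [hμ, map_smul, hμ, smul_smul, map_smul]
        have hm : 1 + μ ≠ 0 := fun h0 => hxw (by
          have : A x = 0 := by rw [hAx, h0, zero_smul]
          rw [← hAi x, this, map_zero]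
          exact zero_mem _)
        have h2 : Ai x = (1 + μ)⁻¹ • x := by
          rw [eq_inv_smul_iff₀ hm, ← map_smul, ← hAx, hAi]
        exact hxe (μ * μ * (1 + μ)⁻¹)
          (by simp only [Q, if_pos hn3, Module.End.mul_apply]; rw [h1, h2, smul_smul])
      · exact hxe μ (by simpa [Q, if_neg hn3] using hμ)
    have hy : (A - 1) x ≠ 0 := fun h => hxe' 0 (by rw [h, zero_smul])
    have hxy : x ∉ K ∙ (A - 1) x := mem_line_of_indep fun a ha => by
      have ha0 : a ≠ 0 := fun h0 => hy (by rw [← ha, h0, zero_smul, map_zero])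
      exact hxe' a⁻¹ (by rw [eq_comm, inv_smul_eq_iff₀ ha0, ha])
    have hby : b ∉ K ∙ (A - 1) x := mem_line_of_indep fun a ha => by
      rw [← hw, ← map_smul] at ha
      have := LinearMap.ker_eq_bot.1 hker ha
      have ha0 : a ≠ 0 := fun h0 => hb (by rw [← hw, ← this, h0, zero_smul, map_zero])
      exact hxw (Submodule.mem_span_singleton.2 ⟨a⁻¹, by rw [inv_smul_eq_iff₀ ha0, this]⟩)
    obtain ⟨u, hu⟩ := hsurj (x + (A - 1) x)
    -- in dimension three `φ u ≠ 0` is needed
    obtain ⟨v₂, hv₂, hv₂3⟩ : ∃ v₂, v₂ ∉ K ∙ (A - 1) x ∧ (finrank K V = 3 → v₂ = u) := by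
      by_cases hn3 : finrank K V = 3
      · refine ⟨u, mem_line_of_indep fun a ha => ?_, fun _ => rfl⟩
        rw [← ha, map_smul] at hu
        have hAx : x + (A - 1) x = A x := by
          rw [LinearMap.sub_apply, Module.End.one_apply]; abel
        rw [hAx] at hu
        have h := congrArg Ai hu
        rw [map_smul, hAi] at h
        have ha0 : a ≠ 0 := fun h0 => hy (by
          rw [h0, zero_smul] at h; rw [← h, map_zero])
        exact hxe a⁻¹ (by
          simp only [Q, if_pos hn3, Module.End.mul_apply]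
          rw [eq_inv_smul_iff₀ ha0, h])
      · exact ⟨b, hby, fun h => absurd h hn3⟩
    obtain ⟨φ, hA, hφx, hφb, hφ2, -, hφns⟩ := exists_phi_nonscalar A h4 hdet h3 x b v₂ v₂ hxy hy
      hby hv₂ hv₂ (fun φ hA hφx _ h2 _ => by
        by_cases hn3 : finrank K V = 3
        · have := rank_schur_of_injective' A x φ hφx hA hker hu (hv₂3 hn3 ▸ h2)
          omega
        · have := rank_schur_of_injective A x φ hφx hA hker
          omega)
    obtain ⟨z, hz⟩ := hsurj x
    have hr' : 2 ≤ finrank K (LinearMap.range (schur A x φ hA - 1)) := by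
      by_cases hn3 : finrank K V = 3
      · have := rank_schur_of_injective' A x φ hφx hA hker hu (hv₂3 hn3 ▸ hφ2)
        omega
      · have := rank_schur_of_injective A x φ hφx hA hker
        omega
    exact ⟨⟨x, φ, hφx, hA, hφb, hcx, hy, exists_row A x φ hφx hA (z := z)
      (by rw [hz, hφx]; exact one_ne_zero)⟩, hr', hφns⟩
  · -- `A - 1` singular
    obtain ⟨X, hX, hXspec⟩ : ∃ X : Submodule K V, X ≠ ⊤ ∧ (finrank K (LinearMap.ker (A - 1)) = 1 →
        X = LinearMap.ker ((A - 1) * (A - 1))) := by
      by_cases hk : finrank K (LinearMap.ker (A - 1)) = 1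
      · refine ⟨_, fun htop => ?_, fun _ => rfl⟩
        have hle : LinearMap.range (A - 1) ≤ LinearMap.ker (A - 1) := by
          rintro _ ⟨u, rfl⟩
          exact (htop.symm ▸ Submodule.mem_top : u ∈ LinearMap.ker ((A - 1) * (A - 1)))
        have := Submodule.finrank_mono hle
        omega
      · refine ⟨⊥, fun h => ?_, fun h => absurd h hk⟩
        have := finrank_top K V
        rw [← h, finrank_bot] at this
        omega
    have hW : (K ∙ b).comap (A - 1) ≠ ⊤ := by
      intro htop
      have hle : LinearMap.range (A - 1) ≤ K ∙ b := by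
        rintro _ ⟨u, rfl⟩
        exact (htop.symm ▸ Submodule.mem_top : u ∈ (K ∙ b).comap (A - 1))
      have := Submodule.finrank_mono hle
      have : finrank K (K ∙ b) ≤ 1 := (finrank_span_le_card ({b} : Set V)).trans (by simp)
      omega
    have hcker : LinearMap.ker c ≠ ⊤ := fun h => hc (LinearMap.ker_eq_top.1 h)
    obtain ⟨x, hxc, hxW, hxr, hxX⟩ := avoid_four h4 _ _ _ _ hcker hW (range_ne_top_of_ker _ hker) hX
    have hy : (A - 1) x ≠ 0 := fun h => hxW (by rw [Submodule.mem_comap, h]; exact zero_mem _)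
    have hxy : x ∉ K ∙ (A - 1) x := mem_line_of_indep fun a ha =>
      hxr (ha ▸ Submodule.smul_mem _ _ (LinearMap.mem_range_self _ x))
    have hby : b ∉ K ∙ (A - 1) x := mem_line_of_indep fun a ha => by
      have ha0 : a ≠ 0 := fun h0 => hb (by rw [← ha, h0, zero_smul])
      exact hxW (by
        rw [Submodule.mem_comap, Submodule.mem_span_singleton]
        exact ⟨a⁻¹, by rw [inv_smul_eq_iff₀ ha0, ha]⟩)
    obtain ⟨u, hu, huy⟩ : ∃ u ∈ LinearMap.ker (A - 1), u ∉ K ∙ (A - 1) x := by
      by_cases hk : finrank K (LinearMap.ker (A - 1)) = 1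
      · obtain ⟨u, hu, hu0⟩ := Submodule.exists_mem_ne_zero_of_ne_bot hker
        refine ⟨u, hu, mem_line_of_indep fun a ha => ?_⟩
        rw [hXspec hk] at hxX
        refine hxX ?_
        rw [LinearMap.mem_ker, Module.End.mul_apply]
        rw [← ha, LinearMap.mem_ker, map_smul] at hu
        exact (smul_eq_zero.1 hu).resolve_left fun h0 => hu0 (by rw [← ha, h0, zero_smul])
      · refine exists_notMem_line ?_ _
        have : finrank K (LinearMap.ker (A - 1)) ≠ 0 := fun h => hker (Submodule.finrank_eq_zero.1 h)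
        omega
    obtain ⟨z', ⟨z, rfl⟩, hzy⟩ := exists_notMem_line hr ((A - 1) x)
    obtain ⟨φ, hA, hφx, hφb, hφu, hφz, hφns⟩ := exists_phi_nonscalar A h4 hdet h3 x b u
      ((A - 1) z) hxy hy hby huy hzy (fun φ hA hφx _ h2 _ => by
        rw [rank_schur_of_kernel A x φ hφx hA hxr hu h2]; exact hr)
    have hr' : 2 ≤ finrank K (LinearMap.range (schur A x φ hA - 1)) := by
      rw [rank_schur_of_kernel A x φ hφx hA hxr hu hφu]
      exact hr
    exact ⟨⟨x, φ, hφx, hA, hφb, fun h => hxc h, hy, exists_row A x φ hφx hA hφz⟩, hr', hφns⟩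

end CfsgLib.KnownB.Sourour
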