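import Cfsg.Agent.Lib.KnownB.Sourour.Twist

/-!
# Finding a scalar top block
-/

set_option autoImplicit false

namespace CfsgLib.KnownB.Sourour

open Module Polynomial

variable {K V : Type*} [Field K] [AddCommGroup V] [Module K V] [FiniteDimensional K V]

/-- Either a `k`-space meeting its image trivially, or `N` is close to a scalar. -/
theorem exists_disjoint_image (N : End K V) (k : ℕ) (hk : 2 * k ≤ finrank K V) :
    (∃ W : Submodule K V, finrank K W = k ∧ Disjoint W (W.map N)) ∨
      ∃ μ : K, finrank K (LinearMap.range (N - μ • 1)) + 2 ≤ 2 * k := by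
  induction k with
  | zero => exact Or.inl ⟨⊥, by simp, disjoint_bot_left⟩
  | succ k ih =>
    rcases ih (by omega) with ⟨W, hW, hdisj⟩ | ⟨μ, hμ⟩
    swap
    · exact Or.inr ⟨μ, by omega⟩
    let S := W ⊔ W.map N
    have hS : finrank K S ≤ 2 * k := by
      change finrank K ↥(W ⊔ W.map N) ≤ 2 * k
      have h1 := Submodule.finrank_add_le_finrank_add_finrank W (W.map N)
      have h2 := Submodule.finrank_map_le N W
      omega
    by_cases hgood : ∃ v, v ∉ S ∧ N v ∉ S ⊔ K ∙ v
    · obtain ⟨v, hvS, hNv⟩ := hgood
      refine Or.inl ⟨W ⊔ K ∙ v, ?_, ?_⟩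
      · have h0 : W ⊓ K ∙ v = ⊥ := by
          rw [eq_bot_iff]
          rintro x ⟨hxW, hxv⟩
          obtain ⟨a, rfl⟩ := Submodule.mem_span_singleton.1 hxv
          by_cases ha : a = 0
          · simp [ha]
          · exact absurd (Submodule.mem_sup_left ((W.smul_mem_iff ha).1 hxW)) hvS
        have := Submodule.finrank_sup_add_finrank_inf_eq W (K ∙ v)
        rw [h0, finrank_bot, hW, finrank_span_singleton (fun h => hvS (by rw [h]; exact S.zero_mem))] at this
        omega
      · rw [Submodule.map_sup, Submodule.map_span, Set.image_singleton, disjoint_iff, eq_bot_iff]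
        rintro x ⟨hx1, hx2⟩
        obtain ⟨w, hw, _, hav, rfl⟩ := Submodule.mem_sup.1 hx1
        obtain ⟨a, rfl⟩ := Submodule.mem_span_singleton.1 hav
        obtain ⟨y, hy, _, hbv, hxy⟩ := Submodule.mem_sup.1 hx2
        obtain ⟨b, rfl⟩ := Submodule.mem_span_singleton.1 hbv
        have hb : b = 0 := by
          by_contra hb
          refine hNv ((Submodule.smul_mem_iff _ hb).1 ?_)
          rw [show b • N v = w + a • v - y by rw [← hxy]; abel]
          exact sub_mem (add_mem (Submodule.mem_sup_left (Submodule.mem_sup_left hw))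
            (Submodule.mem_sup_right (Submodule.smul_mem _ _ (Submodule.mem_span_singleton_self v))))
            (Submodule.mem_sup_left (Submodule.mem_sup_right hy))
        rw [hb, zero_smul, add_zero] at hxy
        have ha : a = 0 := by
          by_contra ha
          refine hvS ((S.smul_mem_iff ha).1 ?_)
          rw [show a • v = y - w by rw [hxy]; abel]
          exact sub_mem (Submodule.mem_sup_right hy) (Submodule.mem_sup_left hw)
        rw [ha, zero_smul, add_zero] at hxy ⊢
        exact (Submodule.mem_bot K).2 (Submodule.disjoint_def.1 hdisj w hw (hxy ▸ hy))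
    · push Not at hgood
      -- `N` is scalar modulo `S`
      have hcod : finrank K S + 2 ≤ finrank K V := by omega
      obtain ⟨v₀, hv₀⟩ : ∃ v, v ∉ S := by
        by_contra h
        push Not at h
        have : S = ⊤ := eq_top_iff.2 fun x _ => h x
        rw [this, finrank_top] at hcod
        omega
      have hSS : ∀ s ∈ S, N s ∈ S := by
        intro s hs
        obtain ⟨v₁, hv₁⟩ : ∃ v, v ∉ S ⊔ K ∙ v₀ := by
          by_contra h
          push Not at h
          have htop : S ⊔ K ∙ v₀ = ⊤ := eq_top_iff.2 fun x _ => h x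
          have := Submodule.finrank_add_le_finrank_add_finrank S (K ∙ v₀)
          rw [htop, finrank_top, finrank_span_singleton (fun h0 => hv₀ (by rw [h0]; exact S.zero_mem))] at this
          omega
        have key : ∀ v, v ∉ S → N s ∈ S ⊔ K ∙ v := by
          intro v hv
          have h1 := hgood v hv
          have h2 := hgood (v + s) (fun h => hv (by simpa using sub_mem h hs))
          have he : S ⊔ K ∙ (v + s) ≤ S ⊔ K ∙ v := by
            refine sup_le le_sup_left ((Submodule.span_singleton_le_iff_mem _ _).2 ?_)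
            exact add_mem (Submodule.mem_sup_right (Submodule.mem_span_singleton_self v))
              (Submodule.mem_sup_left hs)
          simpa using sub_mem (he h2) h1
        obtain ⟨s₀, hs₀, _, ha, e0⟩ := Submodule.mem_sup.1 (key v₀ hv₀)
        obtain ⟨a, rfl⟩ := Submodule.mem_span_singleton.1 ha
        obtain ⟨s₁, hs₁, _, hb, e1⟩ :=
          Submodule.mem_sup.1 (key v₁ (fun h => hv₁ (Submodule.mem_sup_left h)))
        obtain ⟨b, rfl⟩ := Submodule.mem_span_singleton.1 hb
        have hb0 : b = 0 := by
          by_contra hb0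
          refine hv₁ ((Submodule.smul_mem_iff _ hb0).1 ?_)
          rw [show b • v₁ = s₀ + a • v₀ - s₁ by rw [e0, ← e1]; abel]
          exact sub_mem (add_mem (Submodule.mem_sup_left hs₀)
            (Submodule.mem_sup_right (Submodule.smul_mem _ _ (Submodule.mem_span_singleton_self v₀))))
            (Submodule.mem_sup_left hs₁)
        rw [← e1, hb0, zero_smul, add_zero]
        exact hs₁
      let Nq : End K (V ⧸ S) := S.mapQ S N hSS
      have hscal : ∃ μ : K, Nq = μ • 1 := by
        by_contra hns
        obtain ⟨q, hq0, hq⟩ := exists_not_eigen Nq hns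
        obtain ⟨v, rfl⟩ := Submodule.Quotient.mk_surjective S q
        have hv : v ∉ S := fun h => hq0 ((Submodule.Quotient.mk_eq_zero S).2 h)
        obtain ⟨s, hs, _, ha, e⟩ := Submodule.mem_sup.1 (hgood v hv)
        obtain ⟨a, rfl⟩ := Submodule.mem_span_singleton.1 ha
        refine hq a ?_
        change Submodule.Quotient.mk (N v) = _
        rw [← e, Submodule.Quotient.mk_add, (Submodule.Quotient.mk_eq_zero S).2 hs, zero_add,
          Submodule.Quotient.mk_smul]
      obtain ⟨μ, hμ⟩ := hscal
      refine Or.inr ⟨μ, ?_⟩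
      have hle : LinearMap.range (N - μ • 1) ≤ S := by
        rintro _ ⟨v, rfl⟩
        rw [← Submodule.Quotient.mk_eq_zero, LinearMap.sub_apply, LinearMap.smul_apply,
          Module.End.one_apply, Submodule.Quotient.mk_sub, Submodule.Quotient.mk_smul, sub_eq_zero]
        exact LinearMap.congr_fun hμ (Submodule.Quotient.mk v)
      have := Submodule.finrank_mono hle
      omega

/-- A `k`-space inside a kernel. -/
theorem exists_sub_kernel (N : End K V) {k r : ℕ}
    (hr : finrank K (LinearMap.range N) ≤ r) (hk : k + r ≤ finrank K V) :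
    ∃ W : Submodule K V, finrank K W = k ∧ Disjoint W (W.map N) := by
  have h1 := N.finrank_range_add_finrank_ker
  obtain ⟨f, hf⟩ := exists_linearIndependent_of_le_finrank (R := K) (M := LinearMap.ker N)
    (n := k) (by omega)
  have hf' : LinearIndependent K (fun i => (f i : V)) :=
    hf.map' (LinearMap.ker N).subtype (Submodule.ker_subtype _)
  refine ⟨Submodule.span K (Set.range fun i => (f i : V)), ?_, ?_⟩
  · rw [finrank_span_eq_card hf', Fintype.card_fin]
  · have hm : (Submodule.span K (Set.range fun i => (f i : V))).map N = ⊥ := by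
      rw [eq_bot_iff, Submodule.map_le_iff_le_comap, Submodule.span_le]
      rintro _ ⟨i, rfl⟩
      exact (f i).2
    rw [hm]
    exact disjoint_bot_right

/-- Block coordinates for a `k`-space meeting its `(A - c)`-image trivially. -/
theorem exists_blockMap (A : End K V) {c : K} (hc : c ≠ 0) (W U : Submodule K V) (h : IsCompl W U)
    (hWU : ∀ w ∈ W, A w - c • w ∈ U) :
    ∃ (p : U →ₗ[K] W) (b : W →ₗ[K] U) (R : End K U),
      A = (W.prodEquivOfIsCompl U h).conj (blockMap c p b R) ∧
        c ^ finrank K W * LinearMap.det (R - c⁻¹ • (b ∘ₗ p)) = LinearMap.det A := by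
  let φ := W.prodEquivOfIsCompl U h
  let A' : End K (W × U) := φ.symm.conj A
  have hA : φ.conj A' = A := LinearMap.ext fun v => by simp [A']
  refine ⟨LinearMap.fst K W U ∘ₗ A' ∘ₗ LinearMap.inr K W U,
    LinearMap.snd K W U ∘ₗ A' ∘ₗ LinearMap.inl K W U,
    LinearMap.snd K W U ∘ₗ A' ∘ₗ LinearMap.inr K W U, ?_⟩
  have hkey : blockMap c (LinearMap.fst K W U ∘ₗ A' ∘ₗ LinearMap.inr K W U)
      (LinearMap.snd K W U ∘ₗ A' ∘ₗ LinearMap.inl K W U)
      (LinearMap.snd K W U ∘ₗ A' ∘ₗ LinearMap.inr K W U) = A' := by
    have hw : ∀ w : W, (A' (w, 0)).1 = c • w := by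
      intro w
      have hu := hWU w w.2
      have : A' (w, 0) = (c • w, ⟨A w - c • w, hu⟩) := by
        apply φ.injective
        simp only [A', LinearEquiv.conj_apply_apply, LinearEquiv.symm_symm,
          LinearEquiv.apply_symm_apply]
        simp [φ, Submodule.coe_prodEquivOfIsCompl']
      rw [this]
    refine LinearMap.ext fun x => ?_
    obtain ⟨w, u⟩ := x
    have hx : A' (w, u) = A' (w, 0) + A' (0, u) := by rw [← map_add, Prod.mk_add_mk, add_zero, zero_add]
    rw [blockMap_apply, hx]
    exact Prod.ext (by simp [hw]) (by simp)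
  refine ⟨?_, ?_⟩
  · rw [hkey]; exact hA.symm
  · rw [← det_blockMap hc, hkey, det_equivConj]

omit [FiniteDimensional K V] in
/-- A complement containing the image. -/
theorem exists_complement (N : End K V) (W : Submodule K V) (hd : Disjoint W (W.map N)) :
    ∃ U : Submodule K V, IsCompl W U ∧ W.map N ≤ U := by
  obtain ⟨C, hC⟩ := Submodule.exists_isCompl (W ⊔ W.map N)
  refine ⟨W.map N ⊔ C, ⟨hd.disjoint_sup_right_of_disjoint_sup_left hC.disjoint, ?_⟩, le_sup_left⟩
  rw [codisjoint_iff, ← sup_assoc]
  exact hC.sup_eq_top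

/-- The composite step: a twist of the complement and a block give a twist. -/
theorem peelAt (A : End K V) {c : K} (hc : c ≠ 0) (W U : Submodule K V) (hcompl : IsCompl W U)
    (hWU : ∀ w ∈ W, A w - c • w ∈ U) (hdet : LinearMap.det A = 1) :
    ∃ M : End K U, LinearMap.det M = (c ^ finrank K W)⁻¹ ∧
      ∀ (β : Block K W c) (T : Twist M), Function.Injective (aeval T.L β.g) →
        ∃ T' : Twist A, LinearMap.det T'.L = LinearMap.det β.B * LinearMap.det T.L ∧
          ∀ P : K[X], aeval T.L P = 0 → aeval T'.L (β.g * P) = 0 := by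
  obtain ⟨p, b, R, hA, hd⟩ := exists_blockMap A hc W U hcompl hWU
  refine ⟨R - c⁻¹ • (b ∘ₗ p), ?_, fun β T hinj => ?_⟩
  · rw [hdet] at hd
    exact eq_inv_of_mul_eq_one_right hd
  · obtain ⟨T', h1, h2⟩ := peel hc β p b R T hinj
    subst hA
    exact ⟨T'.map _, by
        change LinearMap.det ((W.prodEquivOfIsCompl U hcompl).conj T'.L) = _
        rw [det_equivConj, h1],
      fun P hP => T'.map_aeval _ _ (h2 P hP)⟩

end CfsgLib.KnownB.Sourour
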